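import Cfsg.Agent.StdU3.Tower.TwoCl

/-!
# The outer involutions of `C(t)` on the terminal group `U = P M` of the tower
-/

set_option autoImplicit false
set_option linter.unusedSectionVars false
set_option linter.dupNamespace false

namespace Cfsg.Agent.StdU3.Tower.OuterU

open Cfsg.Agent.StdU3.Field Cfsg.Agent.StdU3.PreDef Cfsg.Agent.StdU3.LevelOne
open Cfsg.Agent.StdU3.LevelOneW Cfsg.Agent.StdU3.Next Cfsg.Agent.StdU3.Card
open Cfsg.Agent.StdU3.TermTwo Cfsg.Agent.StdU3.Tower.Cen Cfsg.Agent.StdU3.Tower.Two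
open Cfsg.Agent.StdU3.Tower.TwoCl Cfsg.Agent.StdU3.Outer

variable {G : Type*} [Group G] {K : Type*} [Field K] [Fintype K] [CharP K 2] {n : ℕ}
variable {D : Pre G K n} {O : Subgroup G} (C : Cen D O)

/-- an outer involution of `C(t)`, normalising `U`. -/
structure OutU (x : G) (c : K) : Prop where
  comm : x * D.t = D.t * x
  sq : x * x = 1
  P_mem : ∀ p ∈ D.P, x * p * x⁻¹ ∈ D.P
  ca_conj : ∀ p ∈ D.P, D.ca (x * p * x⁻¹) = c * bar n (D.ca p)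
  U_mem : ∀ g ∈ U C, x * g * x⁻¹ ∈ U C

/-- fixed units have fixed square roots. -/
theorem exists_root (hq : Qd K n) {l : Kˣ} (hl : bar n (l : K) = l) :
    ∃ m : Kˣ, bar n (m : K) = m ∧ m * m = l := by
  obtain ⟨m, hm, h4⟩ := Outer.exists_fourth hq hl
  have hm0 : m ≠ 0 := by
    rintro rfl
    rw [zero_pow (by norm_num)] at h4
    exact l.ne_zero h4.symm
  refine ⟨Units.mk0 (m ^ 2) (pow_ne_zero 2 hm0), ?_, ?_⟩
  · rw [Units.val_mk0, bar_pow, hm]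
  · apply Units.val_injective
    rw [Units.val_mul, Units.val_mk0, ← h4]; ring

/-! ### The torus on `U` -/

theorem cj_one_M {m : G} (hm : m ∈ C.M) : cj C 1 m = m := by
  have e3 := cj_cj C 1 1 hm
  rw [mul_one] at e3
  unfold cj at e3 ⊢
  exact mul_left_cancel (mul_right_cancel e3)

theorem cj_one_P (hO : Amb D O) {p : G} (hp : p ∈ D.P) : cj C 1 p = p := by
  rw [cj_P C hO 1 hp]
  have e3 := D.h_mul 1 1 p (D.P_le hp)
  rw [mul_one] at e3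
  exact (mul_left_cancel (mul_right_cancel e3)).symm

theorem cj_cj_P (hO : Amb D O) (l l' : Kˣ) {p : G} (hp : p ∈ D.P) :
    cj C l (cj C l' p) = cj C (l * l') p := by
  rw [cj_P C hO l' hp, cj_P C hO l (D.h_P l' p hp), cj_P C hO (l * l') hp]
  exact (D.h_mul l l' p (D.P_le hp)).symm

theorem cj_cj_U (hO : Amb D O) (l l' : Kˣ) {g : G} (hg : g ∈ U C) :
    cj C l (cj C l' g) = cj C (l * l') g := by
  obtain ⟨p, hp, m, hm, rfl⟩ := hg
  rw [cj_mul, cj_mul, cj_mul, cj_cj_P C hO l l' hp, cj_cj C l l' hm]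

theorem cj_one_U (hO : Amb D O) {g : G} (hg : g ∈ U C) : cj C 1 g = g := by
  obtain ⟨p, hp, m, hm, rfl⟩ := hg
  rw [cj_mul, cj_one_P C hO hp, cj_one_M C hm]

theorem h_comm_t (hO : Amb D O) (l : Kˣ) : C.h l * D.t = D.t * C.h l := by
  obtain ⟨c, hc, he⟩ := C.h_eq l
  rw [he, mul_assoc, ← D.t_h l, ← mul_assoc, hO.O_t c hc, mul_assoc]

/-- `t` commutes with the torus. -/
theorem cj_t (hO : Amb D O) (l : Kˣ) (g : G) :
    cj C l (D.t * g * D.t⁻¹) = D.t * cj C l g * D.t⁻¹ := by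
  have h1 := h_comm_t C hO l
  have h2 : D.t⁻¹ * (C.h l)⁻¹ = (C.h l)⁻¹ * D.t⁻¹ := by
    rw [← mul_inv_rev, ← mul_inv_rev, h1]
  unfold cj
  calc C.h l * (D.t * g * D.t⁻¹) * (C.h l)⁻¹
      = (C.h l * D.t) * g * (D.t⁻¹ * (C.h l)⁻¹) := by group
    _ = _ := by rw [h1, h2]; group

theorem t_t (g : G) : D.t * (D.t * g * D.t⁻¹) * D.t⁻¹ = g := by
  have h1 : D.t * (D.t * g * D.t⁻¹) * D.t⁻¹ = (D.t * D.t) * g * (D.t * D.t)⁻¹ := by group
  rw [h1, D.t_sq]; group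

variable {C} {x : G} {c : K} (h : OutU C x c)

include h

theorem OutU.inv_eq : x⁻¹ = x := by rw [inv_eq_iff_mul_eq_one, h.sq]

theorem OutU.x_x (g : G) : x * (x * g * x⁻¹) * x⁻¹ = g := by
  have h1 : x * (x * g * x⁻¹) * x⁻¹ = (x * x) * g * (x * x)⁻¹ := by group
  rw [h1, h.sq]; group

theorem OutU.conj_t : x * D.t * x⁻¹ = D.t := by rw [h.comm]; group

theorem OutU.N_c : N n c = 1 := by
  obtain ⟨p, hp, hp1⟩ := D.ca_surj 1
  have h1 := h.ca_conj _ (h.P_mem p hp)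
  rw [h.x_x, h.ca_conj p hp, hp1, bar_one, mul_one] at h1
  rw [N_def]
  exact h1.symm

theorem OutU.c_ne : c ≠ 0 := by
  rintro rfl
  have := h.N_c
  rw [N_zero] at this
  exact zero_ne_one this

theorem OutU.conj_z (b : K) : x * D.z b * x⁻¹ = D.z b := by
  obtain ⟨b', hb', hbb⟩ := z_fixed D b
  rw [hbb]
  obtain ⟨y, rfl⟩ := exists_norm D.hq hb'
  obtain ⟨p, hp, rfl⟩ := D.ca_surj y
  rw [← D.P_sq p hp, NormQ.conj_mul, D.P_sq _ (h.P_mem p hp), h.ca_conj p hp, N_mul, h.N_c,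
    one_mul, N_bar D.hq, D.P_sq p hp]

theorem OutU.comm_z (b : K) : x * D.z b = D.z b * x := mul_inv_eq_iff_eq_mul.mp (h.conj_z b)

/-- `x` inverts the preimage of the fixed line. -/
theorem OutU.inverts {p : G} (hp : p ∈ D.P) (hl : c * bar n (D.ca p) = D.ca p) :
    x * p * x⁻¹ = p⁻¹ := by
  obtain ⟨r, hr⟩ := exists_coboundary D.hq h.N_c hl
  obtain ⟨p1, hp1, rfl⟩ := D.ca_surj r
  have hm : p1⁻¹ * (x * p1 * x⁻¹) ∈ D.P := mul_mem (inv_mem hp1) (h.P_mem p1 hp1)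
  have hca : D.ca (p1⁻¹ * (x * p1 * x⁻¹)) = D.ca p := by
    rw [D.ca_mul _ (inv_mem hp1) _ (h.P_mem p1 hp1), ca_inv D hp1, h.ca_conj p1 hp1, hr]
  obtain ⟨b, hb, h1⟩ := eq_z_mul D hp hm hca.symm
  have h2 : x * (p1⁻¹ * (x * p1 * x⁻¹)) * x⁻¹ = (p1⁻¹ * (x * p1 * x⁻¹))⁻¹ := by
    have e1 : x * (p1⁻¹ * (x * p1 * x⁻¹)) * x⁻¹ = x * p1⁻¹ * (x * p1 * (x * x)⁻¹) := by group
    have e2 : (p1⁻¹ * (x * p1 * x⁻¹))⁻¹ = x * p1⁻¹ * (x⁻¹ * p1) := by group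
    rw [e1, e2, h.sq, inv_one, mul_one, h.inv_eq]
  have h3 : (D.z b * (p1⁻¹ * (x * p1 * x⁻¹)))⁻¹ = D.z b * (p1⁻¹ * (x * p1 * x⁻¹))⁻¹ := by
    rw [mul_inv_rev (D.z b), z_inv, D.Q_Z _ (inv_mem (D.P_le hm))]
  rw [h1, NormQ.conj_mul, h.conj_z, h2, h3]

/-- the elements `p x`, `p` in the preimage of the fixed line, are conjugate to `x` under `P`. -/
theorem OutU.conj_P {p : G} (hp : p ∈ D.P) (hl : c * bar n (D.ca p) = D.ca p) :
    ∃ y ∈ D.P, y * x * y⁻¹ = p * x := by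
  obtain ⟨r, hr⟩ := exists_coboundary D.hq h.N_c hl
  obtain ⟨p1, hp1, rfl⟩ := D.ca_surj r
  have hm : p1⁻¹ * (x * p1 * x⁻¹) ∈ D.P := mul_mem (inv_mem hp1) (h.P_mem p1 hp1)
  have hca : D.ca (p1⁻¹ * (x * p1 * x⁻¹)) = D.ca p := by
    rw [D.ca_mul _ (inv_mem hp1) _ (h.P_mem p1 hp1), ca_inv D hp1, h.ca_conj p1 hp1, hr]
  obtain ⟨b, hb, h1⟩ := eq_z_mul D hp hm hca.symm
  obtain ⟨s, hs, hsb⟩ := exists_N_line D.hq h.N_c hb
  obtain ⟨p2, hp2, rfl⟩ := D.ca_surj s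
  -- `p2 x p2⁻¹ = p2² x = z b x`
  have h2 : p2 * x * p2⁻¹ = D.z b * x := by
    have e1 := h.inverts (inv_mem hp2) (by rw [ca_inv D hp2]; exact hs)
    have e2 : x * p2⁻¹ = p2 * x := by
      have := mul_inv_eq_iff_eq_mul.mp e1
      rw [this, inv_inv]
    rw [mul_assoc, e2, ← mul_assoc, D.P_sq p2 hp2, hsb]
  refine ⟨p1⁻¹ * p2, mul_mem (inv_mem hp1) hp2, ?_⟩
  have h3 : p1⁻¹ * p2 * x * (p1⁻¹ * p2)⁻¹ = p1⁻¹ * (p2 * x * p2⁻¹) * p1 := by group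
  rw [h3, h2, h1]
  have h4 : p1⁻¹ * D.z b = D.z b * p1⁻¹ := D.Q_Z _ (inv_mem (D.P_le hp1)) b
  have h5 : p1⁻¹ * (D.z b * x) * p1 = (p1⁻¹ * D.z b) * x * p1 := by group
  rw [h5, h4]; group

theorem OutU.M_mem {m : G} (hm : m ∈ C.M) : x * m * x⁻¹ ∈ C.M := by
  apply mem_M C (h.U_mem m (M_le C hm))
  intro p hp
  have h1 := C.M_P m hm _ (h.P_mem p hp)
  have h2 : x * p * x⁻¹ = x⁻¹ * p * x := by rw [h.inv_eq]
  rw [h2] at h1
  calc x * m * x⁻¹ * p = x * (m * (x⁻¹ * p * x)) * x⁻¹ := by group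
    _ = p * (x * m * x⁻¹) := by rw [h1]; group

/-- `P` centralises the fixed line. -/
theorem OutU.P_comm {p p' : G} (hp : p ∈ D.P) (hl : c * bar n (D.ca p) = D.ca p) (hp' : p' ∈ D.P)
    (hl' : c * bar n (D.ca p') = D.ca p') : p * p' = p' * p := by
  rw [D.P_comm p hp p' hp', Tr_line D.hq h.N_c hl hl', z_zero, one_mul]

/-- the elements `g x` are not in `U`. -/
theorem OutU.not_U {g : G} (hg : g ∈ U C) : g * x ∉ U C := by
  intro hgx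
  have hx : x ∈ U C := (Subgroup.mul_mem_cancel_left (U C) hg).mp hgx
  obtain ⟨p, hp, m, hm, rfl⟩ := hx
  have h1 : ∀ p' ∈ D.P, c * bar n (D.ca p') = D.ca p' := by
    intro p' hp'
    rw [← h.ca_conj p' hp']
    have e1 : p * m * p' * (p * m)⁻¹ = p * (m * p' * m⁻¹) * p⁻¹ := by group
    have e2 : m * p' * m⁻¹ = p' := by rw [C.M_P m hm p' hp']; group
    rw [e1, e2, D.ca_mul _ (mul_mem hp hp') _ (inv_mem hp), D.ca_mul _ hp _ hp', ca_inv D hp,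
      add_comm (D.ca p), add_add_self]
  obtain ⟨p1, hp1, hc1⟩ := D.ca_surj 1
  have h2 := h1 p1 hp1
  rw [hc1, bar_one, mul_one] at h2
  obtain ⟨y, hy⟩ := exists_Tr_one D.hq
  obtain ⟨p2, hp2, rfl⟩ := D.ca_surj y
  have h3 := h1 p2 hp2
  rw [h2, one_mul] at h3
  rw [Tr_of_fixed h3] at hy
  exact zero_ne_one hy

/-- the involutions `p m x`. -/
theorem OutU.split {p m : G} (hp : p ∈ D.P) (hm : m ∈ C.M)
    (hgx : (p * m * x) * (p * m * x) = 1) :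
    c * bar n (D.ca p) = D.ca p ∧ x * m * x⁻¹ = m⁻¹ := by
  have hxp := h.P_mem p hp
  have hxm := h.M_mem hm
  have h1 : (p * (x * p * x⁻¹)) * (m * (x * m * x⁻¹)) = 1 := by
    rw [← mul_eq C hm hxp, ← hgx]
    have e1 : p * m * x * (p * m * x) = p * m * (x * p * x⁻¹ * (x * m * x⁻¹)) * (x * x) := by
      group
    rw [e1, h.sq, mul_one]
  have h2 : p * (x * p * x⁻¹) = (m * (x * m * x⁻¹))⁻¹ := eq_inv_of_mul_eq_one_left h1
  obtain ⟨b, hb, h3⟩ := P_M C (mul_mem hp hxp) (by rw [h2]; exact inv_mem (mul_mem hm hxm))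
  have h4 := D.ca_mul p hp _ hxp
  rw [h3, D.ca_z, h.ca_conj p hp] at h4
  have hl : c * bar n (D.ca p) = D.ca p := (Field.add_eq_zero.mp h4.symm).symm
  refine ⟨hl, ?_⟩
  rw [h.inverts hp hl, mul_inv_cancel, one_mul] at h1
  exact eq_inv_of_mul_eq_one_right h1

/-! ### The torus and `x` -/

/-- `x` commutes with `h l` on `M`, up to `t`. -/
theorem OutU.cj_tw (hO : Amb D O) {l : Kˣ} (hl : bar n (l : K) = l) :
    (∀ m ∈ C.M, x * cj C l m * x⁻¹ = cj C l (x * m * x⁻¹)) ∨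
    (∀ m ∈ C.M, x * cj C l m * x⁻¹ = D.t * cj C l (x * m * x⁻¹) * D.t⁻¹) := by
  set s := x * C.h l * x⁻¹ * (C.h l)⁻¹ with hs
  have hsx : ∀ g, s * cj C l (x * g * x⁻¹) * s⁻¹ = x * cj C l g * x⁻¹ := by
    intro g
    rw [hs]; unfold cj
    have h2 := h.inv_eq
    have e1 : x * C.h l * x⁻¹ * (C.h l)⁻¹ * (C.h l * (x * g * x⁻¹) * (C.h l)⁻¹) *
        (x * C.h l * x⁻¹ * (C.h l)⁻¹)⁻¹ = x * C.h l * g * (C.h l)⁻¹ * x⁻¹ := by group
    rw [e1]; group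
  -- every element of `M`, `P` is of the form `cj l (x m x⁻¹)`
  have hMsurj : ∀ m ∈ C.M, ∃ m' ∈ C.M, m = cj C l (x * m' * x⁻¹) := by
    intro m hm
    refine ⟨x * cj C l⁻¹ m * x⁻¹, h.M_mem (cj_M C _ hm), ?_⟩
    rw [h.x_x, cj_cj C _ _ hm, mul_inv_cancel, cj_one_M C hm]
  have hPsurj : ∀ p ∈ D.P, ∃ p' ∈ D.P, p = cj C l (x * p' * x⁻¹) := by
    intro p hp
    refine ⟨x * cj C l⁻¹ p * x⁻¹, h.P_mem _ (cj_P_mem C hO _ hp), ?_⟩
    rw [h.x_x, cj_cj_P C hO _ _ hp, mul_inv_cancel, cj_one_P C hO hp]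
  have hst : s * D.t = D.t * s := by
    have c1 : Commute x D.t := h.comm
    have c2 : Commute (C.h l) D.t := h_comm_t C hO l
    exact (((c1.mul_left c2).mul_left c1.inv_left).mul_left c2.inv_left)
  obtain ⟨g0, hg0, k, hk, hgk⟩ := hO.dec s hst (by
    intro p hp
    obtain ⟨p', hp', rfl⟩ := hPsurj p hp
    rw [hsx]
    refine ⟨h.P_mem _ (cj_P_mem C hO l hp'), ?_⟩
    rw [h.ca_conj _ (cj_P_mem C hO l hp'), ca_cj C hO l hp', ca_cj C hO l (h.P_mem p' hp'),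
      h.ca_conj p' hp', Kernel.w_of_fixed hl, bar_mul, hl]
    ring)
  have hkt := hO.O_t k hk
  have hg0t : g0 * D.t = D.t * g0 := by
    have h1 : g0 * D.t * k = D.t * g0 * k := by
      rw [mul_assoc, ← hkt, ← mul_assoc, ← hgk, hst, hgk, mul_assoc]
    exact mul_right_cancel h1
  have hP_M : ∀ p ∈ D.P, ∀ m ∈ C.M, p * m * p⁻¹ = m := by
    intro p hp m hm
    rw [← C.M_P m hm p hp]; group
  have hsM : ∀ m ∈ C.M, s * m * s⁻¹ ∈ C.M := by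
    intro m hm
    obtain ⟨m', hm', rfl⟩ := hMsurj m hm
    rw [hsx]
    exact h.M_mem (cj_M C l hm')
  have hfin : ∀ τ : G, s = τ * k → (∀ m ∈ C.M, τ⁻¹ * m * τ ∈ C.M) →
      ∀ m ∈ C.M, x * cj C l m * x⁻¹ = τ * cj C l (x * m * x⁻¹) * τ⁻¹ := by
    intro τ hτ hτM m hm
    have hkM : ∀ m ∈ C.M, k * m * k⁻¹ ∈ C.M := by
      intro m hm
      have h1 := hτM _ (hsM m hm)
      have h2 : τ⁻¹ * (s * m * s⁻¹) * τ = k * m * k⁻¹ := by rw [hτ]; group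
      rwa [h2] at h1
    have hkc := C.O_M k hk hkM
    rw [← hsx, hτ]
    have h3 := hkc _ (cj_M C l (h.M_mem hm))
    calc τ * k * cj C l (x * m * x⁻¹) * (τ * k)⁻¹
        = τ * (k * cj C l (x * m * x⁻¹)) * k⁻¹ * τ⁻¹ := by group
      _ = _ := by rw [h3]; group
  rcases D.Q_T g0 hg0 hg0t with h1 | h1
  · left
    intro m hm
    rw [hfin g0 hgk (by
      intro m hm
      have := hP_M _ (inv_mem h1) m hm
      rw [inv_inv] at this
      rw [this]; exact hm) m hm]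
    exact hP_M _ h1 _ (cj_M C l (h.M_mem hm))
  · right
    intro m hm
    rw [hfin g0 hgk (by
      intro m hm
      have h2 := hP_M _ (inv_mem h1) m hm
      rw [inv_inv] at h2
      have h3 : g0⁻¹ * m * g0 = D.t * ((g0 * D.t)⁻¹ * m * (g0 * D.t)) * D.t⁻¹ := by group
      rw [h3, h2]
      exact C.t_conj m hm) m hm]
    have h2 := hP_M _ h1 _ (C.t_conj _ (cj_M C l (h.M_mem hm)))
    have h3 : g0 * D.t * (D.t * cj C l (x * m * x⁻¹) * D.t⁻¹) * (g0 * D.t)⁻¹ =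
      g0 * (D.t * (D.t * cj C l (x * m * x⁻¹) * D.t⁻¹) * D.t⁻¹) * g0⁻¹ := by group
    rw [h3, t_t] at h2
    exact h2

/-- `x` commutes with `h l`, `l` in `F_q`, on `M`. -/
theorem OutU.cj_comm (hO : Amb D O) {l : Kˣ} (hl : bar n (l : K) = l) {m : G} (hm : m ∈ C.M) :
    x * cj C l m * x⁻¹ = cj C l (x * m * x⁻¹) := by
  obtain ⟨r, hr, rfl⟩ := exists_root D.hq hl
  rw [← cj_cj C r r hm, ← cj_cj C r r (h.M_mem hm)]
  rcases h.cj_tw hO hr with h1 | h1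
  · rw [h1 _ (cj_M C r hm), h1 m hm]
  · rw [h1 _ (cj_M C r hm), h1 m hm, cj_t C hO, t_t]

end Cfsg.Agent.StdU3.Tower.OuterU
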