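import Cfsg.Agent.StdU3.Tower.OuterU

/-!
# The field `four` of `Term` for the tower, `M` abelian
-/

set_option autoImplicit false
set_option linter.unusedSectionVars false
set_option linter.dupNamespace false

namespace Cfsg.Agent.StdU3.Tower.FourAb

open Cfsg.Agent.StdU3.Field Cfsg.Agent.StdU3.PreDef Cfsg.Agent.StdU3.LevelOne
open Cfsg.Agent.StdU3.LevelOneW Cfsg.Agent.StdU3.Next Cfsg.Agent.StdU3.Card
open Cfsg.Agent.StdU3.TermTwo Cfsg.Agent.StdU3.Tower.Cen Cfsg.Agent.StdU3.Tower.Two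
open Cfsg.Agent.StdU3.Tower.TwoCl Cfsg.Agent.StdU3.Outer Cfsg.Agent.StdU3.Tower.OuterU

variable {G : Type*} [Group G] {K : Type*} [Field K] [Fintype K] [CharP K 2] {n : ℕ}
variable {D : Pre G K n} {O : Subgroup G} {C : Cen D O} (A : Ab C)
variable {x : G} {c : K} (h : OutU C x c)

include A

/-- an inverted element of `M ∖ Z` has an inverted power of order four. -/
theorem exists_four {m : G} (hm : m ∈ C.M) (hz : ∀ b, m ≠ D.z b) (hx : x * m * x⁻¹ = m⁻¹) :
    ∃ m1 ∈ C.M, ∃ u, bar n u = u ∧ u ≠ 0 ∧ m1 * m1 = D.z u ∧ x * m1 * x⁻¹ = m1⁻¹ := by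
  classical
  have hex : ∃ j, m ^ 2 ^ j = 1 := by
    obtain ⟨j, hj⟩ := C.M_two ⟨m, hm⟩
    exact ⟨j, congrArg Subtype.val hj⟩
  have hmin := fun i => Nat.find_min hex (m := i)
  have hj := Nat.find_spec hex
  set j := Nat.find hex with hjd
  have h0 : j ≠ 0 := by
    intro h0
    rw [h0, pow_zero, pow_one] at hj
    exact hz 0 (by rw [hj, z_zero])
  have h1 : j ≠ 1 := by
    intro h1
    rw [h1, pow_one, pow_two] at hj
    obtain ⟨b, -, hb⟩ := omega A hm hj
    exact hz b hb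
  obtain ⟨i, hi⟩ : ∃ i, j = i + 2 := ⟨j - 2, by omega⟩
  have hm1 : m ^ 2 ^ i ∈ C.M := pow_mem hm _
  have hsq : m ^ 2 ^ i * m ^ 2 ^ i = m ^ 2 ^ (i + 1) := by
    rw [← pow_add, pow_succ]
    congr 1; ring
  obtain ⟨u, hu, hmu⟩ := omega A (mul_mem hm1 hm1) (by
    rw [hsq, ← pow_add, ← hj, hi, pow_succ 2 (i + 1)]
    congr 1; ring)
  refine ⟨m ^ 2 ^ i, hm1, u, hu, ?_, hmu, ?_⟩
  · rintro rfl
    rw [z_zero, hsq] at hmu
    exact hmin (i + 1) (by omega) hmu
  · rw [← conj_pow, hx, inv_pow]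

include h

/-- `x` inverts the elements of `M` with square in `Z`. -/
theorem inv_of_sq [Finite G] (hO : Amb D O) {m1 : G} (hm1 : m1 ∈ C.M) {u : K} (hu : bar n u = u)
    (hu0 : u ≠ 0) (hmu : m1 * m1 = D.z u) (hx1 : x * m1 * x⁻¹ = m1⁻¹) {m : G} (hm : m ∈ C.M)
    {b : K} (hb : bar n b = b) (hmb : m * m = D.z b) : x * m * x⁻¹ = m⁻¹ := by
  by_cases hb0 : b = 0
  · rw [hb0, z_zero] at hmb
    obtain ⟨b', -, rfl⟩ := omega A hm hmb
    rw [h.conj_z, z_inv]
  · have hfix : bar n (b / u) = b / u := by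
      rw [div_eq_mul_inv]
      exact fixed_mul hb (fixed_inv hu)
    obtain ⟨l, hl, h4⟩ := exists_fourth D.hq hfix
    have hl0 : l ≠ 0 := by
      rintro rfl
      rw [zero_pow (by norm_num)] at h4
      exact div_ne_zero hb0 hu0 h4.symm
    set r : Kˣ := Units.mk0 (l ^ 2) (pow_ne_zero 2 hl0) with hr
    have hrf : bar n (r : K) = r := by rw [hr, Units.val_mk0, bar_pow, hl]
    have hrM := cj_M C r hm1
    have hsq : cj C r m1 * cj C r m1 = D.z b := by
      rw [← cj_mul, hmu, cj_z C hO r hu, N_of_fixed hrf]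
      congr 1
      have : (r : K) ^ 2 = l ^ 4 := by rw [hr, Units.val_mk0]; ring
      rw [this, h4, div_mul_cancel₀ _ hu0]
    have hinv : x * cj C r m1 * x⁻¹ = (cj C r m1)⁻¹ := by
      rw [h.cj_comm hO hrf hm1, hx1, cj_inv]
    obtain ⟨b', -, hbb⟩ := omega A (mul_mem (inv_mem hrM) hm) (by
      have h1 := A.comm m hm _ (inv_mem hrM)
      calc (cj C r m1)⁻¹ * m * ((cj C r m1)⁻¹ * m)
          = (cj C r m1)⁻¹ * (m * (cj C r m1)⁻¹) * m := by group
        _ = (cj C r m1 * cj C r m1)⁻¹ * (m * m) := by rw [h1]; group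
        _ = 1 := by rw [hsq, hmb, inv_mul_cancel])
    have hmm : m = cj C r m1 * D.z b' := by rw [← hbb]; group
    rw [hmm, NormQ.conj_mul, hinv, h.conj_z, mul_inv_rev, z_inv, z_comm_M C b' (inv_mem hrM)]

/-- **the field `four` for `M` abelian.** -/
theorem four_aux [Finite G] (hO : Amb D O) {g : G} (hg : g ∈ U C)
    (hgx : (g * x) * (g * x) = 1) :
    (∃ y ∈ U C, y * x * y⁻¹ = g * x) ∨
    ∃ B : Subgroup G, B ≤ U C ∧ (∀ b ∈ B, b * b = 1) ∧ (∀ b ∈ B, b * (g * x) = (g * x) * b) ∧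
      (∀ b ∈ B, ∀ c ∈ B, b * c = c * b) ∧ g * x ∉ B ∧ (2 ^ n) ^ 2 ≤ Nat.card B := by
  obtain ⟨p, hp, m, hm, rfl⟩ := hg
  have hgU : p * m ∈ U C := ⟨p, hp, m, hm, rfl⟩
  obtain ⟨hl, hxm⟩ := h.split hp hm hgx
  by_cases hz : ∃ b, m = D.z b
  · left
    obtain ⟨b, rfl⟩ := hz
    have hpz : p * D.z b ∈ D.P := mul_mem hp (D.z_mem b)
    obtain ⟨y, hy, h1⟩ := h.conj_P hpz (by
      rw [D.ca_mul p hp _ (D.z_mem b), D.ca_z, add_zero]; exact hl)
    exact ⟨y, P_le C hy, h1⟩
  · right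
    obtain ⟨m1, hm1, u, hu, hu0, hmu, hx1⟩ := exists_four A hm (fun b hb => hz ⟨b, hb⟩) hxm
    -- commutativity over the line
    have hcomm : ∀ g ∈ U C, ∀ k ∈ U C, c * bar n (al C g) = al C g →
        c * bar n (al C k) = al C k → g * k = k * g := by
      intro g hg k hk h1 h2
      obtain ⟨p1, hp1, n1, hn1, rfl⟩ := hg
      obtain ⟨p2, hp2, n2, hn2, rfl⟩ := hk
      rw [al_eq C hp1 hn1] at h1
      rw [al_eq C hp2 hn2] at h2
      rw [mem_cent_ab A hp2 hn2 hp1 hn1]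
      exact Tr_line D.hq h.N_c h1 h2
    let B : Subgroup G :=
      { carrier := {k | k ∈ U C ∧ c * bar n (al C k) = al C k ∧ k * k = 1}
        one_mem' := ⟨one_mem _, by rw [al_M C C.M.one_mem, bar_zero, mul_zero], one_mul 1⟩
        mul_mem' := by
          rintro k k' ⟨hk, h1, h2⟩ ⟨hk', h1', h2'⟩
          refine ⟨mul_mem hk hk', by rw [al_mul C hk hk', bar_add, mul_add, h1, h1'], ?_⟩
          have e1 := hcomm k hk k' hk' h1 h1'
          have e2 : k * k' * (k * k') = k * (k' * k) * k' := by group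
          rw [e2, ← e1]
          have e3 : k * (k * k') * k' = (k * k) * (k' * k') := by group
          rw [e3, h2, h2', one_mul]
        inv_mem' := by
          rintro k ⟨hk, h1, h2⟩
          have hk2 : k⁻¹ = k := by rw [inv_eq_iff_mul_eq_one, h2]
          rw [hk2]
          exact ⟨hk, h1, h2⟩ }
    have hB : ∀ k, k ∈ B ↔ k ∈ U C ∧ c * bar n (al C k) = al C k ∧ k * k = 1 :=
      fun _ => Iff.rfl
    refine ⟨B, fun k hk => ((hB k).mp hk).1, fun k hk => ((hB k).mp hk).2.2, ?_, ?_, ?_, ?_⟩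
    · intro k hk
      obtain ⟨hkU, h1, h2⟩ := (hB k).mp hk
      have e1 : k * (p * m) = (p * m) * k :=
        hcomm k hkU _ hgU h1 (by rw [al_eq C hp hm]; exact hl)
      have e2 : x * k = k * x := by
        obtain ⟨p', hp', m', hm', rfl⟩ := hkU
        rw [al_eq C hp' hm'] at h1
        have h3 := sq_U C hp' hm'
        rw [h2] at h3
        have h4 : m' * m' = D.z (N n (D.ca p')) := by
          rw [← mul_right_inj (D.z (N n (D.ca p'))), ← h3, z_self]
        have h5 := inv_of_sq A h hO hm1 hu hu0 hmu hx1 hm' (fixed_N D.hq _) h4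
        have h6 : x * (p' * m') * x⁻¹ = (p' * m')⁻¹ := by
          rw [NormQ.conj_mul, h.inverts hp' h1, h5, mul_inv_rev,
            C.M_P _ (inv_mem hm') _ (inv_mem hp')]
        have h7 : (p' * m')⁻¹ = p' * m' := by rw [inv_eq_iff_mul_eq_one, h2]
        rw [h7] at h6
        exact mul_inv_eq_iff_eq_mul.mp h6
      calc k * (p * m * x) = (k * (p * m)) * x := by group
        _ = (p * m) * (k * x) := by rw [e1]; group
        _ = p * m * x * k := by rw [← e2]; group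
    · intro k hk k' hk'
      obtain ⟨hkU, h1, h2⟩ := (hB k).mp hk
      obtain ⟨hkU', h1', h2'⟩ := (hB k').mp hk'
      exact hcomm k hkU k' hkU' h1 h1'
    · intro hgB
      exact h.not_U hgU ((hB _).mp hgB).1
    · obtain ⟨c0, hc0, h0⟩ := exists_line D.hq h.N_c
      have h3 := card_of_hom B (Z D) (fun g => al C g / c0) (Fq K n) (by
        intro k hk k' hk'
        show al C (k * k') / c0 = al C k / c0 + al C k' / c0
        rw [al_mul C ((hB k).mp hk).1 ((hB k').mp hk').1, add_div]) (by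
        intro k
        constructor
        · rintro ⟨b, hb, rfl⟩
          refine ⟨?_, ?_⟩
          · rw [hB]
            refine ⟨M_le C (C.z_mem b), ?_, z_self D b⟩
            rw [al_z, bar_zero, mul_zero]
          · show al C (D.z b) / c0 = 0
            rw [al_z, zero_div]
        · rintro ⟨hk, h5⟩
          obtain ⟨hkU, h1, h2⟩ := (hB k).mp hk
          have h6 : al C k = 0 := (div_eq_zero_iff.mp h5).resolve_right hc0
          exact omega A (al_ker C hkU h6) h2) (by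
        intro k hk
        obtain ⟨hkU, h1, h2⟩ := (hB k).mp hk
        obtain ⟨l, hl1, hl2⟩ := line_eq hc0 h0 h1
        show bar n (al C k / c0) = al C k / c0
        rw [hl2, mul_div_cancel_right₀ _ hc0, hl1]) (by
        intro l hl1
        have hl1' : bar n l = l := hl1
        have hlc : c * bar n (l * c0) = l * c0 := by
          rw [bar_mul, hl1', mul_left_comm, h0]
        obtain ⟨p', hp', hpa⟩ := D.ca_surj (l * c0)
        obtain ⟨m', hm', hmm⟩ := exists_sq A (fixed_N D.hq (l * c0))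
        refine ⟨p' * m', ?_, ?_⟩
        · rw [hB]
          refine ⟨⟨p', hp', m', hm', rfl⟩, ?_, ?_⟩
          · rw [al_eq C hp' hm', hpa]; exact hlc
          · rw [sq_U C hp' hm', hmm, hpa, z_self]
        · show al C (p' * m') / c0 = l
          rw [al_eq C hp' hm', hpa, mul_div_cancel_right₀ _ hc0])
      rw [h3, card_Z, card_Fq D.hq, sq]

omit h in
/-- **the field `four` for `M` abelian**, in the form of `Cen.term`. -/
theorem four_ab [Finite G] (hO : Amb D O) : ∀ x, x * D.t = D.t * x → x * x = 1 →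
      (∃ c, ∀ p ∈ D.P, x * p * x⁻¹ ∈ D.P ∧ D.ca (x * p * x⁻¹) = c * bar n (D.ca p)) →
      (∀ g ∈ U C, x * g * x⁻¹ ∈ U C) →
      ∀ g ∈ U C, (g * x) * (g * x) = 1 →
        (∃ y ∈ U C, y * x * y⁻¹ = g * x) ∨
        ∃ B : Subgroup G, B ≤ U C ∧ (∀ b ∈ B, b * b = 1) ∧ (∀ b ∈ B, b * (g * x) = (g * x) * b) ∧
          (∀ b ∈ B, ∀ c ∈ B, b * c = c * b) ∧ g * x ∉ B ∧ (2 ^ n) ^ 2 ≤ Nat.card B := by
  rintro x h1 h2 ⟨c, h3⟩ h4 g hg hgx
  have h : OutU C x c := ⟨h1, h2, fun p hp => (h3 p hp).1, fun p hp => (h3 p hp).2, h4⟩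
  exact four_aux A h hO hg hgx

end Cfsg.Agent.StdU3.Tower.FourAb
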