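import Cfsg.Agent.StdU3.Tower.OuterU

/-!
# The field `four` of `Term` for the tower, `M` of class two

For an outer involution `x` of `C(t)` and an involution `p m x`, `m ∈ M ∖ Z`: `x` inverts `m`, hence
the whole preimage `L` of the line `F_q m` of `M / Z`, and the preimage of the fixed line of
`P / Z`.  The involutions of the product of both preimages centralise `p m x` and form an elementary
abelian group of order at least `q²`.
-/

set_option autoImplicit false
set_option linter.unusedSectionVars false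
set_option linter.dupNamespace false

namespace Cfsg.Agent.StdU3.Tower.FourCl

open Cfsg.Agent.StdU3.Field Cfsg.Agent.StdU3.PreDef Cfsg.Agent.StdU3.LevelOne
open Cfsg.Agent.StdU3.LevelOneW Cfsg.Agent.StdU3.Next Cfsg.Agent.StdU3.Card
open Cfsg.Agent.StdU3.TermTwo Cfsg.Agent.StdU3.Tower.Cen Cfsg.Agent.StdU3.Tower.Two
open Cfsg.Agent.StdU3.Tower.TwoCl Cfsg.Agent.StdU3.Outer Cfsg.Agent.StdU3.Tower.OuterU

variable {G : Type*} [Group G] {K : Type*} [Field K] [Fintype K] [CharP K 2] {n : ℕ}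
variable {D : Pre G K n} {O : Subgroup G} {C : Cen D O} (A : Cl C)

theorem vl_M {m : G} (hm : m ∈ C.M) (l : K) : vl C m l ∈ C.M := by
  by_cases h0 : l = 0
  · rw [h0, vl_zero]; exact one_mem _
  · rw [vl_ne m h0]; exact cj_M C _ hm

include A

/-- the multiples of `m` commute. -/
theorem vl_comm (hO : Amb D O) {m : G} (hm : m ∈ C.M) {l l' : K} (hl : bar n l = l)
    (hl' : bar n l' = l') : vl C m l * vl C m l' = vl C m l' * vl C m l := by
  by_cases h0 : l = 0
  · rw [h0, vl_zero, one_mul, mul_one]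
  by_cases h0' : l' = 0
  · rw [h0', vl_zero, one_mul, mul_one]
  rw [vl_ne m h0, vl_ne m h0']
  exact comm_cj A hO (l := Units.mk0 l h0) (l' := Units.mk0 l' h0') hl hl' hm

/-- inverses in `M`. -/
theorem inv_M {m : G} (hm : m ∈ C.M) : ∃ b, bar n b = b ∧ m⁻¹ = m * D.z b := by
  obtain ⟨b, hb, h⟩ := A.sq m hm
  refine ⟨b, hb, ?_⟩
  rw [inv_eq_iff_mul_eq_one, ← mul_assoc, h, z_self]

/-- the sum of multiples. -/
theorem vl_add {m : G} (hm : m ∈ C.M) {l l' : K} (hl : bar n l = l)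
    (hl' : bar n l' = l') : ∃ b, bar n b = b ∧ vl C m l * vl C m l' = vl C m (l + l') * D.z b := by
  by_cases h0 : l = 0
  · exact ⟨0, bar_zero n, by rw [h0, vl_zero, one_mul, zero_add, z_zero, mul_one]⟩
  by_cases h0' : l' = 0
  · exact ⟨0, bar_zero n, by rw [h0', vl_zero, mul_one, add_zero, z_zero, mul_one]⟩
  by_cases hll : l = l'
  · subst hll
    obtain ⟨b, hb, h⟩ := A.sq _ (vl_M hm l)
    exact ⟨b, hb, by rw [h, Field.add_self, vl_zero, one_mul]⟩
  have hne : l + l' ≠ 0 := fun h => hll (Field.add_eq_zero.mp h)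
  obtain ⟨r, hr, hrr⟩ := exists_root D.hq (l := Units.mk0 l h0) hl
  obtain ⟨r', hr', hrr'⟩ := exists_root D.hq (l := Units.mk0 l' h0') hl'
  have e1 : (r : K) * r = l := by rw [← Units.val_mul, hrr]; rfl
  have e2 : (r' : K) * r' = l' := by rw [← Units.val_mul, hrr']; rfl
  have hne2 : (r : K) + r' ≠ 0 := by
    intro h
    have := Field.add_eq_zero.mp h
    apply hll
    rw [← e1, ← e2, this]
  set r'' : Kˣ := Units.mk0 ((r : K) + r') hne2 with hr''
  have e3 : r'' * r'' = Units.mk0 (l + l') hne := by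
    apply Units.val_injective
    rw [Units.val_mul, Units.val_mk0, Units.val_mk0, ← e1, ← e2]
    have : ((r : K) + r') * (r + r') = r * r + r' * r' + (r * r' + r * r') := by ring
    rw [this, Field.add_self, add_zero]
  obtain ⟨b, hb, h⟩ := lin A hr hr' (m'' := r'') rfl hm
  rw [hrr, hrr', e3] at h
  obtain ⟨b', hb', h'⟩ := inv_M A (cj_M C (Units.mk0 (l + l') hne) hm)
  refine ⟨b' + b, fixed_add hb' hb, ?_⟩
  rw [vl_ne m h0, vl_ne m h0', vl_ne m hne, D.z_add, ← mul_assoc, ← h',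
    z_comm_M C b (inv_mem (cj_M C _ hm)), ← h]
  group

/-- the preimage of the line `F_q m`. -/
def Ln (_hO : Amb D O) {m : G} (hm : m ∈ C.M) : Subgroup G where
  carrier := {k | ∃ l, bar n l = l ∧ ∃ b, bar n b = b ∧ k = vl C m l * D.z b}
  one_mem' := ⟨0, bar_zero n, 0, bar_zero n, by rw [vl_zero, z_zero, one_mul]⟩
  mul_mem' := by
    rintro _ _ ⟨l, hl, b, hb, rfl⟩ ⟨l', hl', b', hb', rfl⟩
    obtain ⟨c, hc, h⟩ := vl_add A hm hl hl'
    refine ⟨l + l', fixed_add hl hl', c + (b + b'), fixed_add hc (fixed_add hb hb'), ?_⟩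
    have h1 := z_comm_M C b (vl_M hm l')
    calc vl C m l * D.z b * (vl C m l' * D.z b')
        = vl C m l * (D.z b * vl C m l') * D.z b' := by group
      _ = (vl C m l * vl C m l') * (D.z b * D.z b') := by rw [← h1]; group
      _ = _ := by rw [h, ← D.z_add, D.z_add c, mul_assoc]
  inv_mem' := by
    rintro _ ⟨l, hl, b, hb, rfl⟩
    obtain ⟨c, hc, h⟩ := inv_M A (vl_M hm l)
    refine ⟨l, hl, c + b, fixed_add hc hb, ?_⟩
    rw [mul_inv_rev, z_inv, h, ← z_comm_M C b (mul_mem (vl_M hm l) (C.z_mem c)), D.z_add,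
      mul_assoc]

theorem Ln_M (hO : Amb D O) {m : G} (hm : m ∈ C.M) : Ln A hO hm ≤ C.M := by
  rintro _ ⟨l, -, b, -, rfl⟩
  exact mul_mem (vl_M hm l) (C.z_mem b)

theorem Ln_comm (hO : Amb D O) {m : G} (hm : m ∈ C.M) {k k' : G} (hk : k ∈ Ln A hO hm)
    (hk' : k' ∈ Ln A hO hm) : k * k' = k' * k := by
  obtain ⟨l, hl, b, hb, rfl⟩ := hk
  obtain ⟨l', hl', b', hb', rfl⟩ := hk'
  have h0 := vl_comm A hO hm hl hl'
  have h1 := z_comm_M C b (mul_mem (vl_M hm l') (C.z_mem b'))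
  have h2 := z_comm_M C b' (vl_M hm l)
  calc vl C m l * D.z b * (vl C m l' * D.z b')
      = vl C m l * (D.z b * (vl C m l' * D.z b')) := by group
    _ = (vl C m l * vl C m l') * D.z b' * D.z b := by rw [← h1]; group
    _ = vl C m l' * (vl C m l * D.z b') * D.z b := by rw [h0]; group
    _ = _ := by rw [h2]; group

theorem m_Ln (hO : Amb D O) {m : G} (hm : m ∈ C.M) : m ∈ Ln A hO hm := by
  refine ⟨1, bar_one n, 0, bar_zero n, ?_⟩
  rw [z_zero, mul_one, vl_ne m one_ne_zero]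
  have : Units.mk0 (1 : K) one_ne_zero = 1 := by
    apply Units.val_injective; rfl
  rw [this, cj_one_M C hm]

/-- the coordinate on the line. -/
theorem vl_inj {m : G} (hm : m ∈ C.M) (hz : ∀ b, m ≠ D.z b) {l l' : K}
    (hl : bar n l = l) (hl' : bar n l' = l') {b : K} (h : vl C m l = vl C m l' * D.z b) :
    l = l' := by
  have hfin : ∀ v : K, v ≠ 0 → l ^ 2 * v = l' ^ 2 * v → l = l' := by
    intro v hv h2
    have h3 := mul_right_cancel₀ hv h2
    have h4 : (l + l') ^ 2 = 0 := by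
      have h5 : (l + l') ^ 2 = l ^ 2 + l' ^ 2 + (l * l' + l * l') := by ring
      rw [h5, h3, Field.add_self, Field.add_self, add_zero]
    exact Field.add_eq_zero.mp (pow_eq_zero_iff (by norm_num) |>.mp h4)
  have hez : ∀ b, A.e (D.z b) = 0 := fun b => (A.e_ker _ (C.z_mem b)).mpr (A.z_W b)
  by_cases hW : m ∈ A.W
  · have hu : A.u m ≠ 0 := by
      intro h0
      obtain ⟨b, -, hb⟩ := A.u_ker m hW h0
      exact hz b hb
    have hvW : ∀ l : K, vl C m l ∈ A.W := by
      intro l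
      by_cases h0 : l = 0
      · rw [h0, vl_zero]; exact one_mem _
      · rw [vl_ne m h0]; exact A.h_W _ m hW
    have hu1 : A.u (1 : G) = 0 := by
      have := A.u_mul 1 A.W.one_mem 1 A.W.one_mem
      rw [mul_one] at this
      exact left_eq_add.mp this
    have huz : ∀ b, A.u (D.z b) = 0 := by
      intro b
      have h1 := A.W_sq _ (A.z_W b)
      rw [z_self] at h1
      exact D.z_inj _ (A.u_fixed _ (A.z_W b)) h1.symm
    have hul : ∀ l : K, bar n l = l → A.u (vl C m l) = l ^ 2 * A.u m := by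
      intro l hl
      by_cases h0 : l = 0
      · rw [h0, vl_zero, zero_pow (by norm_num), zero_mul, hu1]
      · rw [vl_ne m h0]
        have e1 : A.u (cj C (Units.mk0 l h0) m) = N n ((Units.mk0 l h0 : Kˣ) : K) * A.u m :=
          A.u_h _ m hW
        rw [e1, Units.val_mk0, N_of_fixed hl]
    have h2 := congrArg A.u h
    rw [A.u_mul _ (hvW l') _ (A.z_W b), huz, add_zero, hul l hl, hul l' hl'] at h2
    exact hfin _ hu h2
  · have he : A.e m ≠ 0 := fun h0 => hW ((A.e_ker m hm).mp h0)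
    have hel : ∀ l : K, bar n l = l → A.e (vl C m l) = l ^ 2 * A.e m := by
      intro l hl
      by_cases h0 : l = 0
      · rw [h0, vl_zero, zero_pow (by norm_num), zero_mul]
        exact (A.e_ker 1 C.M.one_mem).mpr A.W.one_mem
      · rw [vl_ne m h0]
        have e1 : A.e (cj C (Units.mk0 l h0) m) = N n ((Units.mk0 l h0 : Kˣ) : K) * A.e m :=
          A.e_h _ m hm
        rw [e1, Units.val_mk0, N_of_fixed hl]
    have h2 := congrArg A.e h
    rw [A.e_mul _ (vl_M hm l') _ (C.z_mem b), hez, add_zero, hel l hl, hel l' hl'] at h2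
    exact hfin _ he h2

variable {x : G} {c : K} (h : OutU C x c)

include h

/-- `x` inverts the preimage of the line. -/
theorem Ln_inv (hO : Amb D O) {m : G} (hm : m ∈ C.M) (hxm : x * m * x⁻¹ = m⁻¹) {k : G}
    (hk : k ∈ Ln A hO hm) : x * k * x⁻¹ = k⁻¹ := by
  obtain ⟨l, hl, b, hb, rfl⟩ := hk
  have h1 : x * vl C m l * x⁻¹ = (vl C m l)⁻¹ := by
    by_cases h0 : l = 0
    · rw [h0, vl_zero]; group
    · rw [vl_ne m h0, h.cj_comm hO (l := Units.mk0 l h0) hl hm, hxm, cj_inv]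
  rw [NormQ.conj_mul, h1, h.conj_z, mul_inv_rev, z_inv, z_comm_M C b (inv_mem (vl_M hm l))]

/-- **the field `four` for `M` of class two.** -/
theorem four_aux [Finite G] (hO : Amb D O) {g : G} (hg : g ∈ U C)
    (hgx : (g * x) * (g * x) = 1) :
    (∃ y ∈ U C, y * x * y⁻¹ = g * x) ∨
    ∃ B : Subgroup G, B ≤ U C ∧ (∀ b ∈ B, b * b = 1) ∧ (∀ b ∈ B, b * (g * x) = (g * x) * b) ∧
      (∀ b ∈ B, ∀ c ∈ B, b * c = c * b) ∧ g * x ∉ B ∧ (2 ^ n) ^ 2 ≤ Nat.card B := by
  obtain ⟨p, hp, m, hm, rfl⟩ := hg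
  have hgU : p * m ∈ U C := ⟨p, hp, m, hm, rfl⟩
  obtain ⟨hl, hxm⟩ := h.split hp hm hgx
  by_cases hz : ∃ b, m = D.z b
  · left
    obtain ⟨b, rfl⟩ := hz
    have hpz : p * D.z b ∈ D.P := mul_mem hp (D.z_mem b)
    obtain ⟨y, hy, h1⟩ := h.conj_P hpz (by
      rw [D.ca_mul p hp _ (D.z_mem b), D.ca_z, add_zero]; exact hl)
    exact ⟨y, P_le C hy, h1⟩
  · right
    have hz' : ∀ b, m ≠ D.z b := fun b hb => hz ⟨b, hb⟩
    -- commutativity
    have hcomm : ∀ p1 ∈ D.P, c * bar n (D.ca p1) = D.ca p1 → ∀ m1 ∈ Ln A hO hm,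
        ∀ p2 ∈ D.P, c * bar n (D.ca p2) = D.ca p2 → ∀ m2 ∈ Ln A hO hm,
        p1 * m1 * (p2 * m2) = p2 * m2 * (p1 * m1) := by
      intro p1 hp1 h1 m1 hm1 p2 hp2 h2 m2 hm2
      rw [mul_eq C (Ln_M A hO hm hm1) hp2, mul_eq C (Ln_M A hO hm hm2) hp1,
        h.P_comm hp1 h1 hp2 h2, Ln_comm A hO hm hm1 hm2]
    let B : Subgroup G :=
      { carrier := {k | (∃ p' ∈ D.P, c * bar n (D.ca p') = D.ca p' ∧ ∃ m' ∈ Ln A hO hm,
          k = p' * m') ∧ k * k = 1}
        one_mem' := ⟨⟨1, one_mem _, by rw [ca_one, bar_zero, mul_zero], 1, one_mem _,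
          (one_mul 1).symm⟩, one_mul 1⟩
        mul_mem' := by
          rintro _ _ ⟨⟨p1, hp1, h1, m1, hm1, rfl⟩, hs1⟩ ⟨⟨p2, hp2, h2, m2, hm2, rfl⟩, hs2⟩
          refine ⟨⟨p1 * p2, mul_mem hp1 hp2, ?_, m1 * m2, mul_mem hm1 hm2,
            mul_eq C (Ln_M A hO hm hm1) hp2⟩, ?_⟩
          · rw [D.ca_mul p1 hp1 p2 hp2, bar_add, mul_add, h1, h2]
          · have e1 := hcomm p1 hp1 h1 m1 hm1 p2 hp2 h2 m2 hm2
            have e2 : p1 * m1 * (p2 * m2) * (p1 * m1 * (p2 * m2)) =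
              p1 * m1 * (p2 * m2 * (p1 * m1)) * (p2 * m2) := by group
            rw [e2, ← e1]
            have e3 : p1 * m1 * (p1 * m1 * (p2 * m2)) * (p2 * m2) =
              (p1 * m1 * (p1 * m1)) * (p2 * m2 * (p2 * m2)) := by group
            rw [e3, hs1, hs2, one_mul]
        inv_mem' := by
          rintro k ⟨hk, h2⟩
          have hk2 : k⁻¹ = k := by rw [inv_eq_iff_mul_eq_one, h2]
          rw [hk2]
          exact ⟨hk, h2⟩ }
    have hB : ∀ k, k ∈ B ↔ (∃ p' ∈ D.P, c * bar n (D.ca p') = D.ca p' ∧ ∃ m' ∈ Ln A hO hm,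
          k = p' * m') ∧ k * k = 1 := fun _ => Iff.rfl
    have hBU : B ≤ U C := by
      intro k hk
      obtain ⟨⟨p', hp', -, m', hm', rfl⟩, -⟩ := (hB k).mp hk
      exact ⟨p', hp', m', Ln_M A hO hm hm', rfl⟩
    refine ⟨B, hBU, fun k hk => ((hB k).mp hk).2, ?_, ?_, ?_, ?_⟩
    · intro k hk
      obtain ⟨⟨p', hp', hl', m', hm', rfl⟩, hs⟩ := (hB k).mp hk
      have e1 := hcomm p' hp' hl' m' hm' p hp hl m (m_Ln A hO hm)
      have e2 : x * (p' * m') = (p' * m') * x := by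
        have h5 := Ln_inv A h hO hm hxm hm'
        have h6 : x * (p' * m') * x⁻¹ = (p' * m')⁻¹ := by
          rw [NormQ.conj_mul, h.inverts hp' hl', h5, mul_inv_rev,
            C.M_P _ (inv_mem (Ln_M A hO hm hm')) _ (inv_mem hp')]
        have h7 : (p' * m')⁻¹ = p' * m' := by rw [inv_eq_iff_mul_eq_one, hs]
        rw [h7] at h6
        exact mul_inv_eq_iff_eq_mul.mp h6
      calc p' * m' * (p * m * x) = (p' * m' * (p * m)) * x := by group
        _ = (p * m) * (p' * m' * x) := by rw [e1]; group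
        _ = p * m * x * (p' * m') := by rw [← e2]; group
    · intro k hk k' hk'
      obtain ⟨⟨p1, hp1, h1, m1, hm1, rfl⟩, -⟩ := (hB k).mp hk
      obtain ⟨⟨p2, hp2, h2, m2, hm2, rfl⟩, -⟩ := (hB k').mp hk'
      exact hcomm p1 hp1 h1 m1 hm1 p2 hp2 h2 m2 hm2
    · intro hgB
      exact h.not_U hgU (hBU hgB)
    · -- counting
      have hs : ∀ l : K, ∃ p' ∈ D.P, c * bar n (D.ca p') = D.ca p' ∧
          p' * p' * (vl C m l * vl C m l) = 1 := by
        intro l
        obtain ⟨s, hs, hsq⟩ := A.sq _ (vl_M hm l)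
        obtain ⟨y, hy, hN⟩ := exists_N_line D.hq h.N_c hs
        obtain ⟨p', hp', rfl⟩ := D.ca_surj y
        exact ⟨p', hp', hy, by rw [D.P_sq p' hp', hN, hsq, z_self]⟩
      choose f hfP hfl hfs using hs
      have hmem : ∀ l b : K, bar n l = l → bar n b = b → f l * vl C m l * D.z b ∈ B := by
        intro l b hl hb
        rw [hB]
        refine ⟨⟨f l, hfP l, hfl l, vl C m l * D.z b, ⟨l, hl, b, hb, rfl⟩, by group⟩, ?_⟩
        have hU : f l * vl C m l ∈ U C := ⟨f l, hfP l, _, vl_M hm l, rfl⟩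
        have e1 := z_comm_U C b hU
        have e2 : f l * vl C m l * D.z b * (f l * vl C m l * D.z b) =
          f l * vl C m l * (D.z b * (f l * vl C m l)) * D.z b := by group
        rw [e2, ← e1]
        have e3 : f l * vl C m l * (f l * vl C m l * D.z b) * D.z b =
          f l * vl C m l * (f l * vl C m l) * (D.z b * D.z b) := by group
        rw [e3, z_self, mul_one, mul_eq C (vl_M hm l) (hfP l), hfs]
      let F : Fq K n × Fq K n → B := fun y => ⟨f y.1.1 * vl C m y.1.1 * D.z y.2.1,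
        hmem _ _ y.1.2 y.2.2⟩
      have hF : Function.Injective F := by
        rintro ⟨l, b⟩ ⟨l', b'⟩ hy
        have h2 : f l.1 * vl C m l.1 * D.z b.1 = f l'.1 * vl C m l'.1 * D.z b'.1 :=
          congrArg Subtype.val hy
        have h3 : (f l'.1)⁻¹ * f l.1 = vl C m l'.1 * D.z b'.1 * (vl C m l.1 * D.z b.1)⁻¹ := by
          have : f l.1 = f l'.1 * vl C m l'.1 * D.z b'.1 * (vl C m l.1 * D.z b.1)⁻¹ := by
            rw [← h2]; group
          rw [this]; group
        obtain ⟨b'', hb'', h4⟩ := P_M C (mul_mem (inv_mem (hfP _)) (hfP l.1)) (by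
          rw [h3]
          exact mul_mem (mul_mem (vl_M hm _) (C.z_mem _))
            (inv_mem (mul_mem (vl_M hm _) (C.z_mem _))))
        rw [h4] at h3
        have h5 : vl C m l.1 = vl C m l'.1 * D.z (b'' + (b'.1 + b.1)) := by
          rw [D.z_add, D.z_add]
          have e1 : D.z b'' * (vl C m l.1 * D.z b.1) = vl C m l'.1 * D.z b'.1 := by
            rw [h3]; group
          have e2 : vl C m l.1 = (D.z b'')⁻¹ * (vl C m l'.1 * D.z b'.1) * (D.z b.1)⁻¹ := by
            rw [← e1]; group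
          rw [e2, z_inv, z_inv, ← z_comm_M C b'' (mul_mem (vl_M hm _) (C.z_mem _))]
          have e3 : vl C m l'.1 * D.z b'.1 * D.z b'' = vl C m l'.1 * (D.z b'.1 * D.z b'') := by
            group
          rw [e3, ← D.z_add, add_comm, D.z_add]; group
        have h6 : l = l' := Subtype.ext (vl_inj A hm hz' l.2 l'.2 h5)
        subst h6
        have h7 : b = b' := Subtype.ext (z_eq D b.2 b'.2 (mul_left_cancel h2))
        rw [h7]
      have h2 := Nat.card_le_card_of_injective F hF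
      rwa [Nat.card_prod, card_Fq D.hq, ← sq] at h2

omit h in
/-- **the field `four` for `M` of class two**, in the form of `Cen.term`. -/
theorem four_cl [Finite G] (hO : Amb D O) : ∀ x, x * D.t = D.t * x → x * x = 1 →
      (∃ c, ∀ p ∈ D.P, x * p * x⁻¹ ∈ D.P ∧ D.ca (x * p * x⁻¹) = c * bar n (D.ca p)) →
      (∀ g ∈ U C, x * g * x⁻¹ ∈ U C) →
      ∀ g ∈ U C, (g * x) * (g * x) = 1 →
        (∃ y ∈ U C, y * x * y⁻¹ = g * x) ∨
        ∃ B : Subgroup G, B ≤ U C ∧ (∀ b ∈ B, b * b = 1) ∧ (∀ b ∈ B, b * (g * x) = (g * x) * b) ∧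
          (∀ b ∈ B, ∀ c ∈ B, b * c = c * b) ∧ g * x ∉ B ∧ (2 ^ n) ^ 2 ≤ Nat.card B := by
  rintro x h1 h2 ⟨c, h3⟩ h4 g hg hgx
  have h : OutU C x c := ⟨h1, h2, fun p hp => (h3 p hp).1, fun p hp => (h3 p hp).2, h4⟩
  exact four_aux A h hO hg hgx

end Cfsg.Agent.StdU3.Tower.FourCl
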