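import Cfsg.Agent.StdU3.Tower.Cen
import Cfsg.Agent.StdU3.Gen

/-!
# The terminal groups of the tower lie in the normal closure of `P`

Homomorphisms of `G` into commutative groups which are trivial on `P` are trivial on `U = P M`.
-/

set_option autoImplicit false
set_option linter.unusedSectionVars false
set_option linter.dupNamespace false

namespace Cfsg.Agent.StdU3.Tower.GenU

open Cfsg.Agent.StdU3.Field Cfsg.Agent.StdU3.PreDef Cfsg.Agent.StdU3.LevelOne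
open Cfsg.Agent.StdU3.LevelOneW Cfsg.Agent.StdU3.Next Cfsg.Agent.StdU3.TermDef
open Cfsg.Agent.StdU3.Tower.Cen Cfsg.Agent.StdU3.Gen

variable {G : Type*} [Group G] {K : Type*} [Field K] [Fintype K] [CharP K 2] {n : ℕ}
variable {D : Pre G K n} {O : Subgroup G} {C : Cen D O} {M : Type*} [CommGroup M] (f : G →* M)
variable (hP : ∀ p ∈ D.P, f p = 1)

/-- the torus acts on `Z` by the norm -/
theorem h_z' (hO : Amb D O) (l : Kˣ) {b : K} (hb : bar n b = b) :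
    C.h l * D.z b * (C.h l)⁻¹ = D.z (N n (l : K) * b) := by
  obtain ⟨c, hc, he⟩ := C.h_eq l
  have h1 := hO.O_P c hc _ (D.h_P l _ (D.z_mem b))
  rw [he]
  calc c * D.h l * D.z b * (c * D.h l)⁻¹ = (c * (D.h l * D.z b * (D.h l)⁻¹)) * c⁻¹ := by group
    _ = D.h l * D.z b * (D.h l)⁻¹ := by rw [h1]; group
    _ = _ := h_z D l hb

theorem conj_pow' (x y : G) (m : ℕ) : (x * y * x⁻¹) ^ m = x * y ^ m * x⁻¹ := by
  rw [conj_pow]

include hP

theorem gen_of_M (h : ∀ m ∈ C.M, f m = 1) {g : G} (hg : g ∈ Cen.U C) : f g = 1 := by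
  obtain ⟨p, hp, m, hm, rfl⟩ := hg
  rw [map_mul, hP p hp, h m hm, one_mul]

theorem gen_ab (A : Ab C) (hO : Amb D O) {g : G} (hg : g ∈ Cen.U C) : f g = 1 := by
  refine gen_of_M f hP ?_ hg
  clear hg
  obtain ⟨l, hl, -, h2⟩ := exists_l D.hq
  have key : ∀ m ∈ C.M, ∃ y ∈ C.M, f m = f y ^ 2 := by
    intro m hm
    obtain ⟨b, hb, h3⟩ := A.pw m hm
    have hfix : bar n ((N n (l : K) + 1)⁻¹ * b) = (N n (l : K) + 1)⁻¹ * b :=
      fixed_mul (fixed_inv (fixed_add (fixed_N D.hq _) (bar_one n))) hb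
    obtain ⟨v, hv, h4⟩ := A.pw_surj _ hfix
    have hhv := C.h_M l v hv
    set r := C.h l * v * (C.h l)⁻¹ * v⁻¹ with hr
    have hrM : r ∈ C.M := mul_mem hhv (inv_mem hv)
    have hc : Commute (C.h l * v * (C.h l)⁻¹) v⁻¹ := A.comm _ hhv _ (inv_mem hv)
    have h5 : r ^ 2 ^ A.k = D.z b := by
      rw [hr, hc.mul_pow, conj_pow', h4, inv_pow, h4, h_z' hO l hfix, z_inv, ← D.z_add]
      congr 1
      have : N n (l : K) * ((N n (l : K) + 1)⁻¹ * b) + (N n (l : K) + 1)⁻¹ * b =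
        ((N n (l : K) + 1) * (N n (l : K) + 1)⁻¹) * b := by ring
      rw [this, mul_inv_cancel₀ h2, one_mul]
    have h6 : (m * r⁻¹) ^ 2 ^ A.k = 1 := by
      have hc' : Commute m r⁻¹ := A.comm _ hm _ (inv_mem hrM)
      rw [hc'.mul_pow, inv_pow, h3, h5, mul_inv_cancel]
    obtain ⟨y, hy, h7⟩ := A.pw_ker _ (mul_mem hm (inv_mem hrM)) h6
    refine ⟨y, hy, ?_⟩
    have h8 : m = y * y * r := by rw [← h7]; group
    rw [h8, map_mul, hr, map_cmt f, mul_one, map_mul, pow_two]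
  have key2 : ∀ j : ℕ, ∀ m ∈ C.M, ∃ y ∈ C.M, f m = f y ^ 2 ^ j := by
    intro j
    induction j with
    | zero => exact fun m hm => ⟨m, hm, by rw [pow_zero, pow_one]⟩
    | succ j ih =>
      intro m hm
      obtain ⟨y, hy, h3⟩ := ih m hm
      obtain ⟨x, hx, h4⟩ := key y hy
      exact ⟨x, hx, by rw [h3, h4, ← pow_mul, ← pow_succ']⟩
  intro m hm
  obtain ⟨y, hy, h3⟩ := key2 (A.k + 1) m hm
  obtain ⟨b, -, h4⟩ := A.pw y hy
  rw [h3, ← map_pow, pow_succ, pow_mul, h4, map_pow, hP _ (D.z_mem b), one_pow]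

theorem gen_cl (A : Cl C) {g : G} (hg : g ∈ Cen.U C) : f g = 1 := by
  refine gen_of_M f hP ?_ hg
  clear hg
  obtain ⟨l, hl, -, h2⟩ := exists_l D.hq
  have hinv : ∀ b : K, N n (l : K) * ((N n (l : K) + 1)⁻¹ * b) + (N n (l : K) + 1)⁻¹ * b = b := by
    intro b
    have : N n (l : K) * ((N n (l : K) + 1)⁻¹ * b) + (N n (l : K) + 1)⁻¹ * b =
      ((N n (l : K) + 1) * (N n (l : K) + 1)⁻¹) * b := by ring
    rw [this, mul_inv_cancel₀ h2, one_mul]
  have hfix : ∀ {b : K}, bar n b = b →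
      bar n ((N n (l : K) + 1)⁻¹ * b) = (N n (l : K) + 1)⁻¹ * b := fun hb =>
    fixed_mul (fixed_inv (fixed_add (fixed_N D.hq _) (bar_one n))) hb
  have hu1 : A.u 1 = 0 := by
    have h1 := A.u_mul 1 A.W.one_mem 1 A.W.one_mem
    rw [mul_one] at h1
    have h4 : A.u 1 + A.u 1 = 0 := Field.add_eq_zero.2 rfl
    rw [← h1] at h4; exact h4
  have huinv : ∀ w ∈ A.W, A.u w⁻¹ = A.u w := by
    intro w hw
    have h1 := A.u_mul w hw w⁻¹ (inv_mem hw)
    rw [mul_inv_cancel, hu1] at h1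
    exact (Field.add_eq_zero.1 h1.symm).symm
  have he1 : A.e 1 = 0 := (A.e_ker 1 C.M.one_mem).2 A.W.one_mem
  have heinv : ∀ w ∈ C.M, A.e w⁻¹ = A.e w := by
    intro w hw
    have h1 := A.e_mul w hw w⁻¹ (inv_mem hw)
    rw [mul_inv_cancel, he1] at h1
    exact (Field.add_eq_zero.1 h1.symm).symm
  have hW : ∀ w ∈ A.W, f w = 1 := by
    intro w hw
    obtain ⟨v, hv, h3⟩ := A.u_surj _ (hfix (A.u_fixed w hw))
    have hhv := A.h_W l v hv
    have h4 : A.u (w * (C.h l * v * (C.h l)⁻¹ * v⁻¹)⁻¹) = 0 := by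
      rw [A.u_mul w hw _ (inv_mem (mul_mem hhv (inv_mem hv))),
        huinv _ (mul_mem hhv (inv_mem hv)), A.u_mul _ hhv _ (inv_mem hv), huinv v hv,
        A.u_h l v hv, h3, hinv]
      exact Field.add_eq_zero.2 rfl
    obtain ⟨b, -, h5⟩ := A.u_ker _ (mul_mem hw (inv_mem (mul_mem hhv (inv_mem hv)))) h4
    have h6 : w = D.z b * (C.h l * v * (C.h l)⁻¹ * v⁻¹) := by rw [← h5]; group
    rw [h6, map_mul, hP _ (D.z_mem b), map_cmt f, one_mul]
  intro m hm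
  obtain ⟨v, hv, h3⟩ := A.e_surj _ (hfix (A.e_fixed m hm))
  have hhv := C.h_M l v hv
  have h4 : A.e (m * (C.h l * v * (C.h l)⁻¹ * v⁻¹)⁻¹) = 0 := by
    rw [A.e_mul m hm _ (inv_mem (mul_mem hhv (inv_mem hv))),
      heinv _ (mul_mem hhv (inv_mem hv)), A.e_mul _ hhv _ (inv_mem hv), heinv v hv,
      A.e_h l v hv, h3, hinv]
    exact Field.add_eq_zero.2 rfl
  have h5 := (A.e_ker _ (mul_mem hm (inv_mem (mul_mem hhv (inv_mem hv))))).1 h4
  have h6 : m = (m * (C.h l * v * (C.h l)⁻¹ * v⁻¹)⁻¹) * (C.h l * v * (C.h l)⁻¹ * v⁻¹) := by group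
  rw [h6, map_mul, hW _ h5, map_cmt f, one_mul]

end Cfsg.Agent.StdU3.Tower.GenU
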