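import Cfsg.Agent.StdU3.Tower.Two
import Cfsg.Agent.StdU3.Outer

/-!
# The field `two` of `Term` for the tower, `M` of class two

`M / Z` is `F_q`-linear (scalars = the torus elements `h l`, `l ∈ F_q`) and the commutator
`fc : M × M → F_q` is `F_q`-bilinear.
-/

set_option autoImplicit false
set_option linter.unusedSectionVars false
set_option linter.dupNamespace false
set_option linter.style.haveILetI false

namespace Cfsg.Agent.StdU3.Tower.TwoCl

open Cfsg.Agent.StdU3.Field Cfsg.Agent.StdU3.PreDef Cfsg.Agent.StdU3.LevelOne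
open Cfsg.Agent.StdU3.LevelOneW Cfsg.Agent.StdU3.Next Cfsg.Agent.StdU3.Card
open Cfsg.Agent.StdU3.TermTwo Cfsg.Agent.StdU3.Tower.Cen Cfsg.Agent.StdU3.Tower.Two

/-! ### An identity in elementary abelian groups -/

theorem nine_abs {Q : Type*} [Group Q] (hc : ∀ a b : Q, a * b = b * a) (hs : ∀ a : Q, a * a = 1)
    (a1 a2 a3 a4 a5 a6 : Q) :
    (a1 * a2 * a3) * (a2 * a4 * a5) * (a3 * a5 * a6) = a1 * a4 * a6 := by
  have h1 : (a1 * a2 * a3) * (a2 * a4 * a5) * (a3 * a5 * a6) =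
      a1 * a4 * a6 * (a2 * a2) * (a3 * a3) * (a5 * a5) := by
    calc (a1 * a2 * a3) * (a2 * a4 * a5) * (a3 * a5 * a6)
        = a1 * (a2 * (a3 * a2)) * (a4 * (a5 * (a3 * (a5 * a6)))) := by group
      _ = a1 * (a2 * (a2 * a3)) * (a4 * (a5 * (a3 * (a6 * a5)))) := by rw [hc a3 a2, hc a5 a6]
      _ = a1 * (a2 * a2) * a3 * a4 * a5 * ((a3 * a6) * a5) := by group
      _ = a1 * a3 * a4 * a5 * ((a3 * a6) * a5) := by rw [hs a2, mul_one]
      _ = a1 * (a3 * (a4 * a5)) * ((a3 * a6) * a5) := by group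
      _ = a1 * ((a4 * a5) * a3) * ((a3 * a6) * a5) := by rw [hc a3 (a4 * a5)]
      _ = a1 * a4 * a5 * (a3 * a3) * (a6 * a5) := by group
      _ = a1 * a4 * a5 * (a5 * a6) := by rw [hs a3, mul_one, hc a6 a5]
      _ = a1 * a4 * (a5 * a5) * a6 := by group
      _ = a1 * a4 * a6 * (a2 * a2) * (a3 * a3) * (a5 * a5) := by
          rw [hs a2, hs a3, hs a5, mul_one, mul_one, mul_one, mul_one]
  rw [h1, hs, hs, hs, mul_one, mul_one, mul_one]

variable {G : Type*} [Group G] {K : Type*} [Field K] [Fintype K] [CharP K 2] {n : ℕ}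
variable {D : Pre G K n} {O : Subgroup G} (C : Cen D O)

/-! ### The torus -/

/-- conjugation by `h l`. -/
def cj (l : Kˣ) (g : G) : G := C.h l * g * (C.h l)⁻¹

theorem cj_mul (l : Kˣ) (x y : G) : cj C l (x * y) = cj C l x * cj C l y := by
  unfold cj; group

theorem cj_inv (l : Kˣ) (x : G) : cj C l x⁻¹ = (cj C l x)⁻¹ := by
  unfold cj; group

theorem cj_one (l : Kˣ) : cj C l 1 = 1 := by unfold cj; group

theorem cj_M (l : Kˣ) {m : G} (hm : m ∈ C.M) : cj C l m ∈ C.M := C.h_M l m hm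

theorem cj_cj (l l' : Kˣ) {m : G} (hm : m ∈ C.M) : cj C l (cj C l' m) = cj C (l * l') m :=
  (C.h_mul l l' m hm).symm

theorem cj_P (hO : Amb D O) (l : Kˣ) {p : G} (hp : p ∈ D.P) :
    cj C l p = D.h l * p * (D.h l)⁻¹ := by
  obtain ⟨c, hc, he⟩ := C.h_eq l
  have h1 := hO.O_P c hc _ (D.h_P l p hp)
  unfold cj
  rw [he]
  calc c * D.h l * p * (c * D.h l)⁻¹ = (c * (D.h l * p * (D.h l)⁻¹)) * c⁻¹ := by group
    _ = D.h l * p * (D.h l)⁻¹ := by rw [h1]; group

theorem cj_P_mem (hO : Amb D O) (l : Kˣ) {p : G} (hp : p ∈ D.P) : cj C l p ∈ D.P := by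
  rw [cj_P C hO l hp]; exact D.h_P l p hp

theorem ca_cj (hO : Amb D O) (l : Kˣ) {p : G} (hp : p ∈ D.P) :
    D.ca (cj C l p) = w n l * D.ca p := by
  rw [cj_P C hO l hp]; exact D.h_ca l p hp

theorem cj_z (hO : Amb D O) (l : Kˣ) {b : K} (hb : bar n b = b) :
    cj C l (D.z b) = D.z (N n (l : K) * b) := by
  rw [cj_P C hO l (D.z_mem b), h_z D l hb]

theorem cj_U (hO : Amb D O) (l : Kˣ) {g : G} (hg : g ∈ U C) : cj C l g ∈ U C := by
  obtain ⟨p, hp, m, hm, rfl⟩ := hg
  exact ⟨_, cj_P_mem C hO l hp, _, cj_M C l hm, cj_mul C l p m⟩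

theorem al_cj (hO : Amb D O) {l : Kˣ} (hl : bar n (l : K) = l) {g : G} (hg : g ∈ U C) :
    al C (cj C l g) = l * al C g := by
  obtain ⟨p, hp, m, hm, rfl⟩ := hg
  rw [cj_mul, al_eq C (cj_P_mem C hO l hp) (cj_M C l hm), al_eq C hp hm, ca_cj C hO l hp,
    Kernel.w_of_fixed hl]

/-! ### The commutator form on `M` -/

open Classical in
/-- the commutator `[x, y] = z (fc x y)`. -/
noncomputable def fc (_C : Cen D O) (x y : G) : K :=
  if h : ∃ b, bar n b = b ∧ x * y * x⁻¹ * y⁻¹ = D.z b then h.choose else 0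

theorem fc_spec {x y : G} (hx : x ∈ C.M) (hy : y ∈ C.M) :
    bar n (fc C x y) = fc C x y ∧ x * y * x⁻¹ * y⁻¹ = D.z (fc C x y) := by
  have h := C.cm_mem x hx y hy
  unfold fc
  rw [dif_pos h]
  exact h.choose_spec

theorem fc_eq {x y : G} (hx : x ∈ C.M) (hy : y ∈ C.M) {c : K} (hc : bar n c = c)
    (h : x * y * x⁻¹ * y⁻¹ = D.z c) : fc C x y = c := by
  have h1 := fc_spec C hx hy
  exact z_eq D h1.1 hc (h1.2.symm.trans h)

theorem fc_mul_left {x x' y : G} (hx : x ∈ C.M) (hx' : x' ∈ C.M) (hy : y ∈ C.M) :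
    fc C (x * x') y = fc C x y + fc C x' y := by
  have h1 := fc_spec C hx hy
  have h2 := fc_spec C hx' hy
  apply fc_eq C (mul_mem hx hx') hy (fixed_add h1.1 h2.1)
  have e1 : x * x' * y * (x * x')⁻¹ * y⁻¹ =
      x * (x' * y * x'⁻¹ * y⁻¹) * (y * x⁻¹ * y⁻¹) := by group
  rw [e1, h2.2, z_comm_M C _ hx, mul_assoc]
  have e2 : x * (y * x⁻¹ * y⁻¹) = x * y * x⁻¹ * y⁻¹ := by group
  rw [e2, h1.2, ← D.z_add, add_comm]

theorem fc_symm {x y : G} (hx : x ∈ C.M) (hy : y ∈ C.M) : fc C x y = fc C y x := by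
  have h1 := fc_spec C hx hy
  symm
  apply fc_eq C hy hx h1.1
  have e1 : y * x * y⁻¹ * x⁻¹ = (x * y * x⁻¹ * y⁻¹)⁻¹ := by group
  rw [e1, h1.2, z_inv]

theorem fc_zero {x y : G} (hx : x ∈ C.M) (hy : y ∈ C.M) (h : x * y = y * x) : fc C x y = 0 := by
  apply fc_eq C hx hy (bar_zero n)
  rw [z_zero, h]; group

theorem fc_cj (hO : Amb D O) (l : Kˣ) {x y : G} (hx : x ∈ C.M) (hy : y ∈ C.M) :
    fc C (cj C l x) (cj C l y) = N n (l : K) * fc C x y := by
  have h1 := fc_spec C hx hy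
  apply fc_eq C (cj_M C l hx) (cj_M C l hy) (fixed_mul (fixed_N D.hq _) h1.1)
  rw [← cj_inv, ← cj_inv, ← cj_mul, ← cj_mul, ← cj_mul, h1.2, cj_z C hO l h1.1]

/-! ### `M` of class two -/

variable {C} (A : Cl C)

include A

theorem nine {a1 a2 a3 a4 a5 a6 : G} (h1 : a1 ∈ C.M) (h2 : a2 ∈ C.M) (h3 : a3 ∈ C.M)
    (h4 : a4 ∈ C.M) (h5 : a5 ∈ C.M) (h6 : a6 ∈ C.M) :
    ∃ b, bar n b = b ∧ (a1 * a4 * a6)⁻¹ *
      ((a1 * a2 * a3) * (a2 * a4 * a5) * (a3 * a5 * a6)) = D.z b := by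
  let N : Subgroup C.M := (Z D).subgroupOf C.M
  haveI hN : N.Normal := ⟨by
    rintro ⟨x, hx⟩ hxZ ⟨g, hg⟩
    rw [Subgroup.mem_subgroupOf] at hxZ ⊢
    obtain ⟨b, hb, hxb⟩ := hxZ
    have hxb' : x = D.z b := hxb
    refine ⟨b, hb, ?_⟩
    show g * x * g⁻¹ = D.z b
    rw [hxb', z_comm_M C b hg]; group⟩
  have hc : ∀ x y : C.M ⧸ N, x * y = y * x := by
    intro x y
    obtain ⟨⟨x, hx⟩, rfl⟩ := QuotientGroup.mk'_surjective N x
    obtain ⟨⟨y, hy⟩, rfl⟩ := QuotientGroup.mk'_surjective N y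
    rw [← map_mul, ← map_mul, QuotientGroup.mk'_apply, QuotientGroup.mk'_apply,
      QuotientGroup.eq, Subgroup.mem_subgroupOf]
    obtain ⟨b, hb, h⟩ := C.cm_mem y⁻¹ (inv_mem hy) x⁻¹ (inv_mem hx)
    refine ⟨b, hb, ?_⟩
    show (x * y)⁻¹ * (y * x) = D.z b
    rw [← h]; group
  have hs : ∀ x : C.M ⧸ N, x * x = 1 := by
    intro x
    obtain ⟨⟨x, hx⟩, rfl⟩ := QuotientGroup.mk'_surjective N x
    rw [← map_mul, QuotientGroup.mk'_apply, QuotientGroup.eq_one_iff, Subgroup.mem_subgroupOf]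
    obtain ⟨b, hb, h⟩ := A.sq x hx
    exact ⟨b, hb, h⟩
  have h := nine_abs hc hs (QuotientGroup.mk' N ⟨a1, h1⟩) (QuotientGroup.mk' N ⟨a2, h2⟩)
    (QuotientGroup.mk' N ⟨a3, h3⟩) (QuotientGroup.mk' N ⟨a4, h4⟩) (QuotientGroup.mk' N ⟨a5, h5⟩)
    (QuotientGroup.mk' N ⟨a6, h6⟩)
  rw [← map_mul, ← map_mul, ← map_mul, ← map_mul, ← map_mul, ← map_mul, ← map_mul, ← map_mul,
    ← map_mul, ← map_mul, QuotientGroup.mk'_apply, QuotientGroup.mk'_apply] at h
  have h' := QuotientGroup.eq.mp h.symm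
  rw [Subgroup.mem_subgroupOf] at h'
  obtain ⟨b, hb, h''⟩ := h'
  exact ⟨b, hb, h''⟩

theorem N_fixed {l : Kˣ} (hl : bar n (l : K) = l) : N n (l : K) = (l : K) ^ 2 :=
  N_of_fixed hl

/-- `M / Z` is `F_q`-linear. -/
theorem lin {m m' m'' : Kˣ} (hm : bar n (m : K) = m) (hm' : bar n (m' : K) = m')
    (hmm : (m'' : K) = m + m') {y : G} (hy : y ∈ C.M) :
    ∃ b, bar n b = b ∧ cj C (m * m) y * cj C (m' * m') y * cj C (m'' * m'') y = D.z b := by
  have hm'' : bar n (m'' : K) = m'' := by rw [hmm]; exact fixed_add hm hm'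
  have hN : N n (m : K) + N n (m' : K) + N n (m'' : K) = 0 := by
    rw [N_of_fixed hm, N_of_fixed hm', N_of_fixed hm'', hmm]
    have : (m : K) ^ 2 + (m' : K) ^ 2 + ((m : K) + m') ^ 2 =
      ((m : K) ^ 2 + (m : K) ^ 2) + ((m' : K) ^ 2 + (m' : K) ^ 2) + ((m : K) * m' + m * m') := by
      ring
    rw [this]
    simp only [Field.add_self]
  -- `chi`
  let chi : G → G := fun y => cj C m y * cj C m' y * cj C m'' y
  have hchi : ∀ y, chi y = cj C m y * cj C m' y * cj C m'' y := fun _ => rfl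
  have hchiM : ∀ y ∈ C.M, chi y ∈ C.M := fun y hy =>
    mul_mem (mul_mem (cj_M C m hy) (cj_M C m' hy)) (cj_M C m'' hy)
  have hchiW : ∀ y ∈ C.M, chi y ∈ A.W := by
    intro y hy
    rw [← A.e_ker _ (hchiM y hy), hchi,
      A.e_mul _ (mul_mem (cj_M C m hy) (cj_M C m' hy)) _ (cj_M C m'' hy),
      A.e_mul _ (cj_M C m hy) _ (cj_M C m' hy)]
    have e1 : A.e (cj C m y) = N n (m : K) * A.e y := A.e_h m y hy
    have e2 : A.e (cj C m' y) = N n (m' : K) * A.e y := A.e_h m' y hy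
    have e3 : A.e (cj C m'' y) = N n (m'' : K) * A.e y := A.e_h m'' y hy
    rw [e1, e2, e3, ← add_mul, ← add_mul, hN, zero_mul]
  have hchiZ : ∀ y ∈ A.W, ∃ b, bar n b = b ∧ chi y = D.z b := by
    intro y hy
    have e1 : A.u (cj C m y) = N n (m : K) * A.u y := A.u_h m y hy
    have e2 : A.u (cj C m' y) = N n (m' : K) * A.u y := A.u_h m' y hy
    have e3 : A.u (cj C m'' y) = N n (m'' : K) * A.u y := A.u_h m'' y hy
    have f1 : cj C m y ∈ A.W := A.h_W m y hy
    have f2 : cj C m' y ∈ A.W := A.h_W m' y hy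
    have f3 : cj C m'' y ∈ A.W := A.h_W m'' y hy
    apply A.u_ker _ (mul_mem (mul_mem f1 f2) f3)
    rw [A.u_mul _ (mul_mem f1 f2) _ f3, A.u_mul _ f1 _ f2, e1, e2, e3, ← add_mul, ← add_mul, hN,
      zero_mul]
  obtain ⟨b0, hb0, h0⟩ := hchiZ _ (hchiW y hy)
  have hexp : chi (chi y) = (cj C (m * m) y * cj C (m * m') y * cj C (m * m'') y) *
      (cj C (m * m') y * cj C (m' * m') y * cj C (m' * m'') y) *
      (cj C (m * m'') y * cj C (m' * m'') y * cj C (m'' * m'') y) := by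
    rw [hchi (chi y), hchi y, cj_mul, cj_mul, cj_mul, cj_mul, cj_mul, cj_mul, cj_cj C _ _ hy,
      cj_cj C _ _ hy, cj_cj C _ _ hy, cj_cj C _ _ hy, cj_cj C _ _ hy, cj_cj C _ _ hy,
      cj_cj C _ _ hy, cj_cj C _ _ hy, cj_cj C _ _ hy, mul_comm m' m, mul_comm m'' m,
      mul_comm m'' m']
  obtain ⟨b1, hb1, h1⟩ := nine A (cj_M C (m * m) hy) (cj_M C (m * m') hy) (cj_M C (m * m'') hy)
    (cj_M C (m' * m') hy) (cj_M C (m' * m'') hy) (cj_M C (m'' * m'') hy)
  rw [← hexp, h0] at h1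
  refine ⟨b0 + b1, fixed_add hb0 hb1, ?_⟩
  have h2 : cj C (m * m) y * cj C (m' * m') y * cj C (m'' * m'') y = D.z b0 * (D.z b1)⁻¹ := by
    rw [← h1]; group
  rw [h2, z_inv, D.z_add]

/-- the square map. -/
theorem exists_q {y : G} (hy : y ∈ C.M) : ∃ b, bar n b = b ∧ y * y = D.z b := A.sq y hy

/-- the scalar multiples of `y` commute. -/
theorem comm_cj (hO : Amb D O) {l l' : Kˣ} (hl : bar n (l : K) = l) (hl' : bar n (l' : K) = l')
    {y : G} (hy : y ∈ C.M) : cj C l y * cj C l' y = cj C l' y * cj C l y := by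
  by_cases hll : l = l'
  · rw [hll]
  -- square roots
  have hroot : ∀ l : Kˣ, bar n (l : K) = l → ∃ m : Kˣ, bar n (m : K) = m ∧ m * m = l := by
    intro l hl
    obtain ⟨m, hm, h4⟩ := Outer.exists_fourth D.hq hl
    have hm0 : m ≠ 0 := by
      rintro rfl
      rw [zero_pow (by norm_num)] at h4
      exact l.ne_zero h4.symm
    refine ⟨Units.mk0 (m ^ 2) (pow_ne_zero 2 hm0), ?_, ?_⟩
    · rw [Units.val_mk0, bar_pow, hm]
    · apply Units.val_injective
      rw [Units.val_mul, Units.val_mk0, ← h4]; ring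
  obtain ⟨m, hm, rfl⟩ := hroot l hl
  obtain ⟨m', hm', rfl⟩ := hroot l' hl'
  have hne : (m : K) + m' ≠ 0 := by
    intro h
    apply hll
    have : m = m' := Units.val_injective (Field.add_eq_zero.mp h)
    rw [this]
  set m'' : Kˣ := Units.mk0 ((m : K) + m') hne with hm2
  have hmm : (m'' : K) = m + m' := rfl
  have hm'' : bar n (m'' : K) = m'' := by rw [hmm]; exact fixed_add hm hm'
  obtain ⟨b, hb, h⟩ := lin A hm hm' hmm hy
  obtain ⟨s, hs, hsq⟩ := A.sq y hy
  set a := cj C (m * m) y with ha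
  set a' := cj C (m' * m') y with ha'
  set a'' := cj C (m'' * m'') y with ha''
  have haM : a ∈ C.M := cj_M C _ hy
  have haM' : a' ∈ C.M := cj_M C _ hy
  have haM'' : a'' ∈ C.M := cj_M C _ hy
  have hsqc : ∀ l : Kˣ, cj C l y * cj C l y = D.z (N n (l : K) * s) := by
    intro l
    rw [← cj_mul, hsq, cj_z C hO l hs]
  have e1 : a * a = D.z ((m : K) ^ 4 * s) := by
    rw [ha, hsqc, Units.val_mul, N_mul, N_of_fixed hm]; congr 1; ring
  have e2 : a' * a' = D.z ((m' : K) ^ 4 * s) := by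
    rw [ha', hsqc, Units.val_mul, N_mul, N_of_fixed hm']; congr 1; ring
  have e3 : a'' * a'' = D.z (((m : K) ^ 4 + (m' : K) ^ 4) * s) := by
    rw [ha'', hsqc, Units.val_mul, N_mul, N_of_fixed hm'', hmm]
    congr 2
    have : ((m : K) + m') ^ 2 = (m : K) ^ 2 + (m' : K) ^ 2 := by
      have h2 : (2 : K) = 0 := CharTwo.two_eq_zero
      rw [add_sq, h2, zero_mul, zero_mul, add_zero]
    rw [this]
    have h2 : (2 : K) = 0 := CharTwo.two_eq_zero
    have h3 : ((m : K) ^ 2 + (m' : K) ^ 2) * ((m : K) ^ 2 + (m' : K) ^ 2) =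
      (m : K) ^ 4 + (m' : K) ^ 4 + 2 * ((m : K) ^ 2 * (m' : K) ^ 2) := by ring
    rw [h3, h2, zero_mul, add_zero]
  -- `a a' = z b a''⁻¹`
  have e4 : a * a' = D.z b * a''⁻¹ := by rw [← h]; group
  have e5 : a * a' * (a * a') = D.z (((m : K) ^ 4 + (m' : K) ^ 4) * s) := by
    have h1 : D.z b * a''⁻¹ * (D.z b * a''⁻¹) = D.z b * (a''⁻¹ * D.z b) * a''⁻¹ := by group
    rw [e4, h1, z_comm_M C b (inv_mem haM''), ← mul_assoc, z_self, one_mul, ← mul_inv_rev, e3,
      z_inv]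
  have e6 : a * a' * (a * a') = a * (a' * a) * a' := by group
  have e7 : a * (a * a') * a' = D.z (((m : K) ^ 4 + (m' : K) ^ 4) * s) := by
    have : a * (a * a') * a' = (a * a) * (a' * a') := by group
    rw [this, e1, e2, ← D.z_add, add_mul]
  rw [e6, ← e7] at e5
  exact (mul_left_cancel (mul_right_cancel e5)).symm

/-- the commutator is `F_q`-linear. -/
theorem fc_smul (hO : Amb D O) {l : Kˣ} (hl : bar n (l : K) = l) {x y : G} (hx : x ∈ C.M)
    (hy : y ∈ C.M) : fc C x (cj C l y) = l * fc C x y := by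
  have hsqinj : ∀ a b : K, a * a = b * b → a = b := by
    intro a b h
    have h1 : (a + b) * (a + b) = 0 := by
      have h2 : (a + b) * (a + b) = a * a + b * b + (a * b + a * b) := by ring
      rw [h2, Field.add_self, add_zero, h, Field.add_self]
    exact Field.add_eq_zero.mp (mul_self_eq_zero.mp h1)
  -- one of the two in `W`
  have hW : ∀ x ∈ C.M, ∀ y ∈ A.W, fc C x (cj C l y) = l * fc C x y := by
    intro x hx y hy
    have hyM := A.W_le hy
    have h1 := fc_spec C hx hyM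
    have hyl : cj C l y ∈ A.W := A.h_W l y hy
    have h2 := fc_spec C hx (cj_M C l hyM)
    apply hsqinj
    rw [A.cm_eq x hx _ hyl _ h2.1 h2.2]
    have e1 : A.u (cj C l y) = N n (l : K) * A.u y := A.u_h l y hy
    rw [e1, N_of_fixed hl]
    have e2 := A.cm_eq x hx y hy _ h1.1 h1.2
    linear_combination (-(l : K) ^ 2) * e2
  have hW' : ∀ x ∈ A.W, ∀ y ∈ C.M, fc C x (cj C l y) = l * fc C x y := by
    intro x hx y hy
    have hxM := A.W_le hx
    rw [fc_symm C hxM (cj_M C l hy), fc_symm C hxM hy]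
    have h1 := fc_spec C hy hxM
    have h2 := fc_spec C (cj_M C l hy) hxM
    apply hsqinj
    rw [A.cm_eq _ (cj_M C l hy) x hx _ h2.1 h2.2]
    have e1 : A.e (cj C l y) = N n (l : K) * A.e y := A.e_h l y hy
    rw [e1, N_of_fixed hl]
    have e2 := A.cm_eq y hy x hx _ h1.1 h1.2
    linear_combination (-(l : K) ^ 2) * e2
  by_cases hyW : y ∈ A.W
  · exact hW x hx y hyW
  by_cases hxW : x ∈ A.W
  · exact hW' x hxW y hy
  have hey : A.e y ≠ 0 := fun h => hyW ((A.e_ker y hy).mp h)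
  have hex : A.e x ≠ 0 := fun h => hxW ((A.e_ker x hx).mp h)
  -- `e x = r² e y`
  have hfix : bar n (A.e x / A.e y) = A.e x / A.e y := by
    rw [div_eq_mul_inv]
    exact fixed_mul (A.e_fixed x hx) (fixed_inv (A.e_fixed y hy))
  obtain ⟨r0, hr0, h4⟩ := Outer.exists_fourth D.hq hfix
  have hr0' : r0 ≠ 0 := by
    rintro rfl
    rw [zero_pow (by norm_num)] at h4
    exact div_ne_zero hex hey h4.symm
  set r : Kˣ := Units.mk0 (r0 ^ 2) (pow_ne_zero 2 hr0') with hr
  have hrf : bar n (r : K) = r := by rw [hr, Units.val_mk0, bar_pow, hr0]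
  have hrx : A.e (cj C r y) = A.e x := by
    have e1 : A.e (cj C r y) = N n (r : K) * A.e y := A.e_h r y hy
    have e2 : (r : K) ^ 2 = r0 ^ 4 := by rw [hr, Units.val_mk0]; ring
    rw [e1, N_of_fixed hrf, e2, h4, div_mul_cancel₀ _ hey]
  have hw : (cj C r y)⁻¹ * x ∈ A.W := by
    have hm := mul_mem (inv_mem (cj_M C r hy)) hx
    rw [← A.e_ker _ hm, A.e_mul _ (inv_mem (cj_M C r hy)) _ hx]
    have e1 := A.e_mul _ (cj_M C r hy) _ (inv_mem (cj_M C r hy))
    rw [mul_inv_cancel] at e1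
    have e2 : A.e (1 : G) = 0 := (A.e_ker 1 C.M.one_mem).mpr A.W.one_mem
    rw [e2] at e1
    rw [Field.add_eq_zero.mp e1.symm] at hrx
    rw [hrx, Field.add_self]
  have hx' : x = cj C r y * ((cj C r y)⁻¹ * x) := by group
  rw [hx', fc_mul_left C (cj_M C r hy) (A.W_le hw) (cj_M C l hy),
    fc_mul_left C (cj_M C r hy) (A.W_le hw) hy, hW' _ hw y hy,
    fc_zero C (cj_M C r hy) (cj_M C l hy) (comm_cj A hO hrf hl hy)]
  have h1 : fc C (cj C r y) y = 0 := by
    have e1 := comm_cj A hO hrf (l' := 1) (by rw [Units.val_one, bar_one]) hy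
    have e2 : cj C 1 y = y := by
      have e3 := cj_cj C 1 1 hy
      rw [mul_one] at e3
      unfold cj at e3 ⊢
      have e4 : C.h 1 * (C.h 1 * y * (C.h 1)⁻¹) * (C.h 1)⁻¹ = C.h 1 * y * (C.h 1)⁻¹ := e3
      exact mul_left_cancel (mul_right_cancel e4)
    rw [e2] at e1
    exact fc_zero C (cj_M C r hy) hy e1
  rw [h1, zero_add, zero_add]

theorem card_W : Nat.card A.W = (2 ^ n) ^ 2 := by
  rw [card_of_hom A.W (Z D) A.u (Fq K n) A.u_mul _ A.u_fixed A.u_surj, card_Z, card_Fq D.hq]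
  · ring
  · intro x
    constructor
    · rintro ⟨b, hb, rfl⟩
      refine ⟨A.z_W b, ?_⟩
      have h1 := A.W_sq _ (A.z_W b)
      rw [z_self] at h1
      exact D.z_inj _ (A.u_fixed _ (A.z_W b)) h1.symm
    · rintro ⟨hx, h0⟩
      exact A.u_ker x hx h0

theorem card_M : Nat.card C.M = (2 ^ n) ^ 3 := by
  rw [card_of_hom C.M A.W A.e (Fq K n) A.e_mul _ A.e_fixed A.e_surj, card_W A, card_Fq D.hq]
  · ring
  · intro x
    constructor
    · intro hx
      exact ⟨A.W_le hx, (A.e_ker x (A.W_le hx)).mpr hx⟩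
    · rintro ⟨hx, h0⟩
      exact (A.e_ker x hx).mp h0

/-- elements of `U` commuting with `v` commute with the scalar multiples of `v`. -/
theorem comm_cj_U (hO : Amb D O) {l : Kˣ} (hl : bar n (l : K) = l) {g v : G} (hg : g ∈ U C)
    (hv : v ∈ U C) (h : g * v = v * g) : g * cj C l v = cj C l v * g := by
  obtain ⟨p', hp', m', hm', rfl⟩ := hg
  obtain ⟨p, hp, m, hm, rfl⟩ := hv
  have h1 := cmt_U C hp' hp hm' hm
  rw [cmt_P hp' hp, (fc_spec C hm' hm).2, ← D.z_add] at h1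
  have h2 : D.z (Tr n (D.ca p' * bar n (D.ca p)) + fc C m' m) = 1 := by
    rw [← h1, h]; group
  have h3 := D.z_inj _ (fixed_add (fixed_Tr D.hq _) (fc_spec C hm' hm).1) h2
  have h4 := cmt_U C hp' (cj_P_mem C hO l hp) hm' (cj_M C l hm)
  rw [cmt_P hp' (cj_P_mem C hO l hp), (fc_spec C hm' (cj_M C l hm)).2, ← D.z_add,
    fc_smul A hO hl hm' hm, ca_cj C hO l hp, Kernel.w_of_fixed hl, bar_mul, hl,
    mul_left_comm (D.ca p') (l : K), Tr_mul_fixed hl, ← mul_add, h3, mul_zero, z_zero] at h4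
  rw [cj_mul]
  have h5 := mul_inv_eq_one.mp h4
  exact mul_inv_eq_iff_eq_mul.mp h5

open Classical in
/-- the multiples of `v`. -/
noncomputable def vl (C : Cen D O) (v : G) (l : K) : G :=
  if h : l = 0 then 1 else cj C (Units.mk0 l h) v

omit A in
theorem vl_zero (v : G) : vl C v 0 = 1 := dif_pos rfl

omit A in
theorem vl_ne (v : G) {l : K} (h : l ≠ 0) : vl C v l = cj C (Units.mk0 l h) v := dif_neg h

/-- **the field `two` for `M` of class two.** -/
theorem two_cl [Finite G] (hO : Amb D O) {v : G} (hv : v ∈ U C) (h1 : v * v = 1)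
    (hz : ∀ b, v ≠ D.z b) : HasTwo (n := n) (U C) v := by
  have hU : Nat.card (U C) = (2 ^ n) ^ 5 := by
    rw [card_U C, card_M A]; ring
  let B : Subgroup G :=
    { carrier := {g | g ∈ U C ⊓ Subgroup.centralizer {v} ∧ g * g = 1 ∧
        ∀ c ∈ U C ⊓ Subgroup.centralizer {v}, g * c = c * g}
      one_mem' := ⟨one_mem _, one_mul 1, fun c _ => by rw [one_mul, mul_one]⟩
      mul_mem' := by
        rintro x y ⟨hx, hx1, hxc⟩ ⟨hy, hy1, hyc⟩
        refine ⟨mul_mem hx hy, ?_, ?_⟩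
        · have : x * y * (x * y) = x * (y * x) * y := by group
          rw [this, ← hxc y hy]
          have : x * (x * y) * y = (x * x) * (y * y) := by group
          rw [this, hx1, hy1, one_mul]
        · intro c hc
          rw [mul_assoc, hyc c hc, ← mul_assoc, hxc c hc, mul_assoc]
      inv_mem' := by
        rintro x ⟨hx, hx1, hxc⟩
        refine ⟨inv_mem hx, ?_, ?_⟩
        · rw [← mul_inv_rev, hx1, inv_one]
        · intro c hc
          have h := hxc c hc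
          calc x⁻¹ * c = x⁻¹ * (c * x) * x⁻¹ := by group
            _ = c * x⁻¹ := by rw [← h]; group }
  have hB : ∀ g, g ∈ B ↔ g ∈ U C ⊓ Subgroup.centralizer {v} ∧ g * g = 1 ∧
    ∀ c ∈ U C ⊓ Subgroup.centralizer {v}, g * c = c * g := fun _ => Iff.rfl
  refine ⟨U C ⊓ Subgroup.centralizer {v}, inf_le_left, fun c hc => (mem_cent.mp hc).2, ?_, B,
    fun g hg => ((hB g).mp hg).1, fun g hg => ((hB g).mp hg).2.1,
    fun g hg => ((hB g).mp hg).2.2, ?_⟩
  · have h3 := card_cent C hv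
    rw [hU] at h3
    have h4 : (2 ^ n) ^ 5 = (2 ^ n) ^ 3 * 2 ^ n * 2 ^ n := by ring
    rw [h4] at h3
    have h5 := Nat.le_of_mul_le_mul_right h3 (by positivity)
    exact (Nat.le_mul_of_pos_right _ (by positivity)).trans h5
  · -- multiples of `v`
    have hmem : ∀ l : K, bar n l = l → ∀ b, vl C v l * D.z b ∈ B := by
      intro l hl b
      have hzB : ∀ b, D.z b ∈ B := by
        intro b
        rw [hB, mem_cent]
        refine ⟨⟨M_le C (C.z_mem b), (z_comm_U C b hv).symm⟩, z_self D b, ?_⟩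
        intro c hc
        exact (z_comm_U C b (mem_cent.mp hc).1).symm
      apply mul_mem _ (hzB b)
      by_cases h0 : l = 0
      · rw [h0, vl_zero]; exact one_mem _
      · rw [vl_ne v h0]
        have hl' : bar n ((Units.mk0 l h0 : Kˣ) : K) = (Units.mk0 l h0 : Kˣ) := hl
        have hcU := cj_U C hO (Units.mk0 l h0) hv
        rw [hB, mem_cent]
        refine ⟨⟨hcU, ?_⟩, ?_, ?_⟩
        · exact (comm_cj_U A hO hl' hv hv rfl).symm
        · rw [← cj_mul, h1, cj_one]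
        · intro c hc
          obtain ⟨hcU', hcv⟩ := mem_cent.mp hc
          exact (comm_cj_U A hO hl' hcU' hv hcv).symm
    -- the coordinates
    have hal : ∀ l : K, bar n l = l → al C (vl C v l) = l * al C v := by
      intro l hl
      by_cases h0 : l = 0
      · rw [h0, vl_zero, zero_mul, al_M C C.M.one_mem]
      · rw [vl_ne v h0]
        exact al_cj C hO (l := Units.mk0 l h0) hl hv
    have hvlU : ∀ l : K, vl C v l ∈ U C := by
      intro l
      by_cases h0 : l = 0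
      · rw [h0, vl_zero]; exact one_mem _
      · rw [vl_ne v h0]; exact cj_U C hO _ hv
    have hinj : ∀ l l' : K, bar n l = l → bar n l' = l' → ∀ b b', bar n b = b → bar n b' = b' →
        vl C v l * D.z b = vl C v l' * D.z b' → l = l' := by
      intro l l' hl hl' b b' _ _ h
      by_cases hav : al C v = 0
      · have hvM := al_ker C hv hav
        have hev : A.e v ≠ 0 := by
          intro h0
          have hvW := (A.e_ker v hvM).mp h0
          have h2 := A.W_sq v hvW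
          rw [h1] at h2
          have h3 := D.z_inj _ (A.u_fixed v hvW) h2.symm
          obtain ⟨b, -, hb⟩ := A.u_ker v hvW h3
          exact hz b hb
        have hvlM : ∀ l : K, vl C v l ∈ C.M := by
          intro l
          by_cases h0 : l = 0
          · rw [h0, vl_zero]; exact one_mem _
          · rw [vl_ne v h0]; exact cj_M C _ hvM
        have hez : ∀ b, A.e (D.z b) = 0 := fun b =>
          (A.e_ker _ (C.z_mem b)).mpr (A.z_W b)
        have hel : ∀ l : K, bar n l = l → A.e (vl C v l) = l ^ 2 * A.e v := by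
          intro l hl
          by_cases h0 : l = 0
          · rw [h0, vl_zero, zero_pow (by norm_num), zero_mul]
            exact (A.e_ker 1 C.M.one_mem).mpr A.W.one_mem
          · rw [vl_ne v h0]
            have e1 : A.e (cj C (Units.mk0 l h0) v) = N n ((Units.mk0 l h0 : Kˣ) : K) * A.e v :=
              A.e_h _ v hvM
            rw [e1, Units.val_mk0, N_of_fixed hl]
        have h2 := congrArg A.e h
        rw [A.e_mul _ (hvlM l) _ (C.z_mem b), A.e_mul _ (hvlM l') _ (C.z_mem b'), hez, hez,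
          add_zero, add_zero, hel l hl, hel l' hl'] at h2
        have h3 := mul_right_cancel₀ hev h2
        have h4 : (l + l') ^ 2 = 0 := by
          have h5 : (l + l') ^ 2 = l ^ 2 + l' ^ 2 + (l * l' + l * l') := by ring
          rw [h5, h3, Field.add_self, Field.add_self, add_zero]
        exact Field.add_eq_zero.mp (pow_eq_zero_iff (by norm_num) |>.mp h4)
      · have h2 := congrArg (al C) h
        rw [al_mul C (hvlU l) (M_le C (C.z_mem b)), al_mul C (hvlU l') (M_le C (C.z_mem b')),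
          al_z, al_z, add_zero, add_zero, hal l hl, hal l' hl'] at h2
        exact mul_right_cancel₀ hav h2
    let f : Fq K n × Fq K n → B := fun x => ⟨vl C v x.1.1 * D.z x.2.1, hmem _ x.1.2 _⟩
    have hf : Function.Injective f := by
      rintro ⟨l, b⟩ ⟨l', b'⟩ h
      have h2 : vl C v l.1 * D.z b.1 = vl C v l'.1 * D.z b'.1 := congrArg Subtype.val h
      have h3 : l = l' := Subtype.ext (hinj _ _ l.2 l'.2 _ _ b.2 b'.2 h2)
      subst h3
      have h4 : b = b' := Subtype.ext (z_eq D b.2 b'.2 (mul_left_cancel h2))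
      rw [h4]
    have h2 := Nat.card_le_card_of_injective f hf
    rwa [Nat.card_prod, card_Fq D.hq, ← sq] at h2

end Cfsg.Agent.StdU3.Tower.TwoCl
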