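import Cfsg.Agent.StdU3.Tower.Inst
import Cfsg.Agent.StdU3.Tower.TwoCl
import Cfsg.Agent.StdU3.Tower.FourAb
import Cfsg.Agent.StdU3.Tower.FourCl
import Cfsg.Agent.StdU3.Tower.GenU

/-!
# The terminal group of the tower, `gam = 1`
-/

set_option autoImplicit false
set_option linter.unusedSectionVars false
set_option linter.dupNamespace false

namespace Cfsg.Agent.StdU3.Tower.Final

open Cfsg.Agent.StdU3.Field Cfsg.Agent.StdU3.PreDef Cfsg.Agent.StdU3.LevelOne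
open Cfsg.Agent.StdU3.LevelOneW Cfsg.Agent.StdU3.NormQ Cfsg.Agent.StdU3.Kernel
open Cfsg.Agent.StdU3.Next Cfsg.Agent.StdU3.Tower.Base Cfsg.Agent.StdU3.Tower.GBase
open Cfsg.Agent.StdU3.Tower.Cen Cfsg.Agent.StdU3.Tower.End Cfsg.Agent.StdU3.Tower.Inst
open Cfsg.Agent.StdU3.FldDef Cfsg.Agent.StdU3.TermDef Cfsg.Agent.StdU3.Tower.Two
open Cfsg.Agent.StdU3.Tower.TwoCl Cfsg.Agent.StdU3.Tower.FourAb
open Cfsg.Agent.StdU3.Tower.FourCl

variable {G : Type*} [Group G] [Finite G] {K : Type*} [Field K] [Fintype K] [CharP K 2] {n : ℕ}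
variable {D : Pre G K n}

theorem exists_ne (hq : Qd K n) : ∃ ν : Fq K n, ν ≠ 0 ∧ ν ≠ 1 := by
  obtain ⟨l, hl, h1⟩ := exists_fixed_ne hq
  refine ⟨⟨l, hl⟩, ?_, ?_⟩
  · intro h
    exact l.ne_zero (congrArg Subtype.val h)
  · intro h
    exact h1 (congrArg Subtype.val h)

/-- **the end of the tower**, for a 2-group `R` acting. -/
theorem ends {O : Subgroup G} (hO : Amb D O) (hg : gam D = 1) {R : Subgroup G}
    (hR : Rg (GBase.hb hO) R) (hRW : ∀ r ∈ R, ∀ x ∈ W D, r * x * r⁻¹ ∈ W D) :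
    ∃ k, 1 ≤ k ∧ ∃ L : Lvl (GBase.hb hO) k, W D ≤ L.W ∧
      (∀ r ∈ R, ∀ x ∈ L.W, r * x * r⁻¹ ∈ L.W) ∧
      ((∀ g ∈ L.NH, L.ψ g = 0) ∨ Nonempty (TypeII L R) ∨ Nonempty (TypeIII L R)) :=
  tower_end (Princ.odd_units D.hq) (exists_ne D.hq) hR le_rfl (GBase.lvl hO hg) hRW

section Three

variable {O : Subgroup G} {hO : Amb D O} {k : ℕ} (L : Lvl (GBase.hb hO) k)

theorem threeI (F : Fld D) (hk : 1 ≤ k) (h0 : ∀ g ∈ L.NH, L.ψ g = 0) :
    ∀ g ∈ Cen.U (cenI L hk), (g * D.t) * (g * D.t) = 1 →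
      (∃ y ∈ Cen.U (cenI L hk), y * D.t * y⁻¹ = g * D.t) ∨ (∀ y : G, y * D.t * y⁻¹ ≠ g * D.t) := by
  rintro g ⟨p, hp, w, hw, rfl⟩ h1
  by_cases h : ∃ y : G, y * D.t * y⁻¹ = p * w * D.t
  · left
    obtain ⟨y, hy⟩ := h
    have hwP := mem_H.1 (L.W_le hw)
    have htP := D.t_P p hp
    have h2 : D.t * w * D.t = w⁻¹ := by
      have h3 : D.t * w * D.t⁻¹ = w⁻¹ := L.inv w hw
      rwa [t_inv D] at h3
    have h3 : p * p = 1 := by
      rw [← h1]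
      calc p * p = p * (w * w⁻¹) * p := by group
        _ = p * (w * (D.t * w * D.t)) * p := by rw [h2]
        _ = p * w * D.t * w * (D.t * p) := by group
        _ = p * w * D.t * w * (p * D.t) := by rw [htP]
        _ = p * w * D.t * (w * p) * D.t := by group
        _ = _ := by rw [← hwP p hp]; group
    obtain ⟨b, hb, rfl⟩ := D.exists_z p hp (by
      have h4 := D.P_sq p hp
      rw [h3] at h4
      have h5 : N n (D.ca p) = 0 := by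
        apply D.z_inj _ (fixed_N D.hq _) h4.symm
      exact N_eq_zero h5)
    obtain ⟨v, hv, h5⟩ := ThreeI.three L (TermExists.fl_of_fld F) F.ti hk h0
      (L.W.mul_mem (z_mem_W L b) hw) hy
    exact ⟨v, Cen.M_le (cenI L hk) hv, h5⟩
  · right
    push Not at h
    exact h

theorem threeII (F : Fld D) (hk : 1 ≤ k) {R : Subgroup G} (E : TypeII L R) :
    ∀ g ∈ Cen.U (cenV E.V hk (hcmII E)), (g * D.t) * (g * D.t) = 1 →
      (∃ y ∈ Cen.U (cenV E.V hk (hcmII E)), y * D.t * y⁻¹ = g * D.t) ∨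
        (∀ y : G, y * D.t * y⁻¹ ≠ g * D.t) := by
  rintro g ⟨p, hp, s, hs, rfl⟩ h1
  rcases ThreeII.three_II E (TermExists.fl_of_fld F) hk hp hs h1 with ⟨r, hr, h2⟩ | h2
  · exact Or.inl ⟨r, Cen.M_le (cenV E.V hk (hcmII E)) hr, h2⟩
  · exact Or.inr h2

theorem threeIII (hk : 1 ≤ k) {R : Subgroup G} (E : TypeIII L R) :
    ∀ g ∈ Cen.U (cenV E.V hk (hcmIII E)), (g * D.t) * (g * D.t) = 1 →
      (∃ y ∈ Cen.U (cenV E.V hk (hcmIII E)), y * D.t * y⁻¹ = g * D.t) ∨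
        (∀ y : G, y * D.t * y⁻¹ ≠ g * D.t) := by
  rintro g ⟨p, hp, s, hs, rfl⟩ h1
  obtain ⟨r, hr, h2⟩ := ThreeII.three_III E hk hp hs h1
  exact Or.inl ⟨r, Cen.M_le (cenV E.V hk (hcmIII E)) hr, h2⟩

end Three

/-- **The terminal group of the tower** with its structure. `R` is a 2-group acting on `H`. -/
theorem exists_cen (F : Fld D) (hg : gam D = 1) {R : Subgroup G}
    (hR : Rg (GBase.hb F.amb) R) (hRW : ∀ r ∈ R, ∀ x ∈ W D, r * x * r⁻¹ ∈ W D) :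
    ∃ (C : Cen D F.O) (T : Term D), T.U = Cen.U C ∧ (∀ r ∈ R, ∀ m ∈ C.M, r * m * r⁻¹ ∈ C.M) ∧
      W D ≤ C.M ∧ (Nonempty (Ab C) ∨ Nonempty (Cl C)) := by
  obtain ⟨k, hk, L, hWL, hRL, h | ⟨⟨E⟩⟩ | ⟨⟨E⟩⟩⟩ := ends F.amb hg hR hRW
  · exact ⟨cenI L hk, Cen.term (cenI L hk) (fun v hv h1 hz => two_ab (abI L hk) hv h1 hz)
      (threeI L F hk h) (four_ab (abI L hk) F.amb), rfl, hRL, hWL, Or.inl ⟨abI L hk⟩⟩
  · exact ⟨cenV E.V hk (hcmII E), Cen.term (cenV E.V hk (hcmII E))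
      (fun v hv h1 hz => two_ab (abII hk E) hv h1 hz)
      (threeII L F hk E) (four_ab (abII hk E) F.amb), rfl, E.R_V, hWL.trans E.V.W_le,
      Or.inl ⟨abII hk E⟩⟩
  · exact ⟨cenV E.V hk (hcmIII E), Cen.term (cenV E.V hk (hcmIII E))
      (fun v hv h1 hz => two_cl (clIII E.V hk E) F.amb hv h1 hz)
      (threeIII L hk E) (four_cl (clIII E.V hk E) F.amb), rfl, E.R_V, hWL.trans E.V.W_le,
      Or.inr ⟨clIII E.V hk E⟩⟩

/-- **The terminal group of the tower**. -/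
theorem exists_term (F : Fld D) (hg : gam D = 1) :
    ∃ T : Term D, (∀ s ∈ F.Sg, ∀ g ∈ T.U, s * g * s⁻¹ ∈ T.U) ∧
      (∀ {M : Type*} [CommGroup M] (f : G →* M), (∀ p ∈ D.P, f p = 1) → ∀ x ∈ T.U, f x = 1) ∧
      ∃ C : Cen D F.O, T.U = Cen.U C ∧ (Nonempty (Ab C) ∨ Nonempty (Cl C)) := by
  obtain ⟨C, T, hT, hRM, -, h⟩ := exists_cen F hg (rg F)
    (fun s hs x hx => NormQ.conj_W D (F.Sg_norm s hs) hx)
  refine ⟨T, ?_, ?_, C, hT, h⟩
  · intro s hs g hg'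
    rw [hT] at hg' ⊢
    obtain ⟨p, hp, m, hm, rfl⟩ := hg'
    exact ⟨s * p * s⁻¹, F.Sg_P s hs p hp, s * m * s⁻¹, hRM s hs m hm, by group⟩
  · intro M _ f hf x hx
    rw [hT] at hx
    rcases h with ⟨⟨A⟩⟩ | ⟨⟨A⟩⟩
    · exact GenU.gen_ab f hf A F.amb hx
    · exact GenU.gen_cl f hf A hx

end Cfsg.Agent.StdU3.Tower.Final
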