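import Mathlib

/-!
# Equivariant biadditive maps of a finite field of characteristic two

`f (ν x) (ν y) = ν f x y` for all `ν ≠ 0` implies `f x y ^ 2 = c x y` (Hua's identity).
-/

set_option autoImplicit false

namespace Cfsg.Agent.StdU3.Tower.Pairing

section field

variable {F : Type*} [Field F] [CharP F 2]

theorem sq_of_hua (φ : F → F) (hadd : ∀ x y, φ (x + y) = φ x + φ y)
    (hadd' : ∀ x y, x ≠ 0 → y ≠ 0 → x + y ≠ 0 →
      (x + y) * φ ((x + y)⁻¹) = x * φ x⁻¹ + y * φ y⁻¹) (x : F) (hx : x ≠ 0) :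
    x * x * φ ((x * x)⁻¹) = x * φ 1 := by
  have h2 : ∀ a : F, a + a = 0 := fun a => CharTwo.add_self_eq_zero a
  by_cases h1 : x = 1
  · subst h1; simp
  have hx1 : x + 1 ≠ 0 := by
    intro h
    apply h1
    have := h2 (1 : F)
    linear_combination h - this
  have hxx : x * x + x ≠ 0 := by
    have : x * x + x = x * (x + 1) := by ring
    rw [this]; exact mul_ne_zero hx hx1
  -- `1/x + 1/(x+1) = 1/(x²+x)`
  have e1 : x⁻¹ + (x + 1)⁻¹ = (x * x + x)⁻¹ := by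
    field_simp
    have := h2 x
    linear_combination this
  have e2 : φ x⁻¹ + φ (x + 1)⁻¹ = φ (x * x + x)⁻¹ := by rw [← hadd, e1]
  have e3 := hadd' x 1 hx one_ne_zero hx1
  have e4 := hadd' (x * x) x (mul_ne_zero hx hx) hx hxx
  rw [← e2] at e4
  rw [inv_one, one_mul] at e3
  have e5 : (x * x + x) * (φ x⁻¹ + φ (x + 1)⁻¹) =
      (x + 1) * (x * φ x⁻¹) + x * ((x + 1) * φ (x + 1)⁻¹) := by ring
  rw [e5, e3] at e4
  have h3 := h2 (x * (x * φ x⁻¹))
  linear_combination -e4 + h3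

theorem biadditive_aux (f : F → F → F) (h1 : ∀ x x' y, f (x + x') y = f x y + f x' y)
    (h2 : ∀ x y y', f x (y + y') = f x y + f x y') (heq : ∀ ν x y, ν ≠ 0 → f (ν * x) (ν * y) = ν * f x y)
    (hsq : ∀ a : F, ∃ b, a = b * b) (x y : F) : f x y * f x y = f 1 1 * f 1 1 * (x * y) := by
  have hz1 : ∀ y, f 0 y = 0 := by
    intro y
    have := h1 0 0 y
    rw [add_zero] at this
    exact left_eq_add.1 this
  have hz2 : ∀ x, f x 0 = 0 := by
    intro x
    have := h2 x 0 0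
    rw [add_zero] at this
    exact left_eq_add.1 this
  have hstar : ∀ x, x ≠ 0 → f x 1 = x * f 1 x⁻¹ := by
    intro x hx
    rw [← heq x 1 x⁻¹ hx, mul_one, mul_inv_cancel₀ hx]
  have key : ∀ a, f a 1 * f a 1 = f 1 1 * f 1 1 * a := by
    intro a
    obtain ⟨b, rfl⟩ := hsq a
    by_cases hb : b = 0
    · subst hb; simp [hz1]
    have e1 := sq_of_hua (f 1) (h2 1) (fun x y hx hy hxy => by
      rw [← hstar x hx, ← hstar y hy, ← hstar _ hxy, h1]) b hb
    rw [hstar _ (mul_ne_zero hb hb), e1]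
    ring
  by_cases hy : y = 0
  · subst hy; simp [hz2]
  have e1 : f x y = y * f (x * y⁻¹) 1 := by
    rw [← heq y _ _ hy, mul_one, mul_comm x, mul_inv_cancel_left₀ hy]
  rw [e1]
  have e2 := key (x * y⁻¹)
  calc y * f (x * y⁻¹) 1 * (y * f (x * y⁻¹) 1) = y * y * (f (x * y⁻¹) 1 * f (x * y⁻¹) 1) := by ring
    _ = y * y * (f 1 1 * f 1 1 * (x * y⁻¹)) := by rw [e2]
    _ = f 1 1 * f 1 1 * (x * (y * (y * y⁻¹))) := by ring
    _ = _ := by rw [mul_inv_cancel₀ hy, mul_one]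

/-- every element of a finite field of characteristic two is a square -/
theorem exists_sq [Finite F] (a : F) : ∃ b, a = b * b := by
  have : Function.Injective (fun b : F => b * b) := by
    intro b c h
    have h1 : (b + c) * (b + c) = 0 := by
      have h2 : b * b = c * c := h
      have h3 := CharTwo.add_self_eq_zero (c * c)
      have h4 := CharTwo.add_self_eq_zero (b * c)
      linear_combination h2 + h3 + h4
    have h2 : b + c = 0 := by simpa using mul_self_eq_zero.1 h1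
    have h3 := CharTwo.add_self_eq_zero c
    linear_combination h2 - h3
  obtain ⟨b, hb⟩ := Finite.surjective_of_injective this a
  exact ⟨b, hb.symm⟩

theorem biadditive [Finite F] (f : F → F → F) (h1 : ∀ x x' y, f (x + x') y = f x y + f x' y)
    (h2 : ∀ x y y', f x (y + y') = f x y + f x y')
    (heq : ∀ ν x y, ν ≠ 0 → f (ν * x) (ν * y) = ν * f x y) :
    ∃ c, ∀ x y, f x y * f x y = c * (x * y) :=
  ⟨_, fun x y => biadditive_aux f h1 h2 heq exists_sq x y⟩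

end field

/-- The group theoretic form. -/
theorem pairing {G : Type*} [Group G] {F : Type*} [Field F] [CharP F 2] [Finite F] (z : F → G)
    (z_add : ∀ b c, z (b + c) = z b * z c) (z_inj : ∀ b c, z b = z c → b = c)
    (A B : Subgroup G) (α β : G → F) (γ : G → G → G)
    (hα : ∀ a ∈ A, ∀ a' ∈ A, α (a * a') = α a + α a')
    (hβ : ∀ a ∈ B, ∀ a' ∈ B, β (a * a') = β a + β a')
    (hαs : ∀ x, ∃ a ∈ A, α a = x) (hβs : ∀ x, ∃ a ∈ B, β a = x)
    (hγ : ∀ a ∈ A, ∀ b ∈ B, ∃ u, γ a b = z u)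
    (hγ1 : ∀ a ∈ A, ∀ a' ∈ A, ∀ b ∈ B, γ (a * a') b = γ a b * γ a' b)
    (hγ2 : ∀ a ∈ A, ∀ b ∈ B, ∀ b' ∈ B, γ a (b * b') = γ a b * γ a b')
    (hk1 : ∀ a ∈ A, ∀ b ∈ B, α a = 0 → γ a b = 1) (hk2 : ∀ a ∈ A, ∀ b ∈ B, β b = 0 → γ a b = 1)
    (heq : ∀ ν : F, ν ≠ 0 → ∃ h : G, (∀ a ∈ A, h * a * h⁻¹ ∈ A ∧ α (h * a * h⁻¹) = ν * α a) ∧
      (∀ b ∈ B, h * b * h⁻¹ ∈ B ∧ β (h * b * h⁻¹) = ν * β b) ∧
      ∀ a ∈ A, ∀ b ∈ B, ∀ u, γ a b = z u → γ (h * a * h⁻¹) (h * b * h⁻¹) = z (ν * u)) :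
    ∃ c : F, ∀ a ∈ A, ∀ b ∈ B, ∀ u, γ a b = z u → u * u = c * (α a * β b) := by
  choose s hsA hs using hαs
  choose r hrB hr using hβs
  have hz0 : z 0 = 1 := by
    have := z_add 0 0
    rw [add_zero] at this
    exact left_eq_mul.1 this
  have hα1 : α 1 = 0 := by
    have := hα 1 A.one_mem 1 A.one_mem
    rw [mul_one] at this
    exact left_eq_add.1 this
  have hβ1 : β 1 = 0 := by
    have := hβ 1 B.one_mem 1 B.one_mem
    rw [mul_one] at this
    exact left_eq_add.1 this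
  have h2 : ∀ a : F, a + a = 0 := fun a => CharTwo.add_self_eq_zero a
  have hinvα : ∀ a ∈ A, α a⁻¹ = α a := by
    intro a ha
    have := hα a ha a⁻¹ (A.inv_mem ha)
    rw [mul_inv_cancel, hα1] at this
    have h3 := h2 (α a)
    linear_combination -this - h3
  have hinvβ : ∀ a ∈ B, β a⁻¹ = β a := by
    intro a ha
    have := hβ a ha a⁻¹ (B.inv_mem ha)
    rw [mul_inv_cancel, hβ1] at this
    have h3 := h2 (β a)
    linear_combination -this - h3
  -- `γ` depends on the coordinates only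
  have hind1 : ∀ a ∈ A, ∀ a' ∈ A, ∀ b ∈ B, α a = α a' → γ a b = γ a' b := by
    intro a ha a' ha' b hb h
    have e1 : a = (a * a'⁻¹) * a' := by group
    have e2 : α (a * a'⁻¹) = 0 := by
      rw [hα a ha _ (A.inv_mem ha'), hinvα a' ha', h, h2]
    rw [e1, hγ1 _ (A.mul_mem ha (A.inv_mem ha')) _ ha' b hb,
      hk1 _ (A.mul_mem ha (A.inv_mem ha')) b hb e2, one_mul]
  have hind2 : ∀ a ∈ A, ∀ b ∈ B, ∀ b' ∈ B, β b = β b' → γ a b = γ a b' := by
    intro a ha b hb b' hb' h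
    have e1 : b = (b * b'⁻¹) * b' := by group
    have e2 : β (b * b'⁻¹) = 0 := by
      rw [hβ b hb _ (B.inv_mem hb'), hinvβ b' hb', h, h2]
    rw [e1, hγ2 a ha _ (B.mul_mem hb (B.inv_mem hb')) _ hb',
      hk2 a ha _ (B.mul_mem hb (B.inv_mem hb')) e2, one_mul]
  have hind : ∀ a ∈ A, ∀ a' ∈ A, ∀ b ∈ B, ∀ b' ∈ B, α a = α a' → β b = β b' → γ a b = γ a' b' :=
    fun a ha a' ha' b hb b' hb' h h' => (hind1 a ha a' ha' b hb h).trans (hind2 a' ha' b hb b' hb' h')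
  choose g hg using fun x y => hγ (s x) (hsA x) (r y) (hrB y)
  obtain ⟨c, hc⟩ := biadditive g (fun x x' y => by
      apply z_inj
      rw [z_add, ← hg, ← hg, ← hg, ← hγ1 _ (hsA x) _ (hsA x') _ (hrB y)]
      exact hind1 _ (hsA _) _ (A.mul_mem (hsA x) (hsA x')) _ (hrB y)
        (by rw [hα _ (hsA x) _ (hsA x'), hs, hs, hs]))
    (fun x y y' => by
      apply z_inj
      rw [z_add, ← hg, ← hg, ← hg, ← hγ2 _ (hsA x) _ (hrB y) _ (hrB y')]
      exact hind2 _ (hsA _) _ (hrB _) _ (B.mul_mem (hrB y) (hrB y'))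
        (by rw [hβ _ (hrB y) _ (hrB y'), hr, hr, hr]))
    (fun ν x y hν => by
      apply z_inj
      obtain ⟨h, h3, h4, h5⟩ := heq ν hν
      rw [← h5 _ (hsA x) _ (hrB y) _ (hg x y), ← hg]
      refine hind _ (hsA _) _ (h3 _ (hsA x)).1 _ (hrB _) _ (h4 _ (hrB y)).1 ?_ ?_
      · rw [(h3 _ (hsA x)).2, hs, hs]
      · rw [(h4 _ (hrB y)).2, hr, hr])
  refine ⟨c, fun a ha b hb u hu => ?_⟩
  have h6 : u = g (α a) (β b) := by
    apply z_inj
    rw [← hu, ← hg]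
    exact hind _ ha _ (hsA _) _ hb _ (hrB _) (hs _).symm (hr _).symm
  rw [h6]
  exact hc _ _

end Cfsg.Agent.StdU3.Tower.Pairing
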