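import Mathlib
import Cfsg.Agent.StdU3.Tower.Pairing

/-!
# The tower in `H = C_G(P)`

`HB`: a group `H` with an involution `t` whose centraliser in `H` is `⟨t⟩ × Z × K0`, `K0` of odd order,
`Z = z(F)` central in `H`, and a torus acting on it.  `Lvl B k`: a homocyclic abelian subgroup `W` of exponent
`2 ^ (k + 1)` with `Ω₁(W) = Z`, inverted by `t`.
-/

set_option autoImplicit false
set_option linter.unusedSectionVars false

namespace Cfsg.Agent.StdU3.Tower.Base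

/-- the base of the tower -/
structure HB (G : Type*) [Group G] (F : Type*) [Field F] (ι : Type*) [CommGroup ι] where
  H : Subgroup G
  z : F → G
  z_add : ∀ b c, z (b + c) = z b * z c
  z_inj : ∀ b, z b = 1 → b = 0
  z_mem : ∀ b, z b ∈ H
  z_cen : ∀ g ∈ H, ∀ b, g * z b = z b * g
  t : G
  t_mem : t ∈ H
  t_sq : t * t = 1
  t_not : ∀ b, z b ≠ t
  K0 : Subgroup G
  K0_odd : Odd (Nat.card K0)
  K0_le : K0 ≤ H
  K0_t : ∀ k ∈ K0, k * t = t * k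
  dec : ∀ g ∈ H, g * t = t * g → ∃ b, ∃ k ∈ K0, g = z b * k ∨ g = t * z b * k
  h : ι → G
  wt : ι → F
  h_H : ∀ i g, g ∈ H ↔ h i * g * (h i)⁻¹ ∈ H
  h_t : ∀ i, h i * t = t * h i
  h_z : ∀ i b, h i * z b * (h i)⁻¹ = z (wt i * b)
  h_e : ∀ i j, (h (i * j))⁻¹ * (h i * h j) ∈ H
  wt_surj : ∀ ν, ν ≠ 0 → ∃ i, wt i = ν

variable {G : Type*} [Group G] {F : Type*} [Field F] {ι : Type*} [CommGroup ι]

/-- a `2`-group acting on the whole situation -/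
structure Rg (B : HB G F ι) (R : Subgroup G) : Prop where
  two : IsPGroup 2 R
  H : ∀ r ∈ R, ∀ g ∈ B.H, r * g * r⁻¹ ∈ B.H
  t : ∀ r ∈ R, r * B.t = B.t * r
  z : ∀ r ∈ R, ∀ b, ∃ c, r * B.z b * r⁻¹ = B.z c
  h : ∀ r ∈ R, ∀ i, ∃ j, ∃ q κ, (∀ g ∈ B.H, q * g = g * q) ∧ κ ∈ B.K0 ∧
    (r * B.h i * r⁻¹ = q * κ * B.h j ∨ r * B.h i * r⁻¹ = q * B.t * κ * B.h j)

/-- a level of the tower -/
structure Lvl (B : HB G F ι) (k : ℕ) where
  W : Subgroup G
  W_le : W ≤ B.H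
  comm : ∀ x ∈ W, ∀ y ∈ W, x * y = y * x
  inv : ∀ x ∈ W, B.t * x * B.t⁻¹ = x⁻¹
  z_mem : ∀ b, B.z b ∈ W
  pw : ∀ x ∈ W, ∃ u, x ^ 2 ^ k = B.z u
  pw_surj : ∀ u, ∃ x ∈ W, x ^ 2 ^ k = B.z u
  pw_ker : ∀ x ∈ W, x ^ 2 ^ k = 1 → ∃ y ∈ W, x = y * y
  h : ι → G
  h_eq : ∀ i, ∃ c ∈ B.K0, h i = c * B.h i
  h_W : ∀ i, ∀ x ∈ W, h i * x * (h i)⁻¹ ∈ W
  h_mul : ∀ i j, ∀ x ∈ W, h (i * j) * x * (h (i * j))⁻¹ = h i * (h j * x * (h j)⁻¹) * (h i)⁻¹

namespace HB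

variable (B : HB G F ι)

theorem t_inv : B.t⁻¹ = B.t := inv_eq_of_mul_eq_one_left B.t_sq

theorem z_zero : B.z 0 = 1 := by
  have := B.z_add 0 0
  rw [add_zero] at this
  exact left_eq_mul.1 this

theorem z_injective {b c : F} (h : B.z b = B.z c) : b = c := by
  have h1 : B.z (b - c) = 1 := by
    have := B.z_add (b - c) c
    rw [sub_add_cancel, h] at this
    exact right_eq_mul.1 this
  have h2 := B.z_inj _ h1
  linear_combination h2

theorem t_ne : B.t ≠ 1 := by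
  intro h
  exact B.t_not 0 (by rw [z_zero, h])

variable [CharP F 2]

theorem z_sq (b : F) : B.z b * B.z b = 1 := by
  rw [← B.z_add, CharTwo.add_self_eq_zero, z_zero]

theorem z_inv (b : F) : (B.z b)⁻¹ = B.z b := inv_eq_of_mul_eq_one_left (B.z_sq b)

/-- the odd group centralises a `2`-group normalised by it if it centralises `Z`: one step. -/
theorem K0_fix {κ x : G} (hκ : κ ∈ B.K0) {u : F} (h : κ * x * κ⁻¹ = x * B.z u) : u = 0 := by
  have hκH := B.K0_le hκ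
  have key : ∀ m : ℕ, κ ^ m * x * (κ ^ m)⁻¹ = x * (B.z u) ^ m := by
    intro m
    induction m with
    | zero => simp
    | succ m ih =>
      have e1 : κ ^ (m + 1) * x * (κ ^ (m + 1))⁻¹ = κ * (κ ^ m * x * (κ ^ m)⁻¹) * κ⁻¹ := by
        rw [pow_succ']; group
      have e2 : κ * (B.z u) ^ m * κ⁻¹ = (B.z u) ^ m := by
        have h3 : Commute κ (B.z u) := B.z_cen κ hκH u
        rw [(h3.pow_right m).eq, mul_inv_cancel_right]
      rw [e1, ih]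
      calc κ * (x * B.z u ^ m) * κ⁻¹ = (κ * x * κ⁻¹) * (κ * B.z u ^ m * κ⁻¹) := by group
        _ = _ := by rw [h, e2, pow_succ', mul_assoc]
  have h1 : κ ^ Nat.card B.K0 = 1 := by
    have h2 : (⟨κ, hκ⟩ : B.K0) ^ Nat.card B.K0 = 1 := pow_card_eq_one'
    exact congrArg Subtype.val h2
  have h2 := key (Nat.card B.K0)
  rw [h1] at h2
  obtain ⟨m, hm⟩ := B.K0_odd
  have h3 : (B.z u) ^ Nat.card B.K0 = B.z u := by
    rw [hm, pow_succ, pow_mul, pow_two, B.z_sq, one_pow, one_mul]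
  rw [h3, inv_one, mul_one, one_mul] at h2
  exact B.z_inj _ (left_eq_mul.1 h2)

end HB

namespace Lvl

variable {B : HB G F ι} {k : ℕ} (L : Lvl B k)

theorem inv' {x : G} (hx : x ∈ L.W) : B.t * x * B.t = x⁻¹ := by
  rw [← L.inv x hx, B.t_inv]

variable [CharP F 2]

theorem t_not (hk : 1 ≤ k) : B.t ∉ L.W := by
  intro ht
  obtain ⟨x, hx, h1⟩ := L.pw_surj 1
  have h2 := L.inv x hx
  rw [L.comm _ ht _ hx, mul_inv_cancel_right] at h2
  have h3 : x ^ 2 = 1 := by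
    rw [pow_two]; nth_rewrite 1 [h2]; group
  obtain ⟨m, rfl⟩ : ∃ m, k = m + 1 := ⟨k - 1, by omega⟩
  rw [pow_succ', pow_mul, h3, one_pow] at h1
  exact one_ne_zero (B.z_inj 1 h1.symm)

/-- the group `⟨t⟩ W` -/
def Y : Subgroup G where
  carrier := {x | x ∈ L.W ∨ x * B.t ∈ L.W}
  one_mem' := Or.inl L.W.one_mem
  mul_mem' := by
    rintro x y (hx | hx) (hy | hy)
    · exact Or.inl (L.W.mul_mem hx hy)
    · right
      rw [mul_assoc]; exact L.W.mul_mem hx hy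
    · right
      have e : x * y * B.t = (x * B.t) * (B.t * y * B.t) := by
        have := B.t_sq
        calc x * y * B.t = x * (1 : G) * y * B.t := by group
          _ = x * (B.t * B.t) * y * B.t := by rw [this]
          _ = _ := by group
      rw [e, L.inv' hy]
      exact L.W.mul_mem hx (L.W.inv_mem hy)
    · left
      have e : x * y = (x * B.t) * (B.t * (y * B.t) * B.t) := by
        have := B.t_sq
        calc x * y = x * (1 : G) * y * (1 : G) := by group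
          _ = x * (B.t * B.t) * y * (B.t * B.t) := by rw [this]
          _ = _ := by group
      rw [e, L.inv' hy]
      exact L.W.mul_mem hx (L.W.inv_mem hy)
  inv_mem' := by
    rintro x (hx | hx)
    · exact Or.inl (L.W.inv_mem hx)
    · right
      have e : x⁻¹ * B.t = B.t * (x * B.t)⁻¹ * B.t := by
        rw [mul_inv_rev, B.t_inv]
        have := B.t_sq
        calc x⁻¹ * B.t = (1 : G) * x⁻¹ * B.t := by group
          _ = (B.t * B.t) * x⁻¹ * B.t := by rw [this]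
          _ = _ := by group
      rw [e, L.inv' (L.W.inv_mem hx), inv_inv]
      exact hx

theorem mem_Y {x : G} : x ∈ L.Y ↔ x ∈ L.W ∨ x * B.t ∈ L.W := Iff.rfl

theorem W_le_Y : L.W ≤ L.Y := fun _ h => Or.inl h

theorem t_mem_Y : B.t ∈ L.Y := Or.inr (by rw [B.t_sq]; exact L.W.one_mem)

theorem Y_le : L.Y ≤ B.H := by
  rintro x (h | h)
  · exact L.W_le h
  · have := B.H.mul_mem (L.W_le h) B.t_mem
    rwa [mul_assoc, B.t_sq, mul_one] at this

theorem wt_sq {x : G} (hx : x * B.t ∈ L.W) : x * x = 1 := by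
  have h1 := L.inv' hx
  have h2 : x * x = (x * B.t) * (B.t * (x * B.t) * B.t) := by
    have := B.t_sq
    calc x * x = x * (1 : G) * x * (1 : G) := by group
      _ = x * (B.t * B.t) * x * (B.t * B.t) := by rw [this]
      _ = _ := by group
  rw [h2, h1, mul_inv_cancel]

/-- the coordinate of an element of `W` -/
noncomputable def β (_L : Lvl B k) (x : G) : F := by
  classical
  exact if h : ∃ u, x ^ 2 ^ k = B.z u then h.choose else 0

theorem β_spec {x : G} (hx : x ∈ L.W) : x ^ 2 ^ k = B.z (L.β x) := by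
  have h := L.pw x hx
  rw [β, dif_pos h]
  exact h.choose_spec

theorem β_eq {x : G} (hx : x ∈ L.W) {u : F} (h : x ^ 2 ^ k = B.z u) : L.β x = u :=
  B.z_injective (by rw [← L.β_spec hx, h])

theorem β_mul {x y : G} (hx : x ∈ L.W) (hy : y ∈ L.W) : L.β (x * y) = L.β x + L.β y := by
  apply L.β_eq (L.W.mul_mem hx hy)
  have h : Commute x y := L.comm x hx y hy
  rw [h.mul_pow, L.β_spec hx, L.β_spec hy, B.z_add]

theorem β_one : L.β 1 = 0 := L.β_eq L.W.one_mem (by rw [one_pow, B.z_zero])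

theorem β_inv {x : G} (hx : x ∈ L.W) : L.β x⁻¹ = L.β x := by
  have h := L.β_mul (L.W.inv_mem hx) hx
  rw [inv_mul_cancel, L.β_one] at h
  have := CharTwo.add_self_eq_zero (L.β x)
  linear_combination -h - this

theorem β_sq {x : G} (hx : x ∈ L.W) : L.β (x * x) = 0 := by
  rw [L.β_mul hx hx, CharTwo.add_self_eq_zero]

theorem β_eq_zero {x : G} (hx : x ∈ L.W) (h : L.β x = 0) : ∃ y ∈ L.W, x = y * y :=
  L.pw_ker x hx (by rw [L.β_spec hx, h, B.z_zero])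

theorem β_surj (u : F) : ∃ x ∈ L.W, L.β x = u := by
  obtain ⟨x, hx, h⟩ := L.pw_surj u
  exact ⟨x, hx, L.β_eq hx h⟩

theorem β_conj {g x : G} (hg : g ∈ B.H) (hx : x ∈ L.W) (hgx : g * x * g⁻¹ ∈ L.W) :
    L.β (g * x * g⁻¹) = L.β x := by
  apply L.β_eq hgx
  rw [conj_pow, L.β_spec hx, B.z_cen g hg, mul_inv_cancel_right]

theorem β_z (hk : 1 ≤ k) (b : F) : L.β (B.z b) = 0 := by
  apply L.β_eq (L.z_mem b)
  obtain ⟨m, rfl⟩ : ∃ m, k = m + 1 := ⟨k - 1, by omega⟩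
  rw [pow_succ', pow_mul, pow_two, B.z_sq, one_pow, B.z_zero]

/-- `Ω₁(W) = Z`. -/
theorem omega_aux (j : ℕ) : ∀ (i : ℕ), i + j = k → ∀ x ∈ L.W, x ^ 2 ^ i = 1 →
    ∃ y ∈ L.W, x = y ^ 2 ^ (j + 1) := by
  induction j with
  | zero =>
    intro i hi x hx h
    rw [add_zero] at hi; subst hi
    obtain ⟨y, hy, rfl⟩ := L.pw_ker x hx h
    exact ⟨y, hy, by rw [zero_add, pow_one, pow_two]⟩
  | succ j ih =>
    intro i hi x hx h
    obtain ⟨y, hy, rfl⟩ := ih (i + 1) (by omega) x hx (by rw [pow_succ, pow_mul, h, one_pow])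
    have h1 : y ^ 2 ^ k = 1 := by
      rw [← pow_mul, ← pow_add] at h
      rw [← h]; congr 2; omega
    obtain ⟨v, hv, rfl⟩ := L.pw_ker y hy h1
    exact ⟨v, hv, by rw [← pow_two, ← pow_mul, ← pow_succ']⟩

theorem omega (hk : 1 ≤ k) {x : G} (hx : x ∈ L.W) (h : x * x = 1) : ∃ b, x = B.z b := by
  obtain ⟨y, hy, rfl⟩ := L.omega_aux (k - 1) 1 (by omega) x hx (by rw [pow_one, pow_two]; exact h)
  have e : k - 1 + 1 = k := by omega
  rw [e]
  exact ⟨_, L.β_spec hy⟩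

/-- elements of `H` normalising `Y` -/
def NH : Subgroup G where
  carrier := {g | g ∈ B.H ∧ ∀ y, y ∈ L.Y ↔ g * y * g⁻¹ ∈ L.Y}
  one_mem' := ⟨B.H.one_mem, fun y => by simp⟩
  mul_mem' := by
    rintro a b ⟨ha, ha'⟩ ⟨hb, hb'⟩
    refine ⟨B.H.mul_mem ha hb, fun y => ?_⟩
    rw [hb' y, ha' (b * y * b⁻¹)]
    have : a * (b * y * b⁻¹) * a⁻¹ = a * b * y * (a * b)⁻¹ := by group
    rw [this]
  inv_mem' := by
    rintro a ⟨ha, ha'⟩
    refine ⟨B.H.inv_mem ha, fun y => ?_⟩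
    rw [ha' (a⁻¹ * y * a⁻¹⁻¹)]
    have : a * (a⁻¹ * y * a⁻¹⁻¹) * a⁻¹ = y := by group
    rw [this]

theorem mem_NH {g : G} : g ∈ L.NH ↔ g ∈ B.H ∧ ∀ y, y ∈ L.Y ↔ g * y * g⁻¹ ∈ L.Y := Iff.rfl

theorem Y_le_NH : L.Y ≤ L.NH := fun g hg => ⟨L.Y_le hg, fun y =>
  ⟨fun hy => L.Y.mul_mem (L.Y.mul_mem hg hy) (L.Y.inv_mem hg), fun h => by
    have h1 := L.Y.mul_mem (L.Y.mul_mem (L.Y.inv_mem hg) h) hg
    have : g⁻¹ * (g * y * g⁻¹) * g = y := by group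
    rwa [this] at h1⟩⟩

/-- an element (of `G`) normalising `Y` normalises `W` -/
theorem conj_W (hk : 1 ≤ k) {g : G} (hg : ∀ y, y ∈ L.Y → g * y * g⁻¹ ∈ L.Y)
    (hz : ∀ b, g * B.z b * g⁻¹ ∈ L.W) {x : G} (hx : x ∈ L.W) : g * x * g⁻¹ ∈ L.W := by
  rcases hg x (L.W_le_Y hx) with h | h
  · exact h
  · have h1 := L.wt_sq h
    have h2 : x * x = 1 := by
      have : g * x * g⁻¹ * (g * x * g⁻¹) = g * (x * x) * g⁻¹ := by group
      rw [this] at h1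
      have h3 : x * x = g⁻¹ * (g * (x * x) * g⁻¹) * g := by group
      rw [h3, h1]; group
    obtain ⟨b, rfl⟩ := L.omega hk hx h2
    exact hz b

theorem NH_conj_W (hk : 1 ≤ k) {g : G} (hg : g ∈ L.NH) {x : G} (hx : x ∈ L.W) :
    g * x * g⁻¹ ∈ L.W :=
  L.conj_W hk (fun y hy => (hg.2 y).1 hy) (fun b => by
    rw [B.z_cen g hg.1, mul_inv_cancel_right]; exact L.z_mem b) hx

/-- the commutator of `g` and `t` -/
def a (_L : Lvl B k) (g : G) : G := g * B.t * g⁻¹ * B.t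

theorem a_mem (hk : 1 ≤ k) {g : G} (hg : g ∈ L.NH) : L.a g ∈ L.W := by
  rcases (hg.2 B.t).1 L.t_mem_Y with h | h
  · exfalso
    have h1 := L.NH_conj_W hk (L.NH.inv_mem hg) h
    have : g⁻¹ * (g * B.t * g⁻¹) * g⁻¹⁻¹ = B.t := by group
    rw [this] at h1
    exact L.t_not hk h1
  · exact h

theorem conj_t (g : G) : g * B.t * g⁻¹ = L.a g * B.t := by
  rw [a, mul_assoc _ B.t B.t, B.t_sq, mul_one]

theorem a_mul (g g' : G) : L.a (g * g') = (g * L.a g' * g⁻¹) * L.a g := by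
  have h1 : g * L.a g' * g⁻¹ * L.a g = g * (L.a g') * (B.t * g⁻¹ * B.t) := by rw [a, a]; group
  rw [h1, a, a]
  have := B.t_sq
  calc g * g' * B.t * (g * g')⁻¹ * B.t = g * (g' * B.t * g'⁻¹) * (1 : G) * g⁻¹ * B.t := by group
    _ = g * (g' * B.t * g'⁻¹) * (B.t * B.t) * g⁻¹ * B.t := by rw [this]
    _ = _ := by group

theorem a_W {x : G} (hx : x ∈ L.W) : L.a x = x * x := by
  have := L.inv' (L.W.inv_mem hx)
  rw [inv_inv] at this
  rw [a]
  calc x * B.t * x⁻¹ * B.t = x * (B.t * x⁻¹ * B.t) := by group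
    _ = _ := by rw [this]

theorem a_t : L.a B.t = 1 := by
  rw [a, mul_inv_cancel_right, B.t_sq]

/-- the homomorphism `N_H(Y) → F` -/
noncomputable def ψ (L : Lvl B k) (g : G) : F := L.β (L.a g)

theorem ψ_mul (hk : 1 ≤ k) {g g' : G} (hg : g ∈ L.NH) (hg' : g' ∈ L.NH) :
    L.ψ (g * g') = L.ψ g + L.ψ g' := by
  have h1 := L.a_mem hk hg'
  have h2 := L.NH_conj_W hk hg h1
  rw [ψ, a_mul, L.β_mul h2 (L.a_mem hk hg), L.β_conj hg.1 h1 h2, add_comm]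
  rfl

theorem ψ_W {x : G} (hx : x ∈ L.W) : L.ψ x = 0 := by
  rw [ψ, L.a_W hx, L.β_sq hx]

theorem ψ_t : L.ψ B.t = 0 := by rw [ψ, L.a_t, L.β_one]

theorem ψ_Y (hk : 1 ≤ k) {x : G} (hx : x ∈ L.Y) : L.ψ x = 0 := by
  rcases hx with h | h
  · exact L.ψ_W h
  · have h1 := L.ψ_mul hk (L.Y_le_NH (Or.inl h)) (L.Y_le_NH L.t_mem_Y)
    rw [mul_assoc, B.t_sq, mul_one, L.ψ_W h, L.ψ_t, add_zero] at h1
    exact h1

/-- the kernel of `ψ` -/
theorem of_ψ_eq_zero (hk : 1 ≤ k) {g : G} (hg : g ∈ L.NH) (h : L.ψ g = 0) :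
    ∃ y ∈ L.Y, ∃ κ ∈ B.K0, g = y * κ := by
  obtain ⟨y, hy, h1⟩ := L.β_eq_zero (L.a_mem hk hg) h
  have h2 : (y⁻¹ * g) * B.t = B.t * (y⁻¹ * g) := by
    have h3 : g * B.t * g⁻¹ = y * B.t * y⁻¹ := by
      rw [L.conj_t, L.conj_t, h1, L.a_W hy]
    calc (y⁻¹ * g) * B.t = y⁻¹ * (g * B.t * g⁻¹) * g := by group
      _ = _ := by rw [h3]; group
  obtain ⟨b, κ, hκ, h4 | h4⟩ := B.dec _ (B.H.mul_mem (B.H.inv_mem (L.W_le hy)) hg.1) h2
  · refine ⟨y * B.z b, L.Y.mul_mem (L.W_le_Y hy) (L.W_le_Y (L.z_mem b)), κ, hκ, ?_⟩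
    rw [mul_assoc, ← h4]; group
  · refine ⟨y * (B.t * B.z b), L.Y.mul_mem (L.W_le_Y hy)
      (L.Y.mul_mem L.t_mem_Y (L.W_le_Y (L.z_mem b))), κ, hκ, ?_⟩
    rw [mul_assoc, ← h4]; group

/-! ### the torus -/

theorem h_t (i : ι) : L.h i * B.t = B.t * L.h i := by
  obtain ⟨c, hc, h⟩ := L.h_eq i
  rw [h, mul_assoc, B.h_t, ← mul_assoc, B.K0_t c hc, mul_assoc]

theorem h_z (i : ι) (b : F) : L.h i * B.z b * (L.h i)⁻¹ = B.z (B.wt i * b) := by
  obtain ⟨c, hc, h⟩ := L.h_eq i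
  have e : c * B.h i * B.z b * (c * B.h i)⁻¹ = c * (B.h i * B.z b * (B.h i)⁻¹) * c⁻¹ := by group
  rw [h, e, B.h_z, B.z_cen c (B.K0_le hc), mul_inv_cancel_right]

theorem h_H (i : ι) (g : G) : g ∈ B.H ↔ L.h i * g * (L.h i)⁻¹ ∈ B.H := by
  obtain ⟨c, hc, h⟩ := L.h_eq i
  have hcH := B.K0_le hc
  rw [h, B.h_H i]
  constructor
  · intro h1
    have h2 := B.H.mul_mem (B.H.mul_mem hcH h1) (B.H.inv_mem hcH)
    have e : c * (B.h i * g * (B.h i)⁻¹) * c⁻¹ = c * B.h i * g * (c * B.h i)⁻¹ := by group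
    rwa [e] at h2
  · intro h1
    have h2 := B.H.mul_mem (B.H.mul_mem (B.H.inv_mem hcH) h1) hcH
    have e : c⁻¹ * (c * B.h i * g * (c * B.h i)⁻¹) * c = B.h i * g * (B.h i)⁻¹ := by group
    rwa [e] at h2

theorem β_h (i : ι) {x : G} (hx : x ∈ L.W) : L.β (L.h i * x * (L.h i)⁻¹) = B.wt i * L.β x := by
  apply L.β_eq (L.h_W i x hx)
  rw [conj_pow, L.β_spec hx, L.h_z]

theorem h_Y (i : ι) {x : G} (hx : x ∈ L.Y) : L.h i * x * (L.h i)⁻¹ ∈ L.Y := by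
  rcases hx with h | h
  · exact Or.inl (L.h_W i x h)
  · right
    have h1 := L.h_W i _ h
    have h2 := L.h_t i
    have e : L.h i * (x * B.t) * (L.h i)⁻¹ = L.h i * x * (L.h i)⁻¹ * B.t := by
      calc L.h i * (x * B.t) * (L.h i)⁻¹ = L.h i * x * (L.h i)⁻¹ * (L.h i * B.t) * (L.h i)⁻¹ := by group
        _ = _ := by rw [h2]; group
    rwa [e] at h1

variable [Finite G]

theorem finite_W : Finite L.W := inferInstance

theorem h_W_iff (i : ι) (x : G) : x ∈ L.W ↔ L.h i * x * (L.h i)⁻¹ ∈ L.W := by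
  refine ⟨L.h_W i x, fun h => ?_⟩
  have hf : Function.Injective (fun x : L.W => (⟨L.h i * x * (L.h i)⁻¹, L.h_W i x x.2⟩ : L.W)) := by
    intro a b hab
    have := congrArg Subtype.val hab
    simp only [mul_left_inj, mul_right_inj] at this
    exact Subtype.ext this
  obtain ⟨y, hy⟩ := Finite.surjective_of_injective hf ⟨_, h⟩
  have h1 := congrArg Subtype.val hy
  simp only [mul_left_inj, mul_right_inj] at h1
  rw [← h1]; exact y.2

theorem h_Y_iff (i : ι) (x : G) : x ∈ L.Y ↔ L.h i * x * (L.h i)⁻¹ ∈ L.Y := by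
  refine ⟨L.h_Y i, fun h => ?_⟩
  have hf : Function.Injective (fun x : L.Y => (⟨L.h i * x * (L.h i)⁻¹, L.h_Y i x.2⟩ : L.Y)) := by
    intro a b hab
    have := congrArg Subtype.val hab
    simp only [mul_left_inj, mul_right_inj] at this
    exact Subtype.ext this
  obtain ⟨y, hy⟩ := Finite.surjective_of_injective hf ⟨_, h⟩
  have h1 := congrArg Subtype.val hy
  simp only [mul_left_inj, mul_right_inj] at h1
  rw [← h1]; exact y.2

theorem h_NH (i : ι) (g : G) : g ∈ L.NH ↔ L.h i * g * (L.h i)⁻¹ ∈ L.NH := by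
  rw [mem_NH, mem_NH, ← L.h_H i]
  refine and_congr_right fun _ => ?_
  have key : ∀ y, L.h i * g * (L.h i)⁻¹ * y * (L.h i * g * (L.h i)⁻¹)⁻¹ =
      L.h i * (g * ((L.h i)⁻¹ * y * L.h i) * g⁻¹) * (L.h i)⁻¹ := by intro y; group
  have key2 : ∀ y, L.h i * ((L.h i)⁻¹ * y * L.h i) * (L.h i)⁻¹ = y := by intro y; group
  constructor
  · intro h y
    rw [key, ← L.h_Y_iff, ← h, L.h_Y_iff i ((L.h i)⁻¹ * y * L.h i), key2]
  · intro h y
    have h1 := h (L.h i * y * (L.h i)⁻¹)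
    rw [key, ← L.h_Y_iff, ← L.h_Y_iff] at h1
    have e : (L.h i)⁻¹ * (L.h i * y * (L.h i)⁻¹) * L.h i = y := by group
    rwa [e] at h1

theorem a_h (i : ι) (g : G) : L.a (L.h i * g * (L.h i)⁻¹) = L.h i * L.a g * (L.h i)⁻¹ := by
  have h1 := L.h_t i
  have h2 : (L.h i)⁻¹ * B.t = B.t * (L.h i)⁻¹ := by
    rw [inv_mul_eq_iff_eq_mul, ← mul_assoc, h1, mul_inv_cancel_right]
  rw [a, a]
  calc L.h i * g * (L.h i)⁻¹ * B.t * (L.h i * g * (L.h i)⁻¹)⁻¹ * B.t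
      = L.h i * g * ((L.h i)⁻¹ * B.t) * L.h i * g⁻¹ * ((L.h i)⁻¹ * B.t) := by group
    _ = _ := by rw [h2]; group

theorem ψ_h (hk : 1 ≤ k) (i : ι) {g : G} (hg : g ∈ L.NH) :
    L.ψ (L.h i * g * (L.h i)⁻¹) = B.wt i * L.ψ g := by
  rw [ψ, L.a_h, L.β_h i (L.a_mem hk hg)]; rfl

/-- either `t` is fixed modulo squares or all translations occur. -/
theorem dichotomy (hk : 1 ≤ k) : (∀ g ∈ L.NH, L.ψ g = 0) ∨ (∀ u, ∃ g ∈ L.NH, L.ψ g = u) := by
  by_cases h : ∀ g ∈ L.NH, L.ψ g = 0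
  · exact Or.inl h
  · push Not at h
    obtain ⟨g, hg, hne⟩ := h
    right
    intro u
    by_cases hu : u = 0
    · exact ⟨1, L.NH.one_mem, by rw [hu]; exact L.ψ_W L.W.one_mem⟩
    · obtain ⟨i, hi⟩ := B.wt_surj (u * (L.ψ g)⁻¹) (mul_ne_zero hu (inv_ne_zero hne))
      refine ⟨L.h i * g * (L.h i)⁻¹, (L.h_NH i g).1 hg, ?_⟩
      rw [L.ψ_h hk i hg, hi, inv_mul_cancel_right₀ hne]

end Lvl

end Cfsg.Agent.StdU3.Tower.Base
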