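import Mathlib
import Cfsg.Agent.StdU3.Tower.Base

/-!
# The next group of the tower
-/

set_option autoImplicit false
set_option linter.unusedSectionVars false

namespace Cfsg.Agent.StdU3.Tower.Next

open Cfsg.Agent.StdU3.Tower.Base

variable {G : Type*} [Group G] {F : Type*} [Field F] {ι : Type*} [CommGroup ι]

/-- the next `2`-group -/
structure Nxt {B : HB G F ι} {k : ℕ} (L : Lvl B k) where
  S : Subgroup G
  S_two : IsPGroup 2 S
  S_le : S ≤ L.NH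
  Y_le : L.Y ≤ S
  ψ_surj : ∀ u, ∃ g ∈ S, L.ψ g = u
  ψ_ker : ∀ g ∈ S, L.ψ g = 0 → g ∈ L.Y
  h : ι → G
  h_eq : ∀ i, ∃ c ∈ B.K0, h i = c * B.h i
  h_S : ∀ i, ∀ g ∈ S, h i * g * (h i)⁻¹ ∈ S
  h_W : ∀ i, ∀ x ∈ L.W, h i * x * (h i)⁻¹ = L.h i * x * (L.h i)⁻¹
  h_mul : ∀ i j, ∀ g ∈ S, h (i * j) * g * (h (i * j))⁻¹ = h i * (h j * g * (h j)⁻¹) * (h i)⁻¹

theorem K0_pow (B : HB G F ι) {κ : G} (hκ : κ ∈ B.K0) : κ ^ Nat.card B.K0 = 1 := by
  have h2 : (⟨κ, hκ⟩ : B.K0) ^ Nat.card B.K0 = 1 := pow_card_eq_one'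
  exact congrArg Subtype.val h2

theorem K0_two (B : HB G F ι) {κ : G} (hκ : κ ∈ B.K0) {n : ℕ} (h : κ ^ 2 ^ n = 1) : κ = 1 := by
  have h1 := K0_pow B hκ
  have h2 : orderOf κ ∣ Nat.gcd (2 ^ n) (Nat.card B.K0) :=
    Nat.dvd_gcd (orderOf_dvd_of_pow_eq_one h) (orderOf_dvd_of_pow_eq_one h1)
  have h3 : Nat.gcd (2 ^ n) (Nat.card B.K0) = 1 :=
    Nat.Coprime.pow_left n (Nat.coprime_two_left.2 B.K0_odd)
  rw [h3, Nat.dvd_one, orderOf_eq_one_iff] at h2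
  exact h2

variable {B : HB G F ι} {k : ℕ} (L : Lvl B k) [CharP F 2]

theorem pow_all {x : G} (hx : x ∈ L.W) : x ^ 2 ^ (k + 1) = 1 := by
  rw [pow_succ, pow_mul, L.β_spec hx, pow_two, B.z_sq]

/-- an element of `K0` normalising `W` centralises `W`. -/
theorem K0_comm (hk : 1 ≤ k) {κ : G} (hκ : κ ∈ B.K0) (hn : ∀ x ∈ L.W, κ * x * κ⁻¹ ∈ L.W) :
    ∀ x ∈ L.W, κ * x = x * κ := by
  have key : ∀ j : ℕ, ∀ x ∈ L.W, x ^ 2 ^ j = 1 → κ * x * κ⁻¹ = x := by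
    intro j
    induction j with
    | zero =>
      intro x _ h
      rw [pow_zero, pow_one] at h
      rw [h]; group
    | succ j ih =>
      intro x hx h
      have h1 := ih (x * x) (L.W.mul_mem hx hx) (by
        rw [← pow_two, ← pow_mul, ← pow_succ', h])
      have hy : x⁻¹ * (κ * x * κ⁻¹) ∈ L.W := L.W.mul_mem (L.W.inv_mem hx) (hn x hx)
      have h2 : x⁻¹ * (κ * x * κ⁻¹) * (x⁻¹ * (κ * x * κ⁻¹)) = 1 := by
        have h3 := L.comm _ (hn x hx) _ (L.W.inv_mem hx)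
        calc x⁻¹ * (κ * x * κ⁻¹) * (x⁻¹ * (κ * x * κ⁻¹))
            = x⁻¹ * ((κ * x * κ⁻¹) * x⁻¹) * (κ * x * κ⁻¹) := by group
          _ = x⁻¹ * x⁻¹ * (κ * (x * x) * κ⁻¹) := by rw [h3]; group
          _ = 1 := by rw [h1]; group
      obtain ⟨b, hb⟩ := L.omega hk hy h2
      have h4 : κ * x * κ⁻¹ = x * B.z b := by rw [← hb]; group
      have h5 := B.K0_fix hκ h4
      rw [h4, h5, B.z_zero, mul_one]
  intro x hx
  have := key (k + 1) x hx (pow_all L hx)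
  rw [← mul_inv_eq_iff_eq_mul]; exact this

/-- elements of `H` centralising `t` and `W` -/
theorem cent_W (hk : 1 ≤ k) {e : G} (he : e ∈ B.H) (ht : e * B.t = B.t * e)
    (hW : ∀ x ∈ L.W, e * x = x * e) :
    ∃ b, ∃ κ ∈ B.K0, e = B.z b * κ ∧ ∀ x ∈ L.W, κ * x = x * κ := by
  obtain ⟨b, κ, hκ, h | h⟩ := B.dec e he ht
  · refine ⟨b, κ, hκ, h, fun x hx => ?_⟩
    have h1 := hW x hx
    have h2 := B.z_cen x (L.W_le hx) b
    rw [h] at h1
    have h3 : B.z b * (κ * x) = B.z b * (x * κ) := by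
      rw [← mul_assoc, h1, ← mul_assoc, h2, mul_assoc]
    exact mul_left_cancel h3
  · exfalso
    -- `κ` inverts `W`
    have hinv : ∀ x ∈ L.W, κ * x * κ⁻¹ = x⁻¹ := by
      intro x hx
      have h1 := hW x hx
      have h2 := B.z_cen x⁻¹ (B.H.inv_mem (L.W_le hx)) b
      rw [h] at h1
      have h3 : κ * x * κ⁻¹ = (B.z b)⁻¹ * (B.t⁻¹ * (B.t * B.z b * κ * x) * κ⁻¹) := by group
      rw [h3, h1]
      have h4 := L.inv' hx
      calc (B.z b)⁻¹ * (B.t⁻¹ * (x * (B.t * B.z b * κ)) * κ⁻¹)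
          = (B.z b)⁻¹ * (B.t⁻¹ * x * B.t) * B.z b := by group
        _ = (B.z b)⁻¹ * (B.t * x * B.t) * B.z b := by rw [B.t_inv]
        _ = (B.z b)⁻¹ * (x⁻¹ * B.z b) := by rw [h4]; group
        _ = x⁻¹ := by rw [h2]; group
    obtain ⟨x, hx, hx1⟩ := L.pw_surj 1
    have key : ∀ m : ℕ, κ ^ (2 * m + 1) * x * (κ ^ (2 * m + 1))⁻¹ = x⁻¹ := by
      intro m
      induction m with
      | zero => simpa using hinv x hx
      | succ m ih =>
        have e1 : κ ^ (2 * (m + 1) + 1) * x * (κ ^ (2 * (m + 1) + 1))⁻¹ =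
            κ * (κ * (κ ^ (2 * m + 1) * x * (κ ^ (2 * m + 1))⁻¹) * κ⁻¹) * κ⁻¹ := by
          rw [show 2 * (m + 1) + 1 = 1 + (1 + (2 * m + 1)) by ring, pow_add κ 1, pow_add κ 1, pow_one]
          group
        rw [e1, ih, hinv _ (L.W.inv_mem hx), inv_inv, hinv x hx]
    obtain ⟨m, hm⟩ := B.K0_odd
    have h1 := key m
    rw [← hm, K0_pow B hκ, inv_one, mul_one, one_mul] at h1
    have h2 : x ^ 2 = 1 := by rw [pow_two]; nth_rewrite 1 [h1]; group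
    obtain ⟨m, rfl⟩ : ∃ m, k = m + 1 := ⟨k - 1, by omega⟩
    rw [pow_succ', pow_mul, h2, one_pow] at hx1
    exact one_ne_zero (B.z_inj 1 hx1.symm)

/-- the odd part of the centraliser of `Y` -/
def K1 : Subgroup G where
  carrier := {κ | κ ∈ B.K0 ∧ ∀ x ∈ L.W, κ * x = x * κ}
  one_mem' := ⟨B.K0.one_mem, fun x _ => by simp⟩
  mul_mem' := by
    rintro a b ⟨ha, ha'⟩ ⟨hb, hb'⟩
    refine ⟨B.K0.mul_mem ha hb, fun x hx => ?_⟩
    rw [mul_assoc, hb' x hx, ← mul_assoc, ha' x hx, mul_assoc]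
  inv_mem' := by
    rintro a ⟨ha, ha'⟩
    refine ⟨B.K0.inv_mem ha, fun x hx => ?_⟩
    rw [inv_mul_eq_iff_eq_mul, ← mul_assoc, ha' x hx, mul_inv_cancel_right]

theorem mem_K1 {κ : G} : κ ∈ K1 L ↔ κ ∈ B.K0 ∧ ∀ x ∈ L.W, κ * x = x * κ := Iff.rfl

theorem K1_le : K1 L ≤ L.NH := by
  intro κ hκ
  refine ⟨B.K0_le hκ.1, ?_⟩
  have key : ∀ κ ∈ K1 L, ∀ y, y ∈ L.Y → κ * y * κ⁻¹ ∈ L.Y := by
    rintro κ ⟨h1, h2⟩ y (hy | hy)
    · left
      rw [h2 y hy, mul_inv_cancel_right]; exact hy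
    · right
      have h3 := h2 _ hy
      have h4 := B.K0_t κ h1
      have h5 : κ * y * κ⁻¹ = y := by
        have h6 : κ * y = y * κ := by
          have h7 : κ * (y * B.t) * B.t = (y * B.t) * κ * B.t := by rw [h3]
          rw [mul_assoc _ κ B.t, h4] at h7
          have ht := B.t_sq
          calc κ * y = κ * (y * (B.t * B.t)) := by rw [ht, mul_one]
            _ = κ * (y * B.t) * B.t := by group
            _ = y * B.t * (B.t * κ) := h7
            _ = y * (B.t * B.t) * κ := by group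
            _ = y * κ := by rw [ht, mul_one]
        rw [h6, mul_inv_cancel_right]
      rw [h5]; exact hy
  intro y
  refine ⟨key κ hκ y, fun h => ?_⟩
  have h1 := key κ⁻¹ ((K1 L).inv_mem hκ) _ h
  have : κ⁻¹ * (κ * y * κ⁻¹) * κ⁻¹⁻¹ = y := by group
  rwa [this] at h1

theorem K1_normal (hk : 1 ≤ k) {g κ : G} (hg : g ∈ L.NH) (hκ : κ ∈ K1 L) : g * κ * g⁻¹ ∈ K1 L := by
  have hgi := L.NH.inv_mem hg
  have hcW : ∀ x ∈ L.W, (g * κ * g⁻¹) * x = x * (g * κ * g⁻¹) := by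
    intro x hx
    have h1 := L.NH_conj_W hk hgi hx
    rw [inv_inv] at h1
    have h2 := hκ.2 _ h1
    calc (g * κ * g⁻¹) * x = g * (κ * (g⁻¹ * x * g)) * g⁻¹ := by group
      _ = _ := by rw [h2]; group
  have hct : (g * κ * g⁻¹) * B.t = B.t * (g * κ * g⁻¹) := by
    have h1 := L.conj_t g⁻¹
    rw [inv_inv] at h1
    have h2 := hκ.2 _ (L.a_mem hk hgi)
    have h3 := B.K0_t κ hκ.1
    have h4 : κ * (g⁻¹ * B.t * g) = (g⁻¹ * B.t * g) * κ := by
      rw [h1, ← mul_assoc, h2, mul_assoc, h3, ← mul_assoc]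
    calc (g * κ * g⁻¹) * B.t = g * (κ * (g⁻¹ * B.t * g)) * g⁻¹ := by group
      _ = _ := by rw [h4]; group
  obtain ⟨b, κ', hκ', h1, h2⟩ := cent_W L hk
    (B.H.mul_mem (B.H.mul_mem hg.1 (B.K0_le hκ.1)) (B.H.inv_mem hg.1)) hct hcW
  have h3 : (g * κ * g⁻¹) ^ Nat.card B.K0 = 1 := by
    rw [conj_pow, K0_pow B hκ.1]; group
  have hcomm : Commute (B.z b) κ' := (B.z_cen κ' (B.K0_le hκ') b).symm
  rw [h1, hcomm.mul_pow, K0_pow B hκ', mul_one] at h3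
  obtain ⟨m, hm⟩ := B.K0_odd
  rw [hm, pow_succ, pow_mul, pow_two, B.z_sq, one_pow, one_mul] at h3
  rw [h1, h3, one_mul]
  exact ⟨hκ', h2⟩

theorem ψ_K1 {κ : G} (hκ : κ ∈ K1 L) : L.ψ κ = 0 := by
  have h : L.a κ = 1 := by
    rw [Lvl.a, B.K0_t κ hκ.1, mul_inv_cancel_right, B.t_sq]
  rw [Lvl.ψ, h, L.β_one]

/-- the kernel of `ψ` is `Y K1`. -/
theorem ker_ψ (hk : 1 ≤ k) {g : G} (hg : g ∈ L.NH) (h : L.ψ g = 0) :
    ∃ y ∈ L.Y, ∃ κ ∈ K1 L, g = y * κ := by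
  obtain ⟨y, hy, κ, hκ, h1⟩ := L.of_ψ_eq_zero hk hg h
  refine ⟨y, hy, κ, ⟨hκ, ?_⟩, h1⟩
  have h2 : κ ∈ L.NH := by
    have : κ = y⁻¹ * g := by rw [h1]; group
    rw [this]
    exact L.NH.mul_mem (L.NH.inv_mem (L.Y_le_NH hy)) hg
  exact K0_comm L hk hκ fun x hx => L.NH_conj_W hk h2 hx

theorem pow_Y {y : G} (hy : y ∈ L.Y) : y ^ 2 ^ (k + 1) = 1 := by
  rcases hy with h | h
  · exact pow_all L h
  · rw [pow_succ', pow_mul, pow_two, L.wt_sq h, one_pow]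

/-- `N_H(Y) / K1` is a `2`-group. -/
theorem two_pow_mem (hk : 1 ≤ k) {g : G} (hg : g ∈ L.NH) : g ^ 2 ^ (k + 2) ∈ K1 L := by
  have h1 : L.ψ (g * g) = 0 := by rw [L.ψ_mul hk hg hg, CharTwo.add_self_eq_zero]
  obtain ⟨y, hy, κ, hκ, h2⟩ := ker_ψ L hk (L.NH.mul_mem hg hg) h1
  have e : g ^ 2 ^ (k + 2) = (y * κ) ^ 2 ^ (k + 1) := by
    rw [← h2, ← pow_two, ← pow_mul, ← pow_succ']
  have key : ∀ m : ℕ, ∃ κ' ∈ K1 L, (y * κ) ^ m = y ^ m * κ' := by
    intro m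
    induction m with
    | zero => exact ⟨1, (K1 L).one_mem, by simp⟩
    | succ m ih =>
      obtain ⟨κ', hκ', h3⟩ := ih
      have h4 := K1_normal L hk (L.NH.inv_mem (L.Y_le_NH hy)) hκ'
      rw [inv_inv] at h4
      refine ⟨y⁻¹ * κ' * y * κ, (K1 L).mul_mem h4 hκ, ?_⟩
      rw [pow_succ, h3, pow_succ]; group
  obtain ⟨κ', hκ', h3⟩ := key (2 ^ (k + 1))
  rw [e, h3, pow_Y L hy, one_mul]
  exact hκ'

variable [Finite G]

/-- a `2`-group acting on a group by conjugation fixes a Sylow `2`-subgroup. -/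
theorem exists_inv_sylow {N R : Subgroup G} (hR : IsPGroup 2 R)
    (hN : ∀ r ∈ R, ∀ x ∈ N, r * x * r⁻¹ ∈ N) :
    ∃ P : Sylow 2 N, ∀ r ∈ R, ∀ x : N, x ∈ (P : Subgroup N) → ∀ h : r * x * r⁻¹ ∈ N,
      (⟨r * x * r⁻¹, h⟩ : N) ∈ (P : Subgroup N) := by
  classical
  have : Fact (Nat.Prime 2) := ⟨Nat.prime_two⟩
  let _ : MulDistribMulAction R N :=
    { smul := fun r x => ⟨r * x * (r : G)⁻¹, hN r r.2 x x.2⟩
      one_smul := fun x => Subtype.ext (by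
        show ((1 : R) : G) * x * ((1 : R) : G)⁻¹ = x
        simp)
      mul_smul := fun r s x => Subtype.ext (by
        show ((r * s : R) : G) * x * ((r * s : R) : G)⁻¹ = r * (s * x * (s : G)⁻¹) * (r : G)⁻¹
        push_cast; group)
      smul_mul := fun r x y => Subtype.ext (by
        show (r : G) * ((x * y : N) : G) * (r : G)⁻¹ = r * x * (r : G)⁻¹ * (r * y * (r : G)⁻¹)
        push_cast; group)
      smul_one := fun r => Subtype.ext (by
        show (r : G) * ((1 : N) : G) * (r : G)⁻¹ = ((1 : N) : G)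
        simp) }
  have h1 : ¬ 2 ∣ Nat.card (Sylow 2 N) := by
    have := card_sylow_modEq_one 2 N
    intro h
    have h2 := (Nat.modEq_zero_iff_dvd.2 h).symm.trans this
    exact absurd h2 (by decide)
  obtain ⟨P, hP⟩ := hR.nonempty_fixed_point_of_prime_not_dvd_card (Sylow 2 N) h1
  refine ⟨P, fun r hr x hx h => ?_⟩
  have h2 : (⟨r, hr⟩ : R) • P = P := hP ⟨r, hr⟩
  have h3 : (⟨r, hr⟩ : R) • x ∈ (((⟨r, hr⟩ : R) • P : Sylow 2 N) : Subgroup N) := by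
    rw [Sylow.pointwise_smul_def]
    exact Subgroup.smul_mem_pointwise_smul _ _ _ hx
  rw [h2] at h3
  exact h3

theorem exists_S (hk : 1 ≤ k) {R : Subgroup G} (hR : Rg B R)
    (hRW : ∀ r ∈ R, ∀ x ∈ L.W, r * x * r⁻¹ ∈ L.W) :
    ∃ S : Subgroup G, IsPGroup 2 S ∧ S ≤ L.NH ∧ L.Y ≤ S ∧
    (∀ g ∈ L.NH, ∃ s ∈ S, ∃ κ ∈ K1 L, g = s * κ) ∧
    (∀ R : Subgroup G, IsPGroup 2 R → R ≤ L.NH → ∃ n ∈ L.NH, ∀ r ∈ R, n * r * n⁻¹ ∈ S) ∧
    (∀ r ∈ R, ∀ s ∈ S, r * s * r⁻¹ ∈ S) := by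
  classical
  have : Fact (Nat.Prime 2) := ⟨Nat.prime_two⟩
  have hRY : ∀ r ∈ R, ∀ y ∈ L.Y, r * y * r⁻¹ ∈ L.Y := by
    rintro r hr y (hy | hy)
    · exact Or.inl (hRW r hr y hy)
    · right
      have h1 := hRW r hr _ hy
      have h2 := hR.t r hr
      have e : r * (y * B.t) * r⁻¹ = r * y * r⁻¹ * B.t := by
        calc r * (y * B.t) * r⁻¹ = r * y * r⁻¹ * (r * B.t) * r⁻¹ := by group
          _ = _ := by rw [h2]; group
      rwa [e] at h1
  have hRNH : ∀ r ∈ R, ∀ g ∈ L.NH, r * g * r⁻¹ ∈ L.NH := by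
    intro r hr g hg
    refine ⟨hR.H r hr g hg.1, fun y => ?_⟩
    have h1 : y ∈ L.Y ↔ r⁻¹ * y * r ∈ L.Y := by
      constructor
      · intro h
        have := hRY r⁻¹ (R.inv_mem hr) y h
        rwa [inv_inv] at this
      · intro h
        have := hRY r hr _ h
        have e : r * (r⁻¹ * y * r) * r⁻¹ = y := by group
        rwa [e] at this
    have h2 : ∀ x, x ∈ L.Y ↔ r * x * r⁻¹ ∈ L.Y := by
      intro x
      constructor
      · exact hRY r hr x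
      · intro h
        have := hRY r⁻¹ (R.inv_mem hr) _ h
        have e : r⁻¹ * (r * x * r⁻¹) * r⁻¹⁻¹ = x := by group
        rwa [e] at this
    rw [h1, hg.2, h2]
    have e : r * (g * (r⁻¹ * y * r) * g⁻¹) * r⁻¹ = r * g * r⁻¹ * y * (r * g * r⁻¹)⁻¹ := by group
    rw [e]
  set N := L.NH with hN
  have hnorm : ((K1 L).subgroupOf N).Normal := by
    constructor
    intro κ hκ g
    rw [Subgroup.mem_subgroupOf] at hκ ⊢
    exact K1_normal L hk g.2 hκ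
  have hYp : IsPGroup 2 (L.Y.subgroupOf N) := by
    intro y
    refine ⟨k + 1, ?_⟩
    have h1 := pow_Y L y.2
    apply Subtype.ext
    apply Subtype.ext
    simpa using h1
  obtain ⟨P, hPR⟩ := exists_inv_sylow hR.two hRNH
  have hYn : (L.Y.subgroupOf N).Normal := by
    constructor
    intro y hy g
    rw [Subgroup.mem_subgroupOf] at hy ⊢
    exact (g.2.2 y).1 hy
  have hP : L.Y.subgroupOf N ≤ (P : Subgroup N) := by
    have h1 : IsPGroup 2 ((P : Subgroup N) ⊔ L.Y.subgroupOf N : Subgroup N) :=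
      IsPGroup.to_sup_of_normal_right P.isPGroup' hYp
    have h2 := P.is_maximal' h1 le_sup_left
    rw [← h2]; exact le_sup_right
  have hq : IsPGroup 2 (N ⧸ (K1 L).subgroupOf N) := by
    intro x
    obtain ⟨g, rfl⟩ := QuotientGroup.mk_surjective x
    refine ⟨k + 2, ?_⟩
    rw [← QuotientGroup.mk_pow, QuotientGroup.eq_one_iff, Subgroup.mem_subgroupOf]
    exact two_pow_mem L hk g.2
  set f := QuotientGroup.mk' ((K1 L).subgroupOf N) with hf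
  have hfs : Function.Surjective f := QuotientGroup.mk'_surjective _
  have htop : (P : Subgroup N).map f = ⊤ := by
    have h1 : (P.mapSurjective hfs).toSubgroup = ⊤ := by
      have h2 : IsPGroup 2 (⊤ : Subgroup (N ⧸ (K1 L).subgroupOf N)) := hq.to_subgroup ⊤
      exact ((P.mapSurjective hfs).is_maximal' h2 le_top).symm
    exact h1
  refine ⟨(P : Subgroup N).map N.subtype, P.2.map _, ?_, ?_, ?_, ?_, ?_⟩
  · rintro _ ⟨x, -, rfl⟩
    exact x.2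
  · intro y hy
    exact ⟨⟨y, L.Y_le_NH hy⟩, hP (by rw [Subgroup.mem_subgroupOf]; exact hy), rfl⟩
  · intro g hg
    have h1 : f ⟨g, hg⟩ ∈ (P : Subgroup N).map f := by rw [htop]; exact Subgroup.mem_top _
    obtain ⟨s, hs, h2⟩ := h1
    refine ⟨s, ⟨s, hs, rfl⟩, (s : G)⁻¹ * g, ?_, by group⟩
    have h3 : s⁻¹ * ⟨g, hg⟩ ∈ (K1 L).subgroupOf N := QuotientGroup.eq.1 h2
    rw [Subgroup.mem_subgroupOf] at h3
    exact h3
  · intro R hR hRN
    have hRp : IsPGroup 2 (R.subgroupOf N) := hR.comap_of_injective N.subtype N.subtype_injective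
    obtain ⟨P', hP'⟩ := hRp.exists_le_sylow
    obtain ⟨n, hn⟩ := MulAction.exists_smul_eq N P' P
    refine ⟨n, n.2, fun r hr => ?_⟩
    have h1 : (⟨r, hRN hr⟩ : N) ∈ (P' : Subgroup N) := hP' (by rw [Subgroup.mem_subgroupOf]; exact hr)
    have h2 : n * ⟨r, hRN hr⟩ * n⁻¹ ∈ ((n • P' : Sylow 2 N) : Subgroup N) := by
      rw [Sylow.coe_subgroup_smul]
      exact Subgroup.smul_mem_pointwise_smul _ (MulAut.conj n) _ h1
    rw [hn] at h2
    exact ⟨_, h2, rfl⟩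
  · rintro r hr _ ⟨x, hx, rfl⟩
    exact ⟨_, hPR r hr x hx (hRNH r hr x x.2), rfl⟩

/-- existence of the next group -/
theorem exists_next (hk : 1 ≤ k) (hs : ∀ u, ∃ g ∈ L.NH, L.ψ g = u) {R : Subgroup G} (hR : Rg B R)
    (hRW : ∀ r ∈ R, ∀ x ∈ L.W, r * x * r⁻¹ ∈ L.W) :
    ∃ N : Nxt L, ∀ r ∈ R, ∀ s ∈ N.S, r * s * r⁻¹ ∈ N.S := by
  obtain ⟨S, hS2, hSN, hYS, hdec, hsyl, hSR⟩ := exists_S L hk hR hRW
  have hinter : ∀ κ ∈ B.K0, κ ∈ S → κ = 1 := by
    intro κ h1 h2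
    obtain ⟨n, hn⟩ := hS2 ⟨κ, h2⟩
    exact K0_two B h1 (congrArg Subtype.val hn)
  -- the torus
  have htor : ∀ i, ∃ c ∈ K1 L, ∀ g ∈ S, (c * L.h i) * g * (c * L.h i)⁻¹ ∈ S := by
    intro i
    obtain ⟨n, hn, h1⟩ := hsyl (S.map (MulAut.conj (L.h i)).toMonoidHom) (hS2.map _) (by
      rintro _ ⟨g, hg, rfl⟩
      exact (L.h_NH i g).1 (hSN hg))
    obtain ⟨s, hs, c, hc, rfl⟩ := hdec n hn
    refine ⟨c, hc, fun g hg => ?_⟩
    have h2 := h1 (L.h i * g * (L.h i)⁻¹) ⟨g, hg, rfl⟩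
    have h3 := S.mul_mem (S.mul_mem (S.inv_mem hs) h2) hs
    have e : s⁻¹ * (s * c * (L.h i * g * (L.h i)⁻¹) * (s * c)⁻¹) * s =
      (c * L.h i) * g * (c * L.h i)⁻¹ := by group
    rwa [e] at h3
  choose c hc hcS using htor
  have hcW : ∀ i, ∀ x ∈ L.W, (c i * L.h i) * x * (c i * L.h i)⁻¹ = L.h i * x * (L.h i)⁻¹ := by
    intro i x hx
    have h1 := (hc i).2 _ (L.h_W i x hx)
    calc (c i * L.h i) * x * (c i * L.h i)⁻¹ = c i * (L.h i * x * (L.h i)⁻¹) * (c i)⁻¹ := by group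
      _ = _ := by rw [h1, mul_inv_cancel_right]
  have hct : ∀ i, (c i * L.h i) * B.t = B.t * (c i * L.h i) := by
    intro i
    rw [mul_assoc, L.h_t, ← mul_assoc, B.K0_t _ (hc i).1, mul_assoc]
  have hcinv : ∀ i, ∀ g ∈ S, (c i * L.h i)⁻¹ * g * (c i * L.h i) ∈ S := by
    intro i g hg
    have hf : Function.Injective
        (fun x : S => (⟨(c i * L.h i) * x * (c i * L.h i)⁻¹, hcS i x x.2⟩ : S)) := by
      intro a b hab
      have := congrArg Subtype.val hab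
      simp only [mul_left_inj, mul_right_inj] at this
      exact Subtype.ext this
    obtain ⟨y, hy⟩ := Finite.surjective_of_injective hf ⟨g, hg⟩
    have h1 : (c i * L.h i) * y * (c i * L.h i)⁻¹ = g := congrArg Subtype.val hy
    rw [← h1]
    have e : (c i * L.h i)⁻¹ * (c i * L.h i * y * (c i * L.h i)⁻¹) * (c i * L.h i) = y := by group
    rw [e]; exact y.2
  choose b hb hbeq using L.h_eq
  refine ⟨⟨S, hS2, hSN, hYS, ?_, ?_, fun i => c i * L.h i, ?_, hcS, hcW, ?_⟩, hSR⟩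
  · intro u
    obtain ⟨g, hg, hgu⟩ := hs u
    obtain ⟨s, hs', κ, hκ, rfl⟩ := hdec g hg
    refine ⟨s, hs', ?_⟩
    rw [L.ψ_mul hk (hSN hs') (K1_le L hκ), ψ_K1 L hκ, add_zero] at hgu
    exact hgu
  · intro g hg h
    obtain ⟨y, hy, κ, hκ, h1⟩ := ker_ψ L hk (hSN hg) h
    have h2 : κ ∈ S := by
      have : κ = y⁻¹ * g := by rw [h1]; group
      rw [this]
      exact S.mul_mem (S.inv_mem (hYS hy)) hg
    rw [h1, hinter κ hκ.1 h2, mul_one]
    exact hy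
  · intro i
    exact ⟨c i * b i, B.K0.mul_mem (hc i).1 (hb i), by rw [hbeq i, mul_assoc]⟩
  · intro i j g hg
    -- the defect
    set e := (c (i * j) * L.h (i * j))⁻¹ * ((c i * L.h i) * (c j * L.h j)) with he
    have heH : e ∈ B.H := by
      have hH : ∀ i, ∀ x ∈ B.H, B.h i * x * (B.h i)⁻¹ ∈ B.H := fun i x hx => (B.h_H i x).1 hx
      have hH' : ∀ i, ∀ x ∈ B.H, (B.h i)⁻¹ * x * B.h i ∈ B.H := fun i x hx => by
        rw [B.h_H i]
        have : B.h i * ((B.h i)⁻¹ * x * B.h i) * (B.h i)⁻¹ = x := by group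
        rwa [this]
      have h1 : e = (B.h (i * j))⁻¹ * ((c (i * j) * b (i * j))⁻¹ * (c i * b i) *
          (B.h i * (c j * b j) * (B.h i)⁻¹)) * B.h (i * j) *
          ((B.h (i * j))⁻¹ * (B.h i * B.h j)) := by
        rw [he, hbeq i, hbeq j, hbeq (i * j)]; group
      rw [h1]
      have hcb : ∀ i, c i * b i ∈ B.H := fun i => B.H.mul_mem (B.K0_le (hc i).1) (B.K0_le (hb i))
      refine B.H.mul_mem (hH' _ _ (B.H.mul_mem (B.H.mul_mem (B.H.inv_mem (hcb _)) (hcb _))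
        (hH _ _ (hcb _)))) (B.h_e i j)
    have heW : ∀ x ∈ L.W, e * x = x * e := by
      intro x hx
      have h1 : (c i * L.h i) * (c j * L.h j) * x * ((c i * L.h i) * (c j * L.h j))⁻¹ =
          (c (i * j) * L.h (i * j)) * x * (c (i * j) * L.h (i * j))⁻¹ := by
        have h2 : (c i * L.h i) * (c j * L.h j) * x * ((c i * L.h i) * (c j * L.h j))⁻¹ =
            (c i * L.h i) * ((c j * L.h j) * x * (c j * L.h j)⁻¹) * (c i * L.h i)⁻¹ := by group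
        rw [h2, hcW j x hx, hcW i _ (L.h_W j x hx), hcW _ x hx, L.h_mul i j x hx]
      rw [← mul_inv_eq_iff_eq_mul, he]
      calc (c (i * j) * L.h (i * j))⁻¹ * (c i * L.h i * (c j * L.h j)) * x *
            ((c (i * j) * L.h (i * j))⁻¹ * (c i * L.h i * (c j * L.h j)))⁻¹
          = (c (i * j) * L.h (i * j))⁻¹ * ((c i * L.h i) * (c j * L.h j) * x *
              ((c i * L.h i) * (c j * L.h j))⁻¹) * (c (i * j) * L.h (i * j)) := by group
        _ = _ := by rw [h1]; group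
    have het : e * B.t = B.t * e := by
      have h1 := hct (i * j)
      have h2 : (c (i * j) * L.h (i * j))⁻¹ * B.t = B.t * (c (i * j) * L.h (i * j))⁻¹ := by
        rw [inv_mul_eq_iff_eq_mul, ← mul_assoc, h1, mul_inv_cancel_right]
      rw [he, mul_assoc, mul_assoc, hct j, ← mul_assoc (c i * L.h i), hct i, mul_assoc B.t,
        ← mul_assoc, h2, mul_assoc]
    obtain ⟨v, κ, hκ, h1, h2⟩ := cent_W L hk heH het heW
    have hκ1 : κ ∈ K1 L := ⟨hκ, h2⟩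
    have hzS : B.z v ∈ S := hYS (L.W_le_Y (L.z_mem v))
    -- `e` normalises `S`
    have heS : ∀ s ∈ S, e * s * e⁻¹ ∈ S := by
      intro s hs
      have h3 : e * s * e⁻¹ = (c (i * j) * L.h (i * j))⁻¹ *
          ((c i * L.h i) * ((c j * L.h j) * s * (c j * L.h j)⁻¹) * (c i * L.h i)⁻¹) *
          (c (i * j) * L.h (i * j)) := by rw [he]; group
      rw [h3]
      exact hcinv _ _ (hcS _ _ (hcS _ _ hs))
    have hκS : ∀ s ∈ S, κ * s = s * κ := by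
      intro s hs
      have hκeq : κ = (B.z v)⁻¹ * e := by rw [h1]; group
      have h3 : κ * s * κ⁻¹ ∈ S := by
        have e1 : κ * s * κ⁻¹ = (B.z v)⁻¹ * (e * s * e⁻¹) * B.z v := by rw [hκeq]; group
        rw [e1]
        exact S.mul_mem (S.mul_mem (S.inv_mem hzS) (heS s hs)) hzS
      have h4 : κ * s * κ⁻¹ * s⁻¹ ∈ S := S.mul_mem h3 (S.inv_mem hs)
      have h5 : κ * s * κ⁻¹ * s⁻¹ ∈ K1 L := by
        have h6 := K1_normal L hk (hSN hs) ((K1 L).inv_mem hκ1)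
        have e1 : κ * s * κ⁻¹ * s⁻¹ = κ * (s * κ⁻¹ * s⁻¹) := by group
        rw [e1]
        exact (K1 L).mul_mem hκ1 h6
      have h6 := hinter _ h5.1 h4
      rw [mul_inv_eq_one, mul_inv_eq_iff_eq_mul] at h6
      exact h6
    have heS' : e * g * e⁻¹ = g := by
      have h3 := B.z_cen g (hSN hg).1 v
      rw [h1, mul_assoc (B.z v) κ g, hκS g hg, ← mul_assoc, ← h3]
      group
    have h4 : (c i * L.h i) * ((c j * L.h j) * g * (c j * L.h j)⁻¹) * (c i * L.h i)⁻¹ =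
        (c (i * j) * L.h (i * j)) * (e * g * e⁻¹) * (c (i * j) * L.h (i * j))⁻¹ := by
      rw [he]; group
    rw [h4, heS']

end Cfsg.Agent.StdU3.Tower.Next
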