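import Mathlib
import Cfsg.Agent.StdU3.Tower.Next

/-!
# The torus invariant subgroup of index two of the next group
-/

set_option autoImplicit false
set_option linter.unusedSectionVars false

namespace Cfsg.Agent.StdU3.Tower.Half

open Cfsg.Agent.StdU3.Tower.Base Cfsg.Agent.StdU3.Tower.Next

variable {G : Type*} [Group G] {F : Type*} [Field F] {ι : Type*} [CommGroup ι] [CharP F 2]
variable {B : HB G F ι} {k : ℕ} {L : Lvl B k} (N : Nxt L)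

theorem sqt {B : HB G F ι} {κ : G} (hκ : κ ∈ B.K0) (b : F) {s : G}
    (h : s = B.z b * κ ∨ s = B.t * B.z b * κ) : s * s = κ * κ := by
  have hκH := B.K0_le hκ
  have h1 := B.z_cen κ hκH b
  have h2 := B.z_cen B.t B.t_mem b
  have h3 := B.K0_t κ hκ
  have h4 := B.z_sq b
  have h5 := B.t_sq
  rcases h with rfl | rfl
  · calc B.z b * κ * (B.z b * κ) = B.z b * (κ * B.z b) * κ := by group
      _ = (B.z b * B.z b) * (κ * κ) := by rw [h1]; group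
      _ = κ * κ := by rw [h4, one_mul]
  · calc B.t * B.z b * κ * (B.t * B.z b * κ) = B.t * B.z b * (κ * B.t) * B.z b * κ := by group
      _ = B.t * B.z b * B.t * (κ * B.z b) * κ := by rw [h3]; group
      _ = B.t * (B.z b * B.t) * B.z b * (κ * κ) := by rw [h1]; group
      _ = (B.t * B.t) * (B.z b * B.z b) * (κ * κ) := by rw [← h2]; group
      _ = κ * κ := by rw [h4, h5, one_mul, one_mul]

include N in
/-- all elements of `W t` are conjugate to `t` -/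
theorem exists_r (hk : 1 ≤ k) {w : G} (hw : w ∈ L.W) : ∃ r ∈ N.S, L.a r = w := by
  obtain ⟨r0, hr0, h1⟩ := N.ψ_surj (L.β w)
  have ha := L.a_mem hk (N.S_le hr0)
  have h2 : L.β ((L.a r0)⁻¹ * w) = 0 := by
    rw [L.β_mul (L.W.inv_mem ha) hw, L.β_inv ha]
    have : L.β (L.a r0) = L.β w := h1
    rw [this, CharTwo.add_self_eq_zero]
  obtain ⟨v, hv, h3⟩ := L.β_eq_zero (L.W.mul_mem (L.W.inv_mem ha) hw) h2
  refine ⟨v * r0, N.S.mul_mem (N.Y_le (L.W_le_Y hv)) hr0, ?_⟩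
  have h4 : v * L.a r0 * v⁻¹ = L.a r0 := by
    rw [L.comm v hv _ ha, mul_inv_cancel_right]
  rw [L.a_mul, h4, L.a_W hv, ← h3]; group

include N in
theorem sq_mem (hk : 1 ≤ k) {s : G} (hs : s ∈ N.S) : s * s ∈ L.W := by
  have h1 : L.ψ (s * s) = 0 := by
    rw [L.ψ_mul hk (N.S_le hs) (N.S_le hs), CharTwo.add_self_eq_zero]
  rcases N.ψ_ker _ (N.S.mul_mem hs hs) h1 with h2 | h2
  · exact h2
  · exfalso
    obtain ⟨r, hr, h3⟩ := exists_r N hk h2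
    have h4 : r * B.t * r⁻¹ = s * s := by
      rw [L.conj_t, h3, mul_assoc (s * s), B.t_sq, mul_one]
    set s' := r⁻¹ * s * r with hs'
    have h5 : s' * s' = B.t := by
      have : s' * s' = r⁻¹ * (s * s) * r := by rw [hs']; group
      rw [this, ← h4]; group
    have h6 : s' * B.t = B.t * s' := by rw [← h5]; group
    have hs'H : s' ∈ B.H := B.H.mul_mem (B.H.mul_mem (B.H.inv_mem (N.S_le hr).1) (N.S_le hs).1)
      (N.S_le hr).1
    obtain ⟨b, κ, hκ, h7⟩ := B.dec s' hs'H h6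
    have h8 := sqt hκ b h7
    rw [h5] at h8
    have h9 : κ ^ 2 ^ 2 = 1 := by
      have : κ ^ 2 ^ 2 = (κ * κ) * (κ * κ) := by
        rw [show (2 : ℕ) ^ 2 = 4 from rfl, pow_succ, pow_succ, pow_succ, pow_one]; group
      rw [this, ← h8, B.t_sq]
    have h10 := K0_two B hκ h9
    rw [h10, mul_one] at h8
    exact B.t_ne h8

theorem W_normal (hk : 1 ≤ k) {s w : G} (hs : s ∈ N.S) (hw : w ∈ L.W) : s * w * s⁻¹ ∈ L.W :=
  L.NH_conj_W hk (N.S_le hs) hw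

theorem W_normal' (hk : 1 ≤ k) {s w : G} (hs : s ∈ N.S) (hw : w ∈ L.W) : s⁻¹ * w * s ∈ L.W := by
  have := W_normal N hk (N.S.inv_mem hs) hw
  rwa [inv_inv] at this

theorem comm_mem (hk : 1 ≤ k) {s r : G} (hs : s ∈ N.S) (hr : r ∈ N.S) : s * r * s⁻¹ * r⁻¹ ∈ L.W := by
  have h1 := sq_mem N hk (N.S.mul_mem hs hr)
  have h2 := sq_mem N hk (N.S.inv_mem hs)
  have h3 := sq_mem N hk (N.S.inv_mem hr)
  have h4 := W_normal' N hk hr h2
  have e : s * r * s⁻¹ * r⁻¹ = (s * r * (s * r)) * (r⁻¹ * (s⁻¹ * s⁻¹) * r) * (r⁻¹ * r⁻¹) := by group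
  rw [e]
  exact L.W.mul_mem (L.W.mul_mem h1 h4) h3

/-- the subgroup `[S, D] W` -/
def W1 (hk : 1 ≤ k) (i : ι) : Subgroup G where
  carrier := {s | ∃ r ∈ N.S, ∃ w ∈ L.W, s = N.h i * r * (N.h i)⁻¹ * r⁻¹ * w}
  one_mem' := ⟨1, N.S.one_mem, 1, L.W.one_mem, by group⟩
  mul_mem' := by
    rintro _ _ ⟨r, hr, w, hw, rfl⟩ ⟨r', hr', w', hw', rfl⟩
    set c := N.h i * r' * (N.h i)⁻¹ * r'⁻¹ with hc
    have hcS : c ∈ N.S := N.S.mul_mem (N.h_S i r' hr') (N.S.inv_mem hr')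
    refine ⟨r * r', N.S.mul_mem hr hr', (r * c⁻¹ * r⁻¹ * c) * (c⁻¹ * w * c) * w', ?_, ?_⟩
    · have h1 := comm_mem N hk hr (N.S.inv_mem hcS)
      rw [inv_inv] at h1
      exact L.W.mul_mem (L.W.mul_mem h1 (W_normal' N hk hcS hw)) hw'
    · have e : N.h i * (r * r') * (N.h i)⁻¹ * (r * r')⁻¹ =
          N.h i * r * (N.h i)⁻¹ * r⁻¹ * (r * c * r⁻¹) := by rw [hc]; group
      rw [e]; group
  inv_mem' := by
    rintro _ ⟨r, hr, w, hw, rfl⟩
    set c := N.h i * r⁻¹ * (N.h i)⁻¹ * r⁻¹⁻¹ with hc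
    have hcS : c ∈ N.S := N.S.mul_mem (N.h_S i _ (N.S.inv_mem hr)) (N.S.inv_mem (N.S.inv_mem hr))
    refine ⟨r⁻¹, N.S.inv_mem hr, (c⁻¹ * w⁻¹ * c) * (c⁻¹ * r * c⁻¹⁻¹ * r⁻¹), ?_, ?_⟩
    · exact L.W.mul_mem (W_normal' N hk hcS (L.W.inv_mem hw)) (comm_mem N hk (N.S.inv_mem hcS) hr)
    · rw [← hc]
      have e : (N.h i * r * (N.h i)⁻¹ * r⁻¹ * w)⁻¹ = w⁻¹ * (r * c * r⁻¹) := by rw [hc]; group
      rw [e]; group

/-- the index two subgroup of the next group -/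
structure Hlf (N : Nxt L) where
  V : Subgroup G
  V_le : V ≤ N.S
  W_le : L.W ≤ V
  t_not : B.t ∉ V
  cov : ∀ s ∈ N.S, s ∈ V ∨ s * B.t ∈ V
  h_V : ∀ i, ∀ s ∈ V, N.h i * s * (N.h i)⁻¹ ∈ V

theorem h_one {g : G} (hg : g ∈ N.S) : N.h 1 * g * (N.h 1)⁻¹ = g := by
  have h1 := N.h_mul 1 1 g hg
  rw [mul_one] at h1
  have h2 : N.h 1 * g * (N.h 1)⁻¹ = N.h 1 * (N.h 1 * g * (N.h 1)⁻¹) * (N.h 1)⁻¹ := h1
  have h3 := mul_right_cancel h2
  exact (mul_left_cancel h3).symm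

theorem h_pow (i : ι) (m : ℕ) {g : G} (hg : g ∈ N.S) :
    N.h (i ^ m) * g * (N.h (i ^ m))⁻¹ = (N.h i) ^ m * g * ((N.h i) ^ m)⁻¹ := by
  induction m with
  | zero => rw [pow_zero, pow_zero, h_one N hg]; group
  | succ m ih =>
    rw [pow_succ', N.h_mul _ _ g hg, ih, pow_succ']; group

theorem h_t (i : ι) : N.h i * B.t = B.t * N.h i := by
  obtain ⟨c, hc, h⟩ := N.h_eq i
  rw [h, mul_assoc, B.h_t, ← mul_assoc, B.K0_t c hc, mul_assoc]

theorem h_ψ (hk : 1 ≤ k) (i : ι) {g : G} (hg : g ∈ N.S) :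
    L.ψ (N.h i * g * (N.h i)⁻¹) = B.wt i * L.ψ g := by
  have h1 := h_t N i
  have h2 : (N.h i)⁻¹ * B.t = B.t * (N.h i)⁻¹ := by
    rw [inv_mul_eq_iff_eq_mul, ← mul_assoc, h1, mul_inv_cancel_right]
  have h3 : L.a (N.h i * g * (N.h i)⁻¹) = N.h i * L.a g * (N.h i)⁻¹ := by
    rw [Lvl.a, Lvl.a]
    calc N.h i * g * (N.h i)⁻¹ * B.t * (N.h i * g * (N.h i)⁻¹)⁻¹ * B.t
        = N.h i * g * ((N.h i)⁻¹ * B.t) * N.h i * g⁻¹ * ((N.h i)⁻¹ * B.t) := by group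
      _ = _ := by rw [h2]; group
  have ha := L.a_mem hk (N.S_le hg)
  rw [Lvl.ψ, h3, N.h_W i _ ha, L.β_h i ha]
  rfl

theorem h_W_mem (i : ι) {x : G} (hx : x ∈ L.W) : N.h i * x * (N.h i)⁻¹ ∈ L.W := by
  rw [N.h_W i x hx]; exact L.h_W i x hx

theorem h_β (i : ι) {x : G} (hx : x ∈ L.W) : L.β (N.h i * x * (N.h i)⁻¹) = B.wt i * L.β x := by
  rw [N.h_W i x hx, L.β_h i hx]

theorem h_z (i : ι) (b : F) : N.h i * B.z b * (N.h i)⁻¹ = B.z (B.wt i * b) := by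
  rw [N.h_W i _ (L.z_mem b), L.h_z]

theorem exists_hlf [Finite ι] (hodd : Odd (Nat.card ι)) (hk : 1 ≤ k)
    (hF : ∃ ν : F, ν ≠ 0 ∧ ν ≠ 1) : Nonempty (Hlf N) := by
  obtain ⟨ν, hν0, hν1⟩ := hF
  obtain ⟨i, hi⟩ := B.wt_surj ν hν0
  have hν : ν + 1 ≠ 0 := by
    intro h
    apply hν1
    have := CharTwo.add_self_eq_zero (1 : F)
    linear_combination h - this
  have hin : ∀ r ∈ N.S, N.h i * r * (N.h i)⁻¹ * r⁻¹ ∈ W1 N hk i := fun r hr =>
    ⟨r, hr, 1, L.W.one_mem, by group⟩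
  have hle : W1 N hk i ≤ N.S := by
    rintro _ ⟨r, hr, w, hw, rfl⟩
    exact N.S.mul_mem (N.S.mul_mem (N.h_S i r hr) (N.S.inv_mem hr)) (N.Y_le (L.W_le_Y hw))
  have hWle : L.W ≤ W1 N hk i := fun w hw => ⟨1, N.S.one_mem, w, hw, by group⟩
  refine ⟨⟨W1 N hk i, hle, hWle, ?_, ?_, ?_⟩⟩
  · rintro ⟨r, hr, w, hw, h1⟩
    have h2 : N.h i * r * (N.h i)⁻¹ = B.t * w⁻¹ * r := by rw [h1]; group
    have key : ∀ m : ℕ, ∃ v ∈ L.W, (N.h i) ^ m * r * ((N.h i) ^ m)⁻¹ = B.t ^ m * v * r := by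
      intro m
      induction m with
      | zero => exact ⟨1, L.W.one_mem, by group⟩
      | succ m ih =>
        obtain ⟨v, hv, h3⟩ := ih
        have h4 := h_W_mem N i hv
        refine ⟨(B.t * (N.h i * v * (N.h i)⁻¹) * B.t) * w⁻¹, ?_, ?_⟩
        · rw [L.inv' h4]
          exact L.W.mul_mem (L.W.inv_mem h4) (L.W.inv_mem hw)
        · have h5 : N.h i * B.t ^ m = B.t ^ m * N.h i := by
            have h6 : Commute (N.h i) B.t := h_t N i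
            exact (h6.pow_right m).eq
          have e1 : (N.h i) ^ (m + 1) * r * ((N.h i) ^ (m + 1))⁻¹ =
              N.h i * ((N.h i) ^ m * r * ((N.h i) ^ m)⁻¹) * (N.h i)⁻¹ := by rw [pow_succ']; group
          have ht := B.t_sq
          rw [e1, h3]
          calc N.h i * (B.t ^ m * v * r) * (N.h i)⁻¹
              = (N.h i * B.t ^ m) * v * (N.h i)⁻¹ * (N.h i * r * (N.h i)⁻¹) := by group
            _ = B.t ^ m * (N.h i * v * (N.h i)⁻¹) * (B.t * w⁻¹ * r) := by rw [h5, h2]; group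
            _ = B.t ^ m * ((B.t * B.t) * (N.h i * v * (N.h i)⁻¹)) * (B.t * w⁻¹ * r) := by
              rw [ht, one_mul]
            _ = _ := by rw [pow_succ]; group
    obtain ⟨v, hv, h3⟩ := key (Nat.card ι)
    rw [← h_pow N i _ hr, pow_card_eq_one', h_one N hr] at h3
    have h4 : B.t ^ Nat.card ι = B.t := by
      obtain ⟨m, hm⟩ := hodd
      rw [hm, pow_succ, pow_mul, pow_two, B.t_sq, one_pow, one_mul]
    rw [h4] at h3
    have h5 : B.t = v⁻¹ := by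
      have h6 : B.t * v = 1 := by
        have h7 : (1 : G) * r = B.t * v * r := by rw [one_mul]; exact h3
        exact (mul_right_cancel h7).symm
      exact eq_inv_of_mul_eq_one_left h6
    exact L.t_not hk (by rw [h5]; exact L.W.inv_mem hv)
  · intro s hs
    obtain ⟨r, hr, h1⟩ := N.ψ_surj ((ν + 1)⁻¹ * L.ψ s)
    set s1 := N.h i * r * (N.h i)⁻¹ * r⁻¹ with hs1
    have hs1S : s1 ∈ N.S := N.S.mul_mem (N.h_S i r hr) (N.S.inv_mem hr)
    have hψinv : ∀ g ∈ N.S, L.ψ g⁻¹ = L.ψ g := by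
      intro g hg
      have h3 := L.ψ_mul hk (N.S_le hg) (N.S_le (N.S.inv_mem hg))
      rw [mul_inv_cancel, L.ψ_W L.W.one_mem] at h3
      have := CharTwo.add_self_eq_zero (L.ψ g)
      linear_combination -h3 - this
    have h2 : L.ψ s1 = L.ψ s := by
      rw [hs1, L.ψ_mul hk (N.S_le (N.h_S i r hr)) (N.S_le (N.S.inv_mem hr)), h_ψ N hk i hr,
        hψinv r hr, hi, h1]
      have : ν * ((ν + 1)⁻¹ * L.ψ s) + (ν + 1)⁻¹ * L.ψ s = (ν + 1) * (ν + 1)⁻¹ * L.ψ s := by ring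
      rw [this, mul_inv_cancel₀ hν, one_mul]
    have h3 : L.ψ (s1⁻¹ * s) = 0 := by
      rw [L.ψ_mul hk (N.S_le (N.S.inv_mem hs1S)) (N.S_le hs), hψinv _ hs1S, h2,
        CharTwo.add_self_eq_zero]
    rcases N.ψ_ker _ (N.S.mul_mem (N.S.inv_mem hs1S) hs) h3 with h4 | h4
    · left
      have : s = s1 * (s1⁻¹ * s) := by group
      rw [this]
      exact (W1 N hk i).mul_mem (hin r hr) (hWle h4)
    · right
      have : s * B.t = s1 * (s1⁻¹ * s * B.t) := by group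
      rw [this]
      exact (W1 N hk i).mul_mem (hin r hr) (hWle h4)
  · rintro j _ ⟨r, hr, w, hw, rfl⟩
    refine ⟨N.h j * r * (N.h j)⁻¹, N.h_S j r hr, N.h j * w * (N.h j)⁻¹, h_W_mem N j hw, ?_⟩
    have h1 : N.h i * (N.h j * r * (N.h j)⁻¹) * (N.h i)⁻¹ =
        N.h j * (N.h i * r * (N.h i)⁻¹) * (N.h j)⁻¹ := by
      rw [← N.h_mul i j r hr, ← N.h_mul j i r hr, mul_comm i j]
    rw [h1]; group

end Cfsg.Agent.StdU3.Tower.Half
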