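import Mathlib
import Cfsg.Agent.StdU3.Tower.Half

/-!
# The step of the tower
-/

set_option autoImplicit false
set_option linter.unusedSectionVars false

namespace Cfsg.Agent.StdU3.Tower.Step

open Cfsg.Agent.StdU3.Tower.Base Cfsg.Agent.StdU3.Tower.Next Cfsg.Agent.StdU3.Tower.Half
  Cfsg.Agent.StdU3.Tower.Pairing

variable {G : Type*} [Group G] {F : Type*} [Field F] {ι : Type*} [CommGroup ι] [CharP F 2]
variable {B : HB G F ι} {k : ℕ} {L : Lvl B k} {N : Nxt L} (V : Hlf N)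

include V in
theorem ψ_surj (hk : 1 ≤ k) (u : F) : ∃ s ∈ V.V, L.ψ s = u := by
  obtain ⟨s, hs, h⟩ := N.ψ_surj u
  rcases V.cov s hs with h1 | h1
  · exact ⟨s, h1, h⟩
  · refine ⟨s * B.t, h1, ?_⟩
    rw [L.ψ_mul hk (N.S_le hs) (L.Y_le_NH L.t_mem_Y), L.ψ_t, add_zero, h]

theorem ψ_ker {s : G} (hs : s ∈ V.V) (h : L.ψ s = 0) : s ∈ L.W := by
  rcases N.ψ_ker s (V.V_le hs) h with h1 | h1
  · exact h1
  · exfalso
    apply V.t_not
    have : B.t = s⁻¹ * (s * B.t) := by group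
    rw [this]
    exact V.V.mul_mem (V.V.inv_mem hs) (V.W_le h1)

theorem ψ_mulV (hk : 1 ≤ k) {s r : G} (hs : s ∈ V.V) (hr : r ∈ V.V) :
    L.ψ (s * r) = L.ψ s + L.ψ r := L.ψ_mul hk (N.S_le (V.V_le hs)) (N.S_le (V.V_le hr))

/-- commutator -/
def cm (s w : G) : G := s * w * s⁻¹ * w⁻¹

theorem cm_mem (N : Nxt L) (hk : 1 ≤ k) {s w : G} (hs : s ∈ N.S) (hw : w ∈ L.W) :
    cm s w ∈ L.W := L.W.mul_mem (W_normal N hk hs hw) (L.W.inv_mem hw)

theorem β_cm (N : Nxt L) (hk : 1 ≤ k) {s w : G} (hs : s ∈ N.S) (hw : w ∈ L.W) :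
    L.β (cm s w) = 0 := by
  have h1 := W_normal N hk hs hw
  rw [cm, L.β_mul h1 (L.W.inv_mem hw), L.β_conj (N.S_le hs).1 hw h1, L.β_inv hw,
    CharTwo.add_self_eq_zero]

theorem cm_mul_left (s r w : G) : cm (s * r) w = (s * cm r w * s⁻¹) * cm s w := by
  rw [cm, cm, cm]; group

theorem cm_mul_right (N : Nxt L) (hk : 1 ≤ k) {s w v : G} (hs : s ∈ N.S) (hw : w ∈ L.W)
    (hv : v ∈ L.W) : cm s (w * v) = cm s w * cm s v := by
  have h1 := L.comm _ (cm_mem N hk hs hv) _ (L.W.inv_mem hw)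
  calc cm s (w * v) = s * w * s⁻¹ * (cm s v * w⁻¹) := by rw [cm, cm]; group
    _ = s * w * s⁻¹ * (w⁻¹ * cm s v) := by rw [h1]
    _ = _ := by simp only [cm]; group

theorem cm_inv (N : Nxt L) (hk : 1 ≤ k) {s w : G} (hs : s ∈ N.S) (hw : w ∈ L.W) :
    cm s w⁻¹ = (cm s w)⁻¹ := by
  have h := cm_mul_right N hk hs hw (L.W.inv_mem hw)
  rw [mul_inv_cancel] at h
  have h1 : cm s 1 = 1 := by rw [cm]; group
  rw [h1] at h
  exact (inv_eq_of_mul_eq_one_right h.symm).symm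

theorem cm_W {w v : G} (hw : w ∈ L.W) (hv : v ∈ L.W) : cm w v = 1 := by
  rw [cm, L.comm w hw v hv, mul_inv_cancel_right, mul_inv_cancel]

theorem pair1 [Finite F] (hk : 1 ≤ k) (j : ℕ)
    (hj : ∀ s ∈ V.V, ∀ w ∈ L.W, (cm s w) ^ 2 ^ (j + 1) = 1) :
    ∃ c : F, ∀ s ∈ V.V, ∀ w ∈ L.W, ∀ u, (cm s w) ^ 2 ^ j = B.z u → u * u = c * (L.ψ s * L.β w) := by
  have hmem : ∀ s ∈ V.V, ∀ w ∈ L.W, ∃ u, (cm s w) ^ 2 ^ j = B.z u := by
    intro s hs w hw
    apply L.omega hk (L.W.pow_mem (cm_mem N hk (V.V_le hs) hw) _)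
    rw [← pow_two, ← pow_mul, ← pow_succ]
    exact hj s hs w hw
  refine pairing B.z B.z_add (fun b c => B.z_injective) V.V L.W L.ψ L.β
    (fun s w => (cm s w) ^ 2 ^ j) (fun s hs r hr => ψ_mulV V hk hs hr)
    (fun w hw v hv => L.β_mul hw hv) (ψ_surj V hk) L.β_surj hmem ?_ ?_ ?_ ?_ ?_
  · intro s hs r hr w hw
    obtain ⟨u, hu⟩ := hmem r hr w hw
    have hsS := V.V_le hs
    have h1 : (s * cm r w * s⁻¹) ^ 2 ^ j = (cm r w) ^ 2 ^ j := by
      rw [conj_pow, hu, B.z_cen s (N.S_le hsS).1, mul_inv_cancel_right]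
    have h2 : Commute (s * cm r w * s⁻¹) (cm s w) := L.comm _
      (W_normal N hk hsS (cm_mem N hk (V.V_le hr) hw)) _ (cm_mem N hk hsS hw)
    have h3 : Commute (cm r w ^ 2 ^ j) (cm s w ^ 2 ^ j) := L.comm _
      (L.W.pow_mem (cm_mem N hk (V.V_le hr) hw) _) _ (L.W.pow_mem (cm_mem N hk hsS hw) _)
    show cm (s * r) w ^ 2 ^ j = cm s w ^ 2 ^ j * cm r w ^ 2 ^ j
    rw [cm_mul_left, h2.mul_pow, h1, h3.eq]
  · intro s hs w hw v hv
    have hsS := V.V_le hs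
    have h3 : Commute (cm s w) (cm s v) := L.comm _ (cm_mem N hk hsS hw) _ (cm_mem N hk hsS hv)
    show cm s (w * v) ^ 2 ^ j = cm s w ^ 2 ^ j * cm s v ^ 2 ^ j
    rw [cm_mul_right N hk hsS hw hv, h3.mul_pow]
  · intro s hs w hw h
    show cm s w ^ 2 ^ j = 1
    rw [cm_W (ψ_ker V hs h) hw, one_pow]
  · intro s hs w hw h
    obtain ⟨v, hv, rfl⟩ := L.β_eq_zero hw h
    show cm s (v * v) ^ 2 ^ j = 1
    rw [cm_mul_right N hk (V.V_le hs) hv hv, ← pow_two, ← pow_mul, ← pow_succ']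
    exact hj s hs v hv
  · intro ν hν
    obtain ⟨i, hi⟩ := B.wt_surj ν hν
    refine ⟨N.h i, fun s hs => ⟨V.h_V i s hs, ?_⟩, fun w hw => ⟨h_W_mem N i hw, ?_⟩, ?_⟩
    · rw [h_ψ N hk i (V.V_le hs), hi]
    · rw [h_β N i hw, hi]
    · intro s hs w hw u hu
      have h1 : cm (N.h i * s * (N.h i)⁻¹) (N.h i * w * (N.h i)⁻¹) = N.h i * cm s w * (N.h i)⁻¹ := by
        rw [cm, cm]; group
      show cm (N.h i * s * (N.h i)⁻¹) (N.h i * w * (N.h i)⁻¹) ^ 2 ^ j = B.z (ν * u)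
      rw [h1, conj_pow]
      have h2 : cm s w ^ 2 ^ j = B.z u := hu
      rw [h2, h_z N i, hi]

/-- `s ^ 2` acts trivially on `W`. -/
theorem cm_cm (N : Nxt L) (hk : 1 ≤ k) {s w : G} (hs : s ∈ N.S) (hw : w ∈ L.W) :
    cm s (cm s w) = (cm s w * cm s w)⁻¹ := by
  have h1 : cm (s * s) w = 1 := cm_W (sq_mem N hk hs) hw
  rw [cm_mul_left] at h1
  have hc := cm_mem N hk hs hw
  have h2 : cm s (cm s w) = (s * cm s w * s⁻¹) * (cm s w)⁻¹ := by rw [cm, cm]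
  rw [h2, eq_inv_of_mul_eq_one_left h1]; group

theorem pow_of_le {x : G} {i j : ℕ} (hij : i ≤ j) (h : x ^ 2 ^ i = 1) : x ^ 2 ^ j = 1 := by
  obtain ⟨m, rfl⟩ := Nat.exists_eq_add_of_le hij
  rw [pow_add, pow_mul, h, one_pow]

theorem cm_pow_k (N : Nxt L) (hk : 1 ≤ k) {s w : G} (hs : s ∈ N.S) (hw : w ∈ L.W) :
    (cm s w) ^ 2 ^ k = 1 := by
  rw [L.β_spec (cm_mem N hk hs hw), β_cm N hk hs hw, B.z_zero]

/-- first reduction, `k ≥ 2` -/
theorem cm_pow_pred [Finite F] (hk : 2 ≤ k) (hF : ∃ ν : F, ν ≠ 0 ∧ ν ≠ 1) {s w : G}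
    (hs : s ∈ V.V) (hw : w ∈ L.W) : (cm s w) ^ 2 ^ (k - 1) = 1 := by
  have hk1 : 1 ≤ k := by omega
  obtain ⟨c, hc⟩ := pair1 V hk1 (k - 1) (fun s hs w hw => by
    have e : k - 1 + 1 = k := by omega
    rw [e]; exact cm_pow_k N hk1 (V.V_le hs) hw)
  -- the relation
  have key : ∀ s ∈ V.V, ∀ w ∈ L.W, ∀ u, (cm s w) ^ 2 ^ (k - 1) = B.z u → u * u = c * (L.ψ s * u) := by
    intro s hs w hw u hu
    have hsS := V.V_le hs
    obtain ⟨v, hv, h1⟩ := L.β_eq_zero (cm_mem N hk1 hsS hw) (β_cm N hk1 hsS hw)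
    have h2 : v ^ 2 ^ k = B.z u := by
      rw [← hu, h1, ← pow_two, ← pow_mul, ← pow_succ']
      congr 2; omega
    have h3 : L.β v = u := L.β_eq hv h2
    have h4 := cm_cm N hk1 hsS hw
    have h5 : cm s (cm s w) = cm s v * cm s v := by rw [h1, cm_mul_right N hk1 hsS hv hv]
    have h6 : cm s v ^ 2 ^ (k - 1) = B.z u := by
      have e : k - 1 = (k - 2) + 1 := by omega
      have h7 : cm s v ^ 2 ^ (k - 1) = (cm s v * cm s v) ^ 2 ^ (k - 2) := by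
        rw [← pow_two, ← pow_mul, ← pow_succ', ← e]
      rw [h7, ← h5, h4, inv_pow, ← pow_two, ← pow_mul, ← pow_succ', ← e, hu, B.z_inv]
    have h8 := hc s hs v hv u h6
    rw [h3] at h8
    exact h8
  have hc0 : c = 0 := by
    by_contra hc0
    obtain ⟨s1, hs1, hψ⟩ := ψ_surj V hk1 (1 : F)
    have h1 : ∀ x : F, x ≠ 0 → x = c := by
      intro x hx
      obtain ⟨w1, hw1, hβ⟩ := L.β_surj x
      obtain ⟨u, hu⟩ := L.omega hk1 (L.W.pow_mem (cm_mem N hk1 (V.V_le hs1) hw1) (2 ^ (k - 1))) (by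
        rw [← pow_two, ← pow_mul, ← pow_succ]
        have e : k - 1 + 1 = k := by omega
        rw [e]; exact cm_pow_k N hk1 (V.V_le hs1) hw1)
      have h2 := hc s1 hs1 w1 hw1 u hu
      have h3 := key s1 hs1 w1 hw1 u hu
      rw [hψ, one_mul] at h2 h3
      rw [hβ] at h2
      have hu0 : u ≠ 0 := by
        rintro rfl
        rw [zero_mul] at h2
        exact mul_ne_zero hc0 hx h2.symm
      have h4 : u = c := mul_right_cancel₀ hu0 h3
      rw [h4] at h2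
      exact (mul_left_cancel₀ hc0 h2).symm
    obtain ⟨ν, hν0, hν1⟩ := hF
    exact hν1 ((h1 ν hν0).trans (h1 1 one_ne_zero).symm)
  obtain ⟨u, hu⟩ := L.omega hk1 (L.W.pow_mem (cm_mem N hk1 (V.V_le hs) hw) (2 ^ (k - 1))) (by
    rw [← pow_two, ← pow_mul, ← pow_succ]
    have e : k - 1 + 1 = k := by omega
    rw [e]; exact cm_pow_k N hk1 (V.V_le hs) hw)
  have h2 := hc s hs w hw u hu
  rw [hc0, zero_mul, mul_self_eq_zero] at h2
  rw [hu, h2, B.z_zero]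

/-- descent -/
theorem cm_descend (hk1 : 1 ≤ k) {j : ℕ} (hj : 1 ≤ j) (hjk : j + 1 ≤ k - 1)
    (h : ∀ s ∈ V.V, ∀ w ∈ L.W, (cm s w) ^ 2 ^ (j + 1) = 1) {s w : G} (hs : s ∈ V.V) (hw : w ∈ L.W) :
    (cm s w) ^ 2 ^ j = 1 := by
  have hsS := V.V_le hs
  obtain ⟨v, hv, h1⟩ := L.β_eq_zero (cm_mem N hk1 hsS hw) (β_cm N hk1 hsS hw)
  have h2 : L.β v = 0 := by
    apply L.β_eq hv
    have h3 := pow_of_le hjk (h s hs w hw)
    rw [h1, ← pow_two, ← pow_mul, ← pow_succ'] at h3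
    have e : k - 1 + 1 = k := by omega
    rw [e] at h3
    rw [h3, B.z_zero]
  obtain ⟨v1, hv1, rfl⟩ := L.β_eq_zero hv h2
  have h4 := cm_cm N hk1 hsS hw
  have h5 : cm s (cm s w) = (cm s v1) ^ 2 ^ 2 := by
    rw [h1, cm_mul_right N hk1 hsS hv hv, cm_mul_right N hk1 hsS hv1 hv1]
    rw [show (2 : ℕ) ^ 2 = 4 from rfl, pow_succ, pow_succ, pow_succ, pow_one]; group
  have h6 : (cm s w) ^ 2 ^ j = ((cm s (cm s w)) ^ 2 ^ (j - 1))⁻¹ := by
    rw [h4, inv_pow, inv_inv, ← pow_two, ← pow_mul, ← pow_succ']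
    congr 2; omega
  rw [h6, h5, ← pow_mul, ← pow_add]
  have e : 2 + (j - 1) = j + 1 := by omega
  rw [e, h s hs v1 hv1, inv_one]

theorem cm_sq [Finite F] (hk : 1 ≤ k) (hF : ∃ ν : F, ν ≠ 0 ∧ ν ≠ 1) :
    ∀ s ∈ V.V, ∀ w ∈ L.W, (cm s w) ^ 2 ^ (0 + 1) = 1 := by
  by_cases hk2 : k = 1
  · subst hk2
    intro s hs w hw
    exact cm_pow_k N hk (V.V_le hs) hw
  · have key : ∀ m : ℕ, ∀ j, 1 ≤ j → j + m = k - 1 → ∀ s ∈ V.V, ∀ w ∈ L.W, (cm s w) ^ 2 ^ j = 1 := by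
      intro m
      induction m with
      | zero =>
        intro j hj hjk s hs w hw
        rw [add_zero] at hjk; subst hjk
        exact cm_pow_pred V (by omega) hF hs hw
      | succ m ih =>
        intro j hj hjk s hs w hw
        exact cm_descend V hk hj (by omega) (ih (j + 1) (by omega) (by omega)) hs hw
    exact key (k - 2) 1 le_rfl (by omega)

theorem ts (L : Lvl B k) (s : G) : B.t * s * B.t = (L.a s)⁻¹ * s := by
  have h := L.conj_t s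
  have ht := B.t_inv
  have h1 : L.a s = s * B.t * s⁻¹ * B.t := rfl
  rw [h1]
  calc B.t * s * B.t = B.t⁻¹ * s * B.t⁻¹ := by rw [ht]
    _ = _ := by group

/-- the square of `s` -/
theorem sq_rel (hk : 1 ≤ k) {s : G} (hs : s ∈ V.V) :
    (s * s) * (s * s) = (L.a s * L.a s) * cm s (L.a s) := by
  have hsS := V.V_le hs
  have hsq := sq_mem N hk hsS
  have ha := L.a_mem hk (N.S_le hsS)
  have h1 : B.t * (s * s) * B.t = (s * s)⁻¹ := L.inv' hsq
  have h2 : B.t * (s * s) * B.t = ((L.a s)⁻¹ * s) * ((L.a s)⁻¹ * s) := by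
    rw [← ts]
    have ht := B.t_sq
    calc B.t * (s * s) * B.t = B.t * s * (1 : G) * s * B.t := by group
      _ = B.t * s * (B.t * B.t) * s * B.t := by rw [ht]
      _ = _ := by group
  have h3 : ((L.a s)⁻¹ * s) * ((L.a s)⁻¹ * s) = (L.a s)⁻¹ * (s * (L.a s)⁻¹ * s⁻¹) * (s * s) := by group
  have h4 : s * (L.a s)⁻¹ * s⁻¹ = cm s (L.a s)⁻¹ * (L.a s)⁻¹ := by rw [cm]; group
  rw [h1] at h2
  rw [h3, h4, cm_inv N hk hsS ha] at h2
  have hc := cm_mem N hk hsS ha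
  have h5 : (s * s) * (s * s) = ((L.a s)⁻¹ * ((cm s (L.a s))⁻¹ * (L.a s)⁻¹))⁻¹ := by
    rw [eq_inv_iff_mul_eq_one]
    have h6 : (L.a s)⁻¹ * ((cm s (L.a s))⁻¹ * (L.a s)⁻¹) * (s * s) = (s * s)⁻¹ := h2.symm
    have h7 : (L.a s)⁻¹ * ((cm s (L.a s))⁻¹ * (L.a s)⁻¹) = (s * s)⁻¹ * (s * s)⁻¹ :=
      eq_mul_inv_of_mul_eq h6
    rw [h7]; group
  rw [h5, mul_inv_rev, mul_inv_rev, inv_inv, inv_inv]
  have h8 := L.comm _ ha _ hc
  rw [mul_assoc, mul_assoc, h8]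

/-- **First alternative**: `V` centralises `W`, or `k = 1` and we have the exceptional case. -/
theorem centralises_or [Finite F] (hk : 1 ≤ k) (hF : ∃ ν : F, ν ≠ 0 ∧ ν ≠ 1) :
    (∀ s ∈ V.V, ∀ w ∈ L.W, s * w = w * s) ∨
      (k = 1 ∧ (∀ s ∈ V.V, ∃ b, s * s = B.z b) ∧
        ∀ s ∈ V.V, ∀ w ∈ L.W, ∀ u, cm s w = B.z u → u * u = L.ψ s * L.β w) := by
  have hsq := cm_sq V hk hF
  obtain ⟨c, hc⟩ := pair1 V hk 0 hsq
  simp only [pow_zero, pow_one] at hc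
  have hmem : ∀ s ∈ V.V, ∀ w ∈ L.W, ∃ u, cm s w = B.z u := by
    intro s hs w hw
    apply L.omega hk (cm_mem N hk (V.V_le hs) hw)
    have := hsq s hs w hw
    rwa [zero_add, pow_one, pow_two] at this
  by_cases hc0 : c = 0
  · left
    intro s hs w hw
    obtain ⟨u, hu⟩ := hmem s hs w hw
    have h1 := hc s hs w hw u hu
    rw [hc0, zero_mul, mul_self_eq_zero] at h1
    rw [h1, B.z_zero, cm, mul_inv_eq_one, mul_inv_eq_iff_eq_mul] at hu
    exact hu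
  · right
    -- `β (s * s) = 0` if `ψ s ≠ 0`
    have hcs : ∀ s ∈ V.V, L.ψ s ≠ 0 → L.β (s * s) = 0 := by
      intro s hs hψ
      have h1 : cm s (s * s) = B.z 0 := by rw [B.z_zero, cm]; group
      have h2 := hc s hs _ (sq_mem N hk (V.V_le hs)) 0 h1
      rw [zero_mul] at h2
      exact (mul_eq_zero.1 ((mul_eq_zero.1 h2.symm).resolve_left hc0)).resolve_left hψ
    have hk1 : k = 1 := by
      by_contra hk1
      obtain ⟨s, hs, hψ⟩ := ψ_surj V hk (1 : F)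
      have h1 := hcs s hs (by rw [hψ]; exact one_ne_zero)
      have hsS := V.V_le hs
      have ha := L.a_mem hk (N.S_le hsS)
      obtain ⟨u, hu⟩ := hmem s hs _ ha
      have h2 := sq_rel V hk hs
      rw [hu] at h2
      have hsqm := sq_mem N hk hsS
      have h3 : ((s * s) * (L.a s)⁻¹) ^ 2 ^ k = 1 := by
        have h4 : ((s * s) * (L.a s)⁻¹) ^ 2 = B.z u := by
          have h5 : Commute (s * s) (L.a s)⁻¹ := L.comm _ hsqm _ (L.W.inv_mem ha)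
          have h6 := B.z_cen (L.a s)⁻¹ (B.H.inv_mem (L.W_le ha)) u
          rw [h5.mul_pow, pow_two, h2, pow_two]
          calc L.a s * L.a s * B.z u * ((L.a s)⁻¹ * (L.a s)⁻¹)
              = L.a s * L.a s * (B.z u * (L.a s)⁻¹) * (L.a s)⁻¹ := by group
            _ = L.a s * (L.a s * ((L.a s)⁻¹ * B.z u)) * (L.a s)⁻¹ := by rw [h6]; group
            _ = L.a s * (B.z u * (L.a s)⁻¹) := by group
            _ = L.a s * ((L.a s)⁻¹ * B.z u) := by rw [h6]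
            _ = _ := by group
        obtain ⟨m, rfl⟩ : ∃ m, k = m + 2 := ⟨k - 2, by omega⟩
        have e : 2 ^ (m + 2) = 2 * (2 * 2 ^ m) := by rw [pow_add]; ring
        rw [e, pow_mul, h4, pow_mul, pow_two, B.z_sq, one_pow]
      have h7 : L.β ((s * s) * (L.a s)⁻¹) = 0 :=
        L.β_eq (L.W.mul_mem hsqm (L.W.inv_mem ha)) (by rw [h3, B.z_zero])
      rw [L.β_mul hsqm (L.W.inv_mem ha), h1, zero_add, L.β_inv ha] at h7
      have h8 : L.ψ s = 0 := h7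
      rw [hψ] at h8
      exact one_ne_zero h8
    subst hk1
    have hZsq : ∀ s ∈ V.V, ∃ b, s * s = B.z b := by
      intro s hs
      have key : L.β (s * s) = 0 ∨ s ∈ L.W := by
        by_cases h : L.ψ s = 0
        · exact Or.inr (ψ_ker V hs h)
        · exact Or.inl (hcs s hs h)
      rcases key with h | h
      · obtain ⟨v, hv, h1⟩ := L.β_eq_zero (sq_mem N hk (V.V_le hs)) h
        exact ⟨L.β v, by rw [h1, ← L.β_spec hv, pow_one, pow_two]⟩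
      · exact ⟨L.β s, by rw [← L.β_spec h, pow_one, pow_two]⟩
    refine ⟨rfl, hZsq, ?_⟩
    have hc1 : c = 1 := by
      obtain ⟨s, hs, hψ⟩ := ψ_surj V hk (1 : F)
      have hsS := V.V_le hs
      have ha := L.a_mem hk (N.S_le hsS)
      have h2 := sq_rel V hk hs
      obtain ⟨b, hb⟩ := hZsq s hs
      rw [hb, B.z_sq] at h2
      have h3 : L.a s * L.a s = B.z (L.β (L.a s)) := by rw [← L.β_spec ha, pow_one, pow_two]
      have h4 : L.β (L.a s) = 1 := hψ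
      rw [h3, h4] at h2
      have h5 : cm s (L.a s) = B.z 1 := by
        rw [← B.z_inv 1]; exact (inv_eq_of_mul_eq_one_right h2.symm).symm
      have h6 := hc s hs _ ha 1 h5
      rw [hψ, h4] at h6
      simpa using h6.symm
    intro s hs w hw u hu
    rw [hc s hs w hw u hu, hc1, one_mul]

end Cfsg.Agent.StdU3.Tower.Step
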