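import Mathlib
import Cfsg.Agent.StdU3.Tower.Step

/-!
# Invariance of the next group under a `2`-group, and the odd group `K0`
-/

set_option autoImplicit false
set_option linter.unusedSectionVars false

namespace Cfsg.Agent.StdU3.Tower.Rinv

open Cfsg.Agent.StdU3.Tower.Base Cfsg.Agent.StdU3.Tower.Next Cfsg.Agent.StdU3.Tower.Half
  Cfsg.Agent.StdU3.Tower.Pairing Cfsg.Agent.StdU3.Tower.Step

variable {G : Type*} [Group G] {F : Type*} [Field F] {ι : Type*} [CommGroup ι] [CharP F 2]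
variable {B : HB G F ι} {k : ℕ} {L : Lvl B k} {N : Nxt L}

theorem K0_inter (N : Nxt L) {κ : G} (h1 : κ ∈ B.K0) (h2 : κ ∈ N.S) : κ = 1 := by
  obtain ⟨n, hn⟩ := N.S_two ⟨κ, h2⟩
  exact K0_two B h1 (congrArg Subtype.val hn)

/-- the elements of `K0` normalising `W` and `T ≤ S` centralise `T`. -/
theorem K0_cent (N : Nxt L) (hk : 1 ≤ k) {κ : G} (hκ : κ ∈ B.K0)
    (hW : ∀ x ∈ L.W, κ * x * κ⁻¹ ∈ L.W) {T : Subgroup G} (hTS : T ≤ N.S)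
    (hT : ∀ s ∈ T, κ * s * κ⁻¹ ∈ T) : ∀ s ∈ T, κ * s = s * κ := by
  intro s hs
  have hκ1 : κ ∈ K1 L := ⟨hκ, K0_comm L hk hκ hW⟩
  have h4 : κ * s * κ⁻¹ * s⁻¹ ∈ T := T.mul_mem (hT s hs) (T.inv_mem hs)
  have h5 : κ * s * κ⁻¹ * s⁻¹ ∈ K1 L := by
    have h6 := K1_normal L hk (N.S_le (hTS hs)) ((K1 L).inv_mem hκ1)
    have e1 : κ * s * κ⁻¹ * s⁻¹ = κ * (s * κ⁻¹ * s⁻¹) := by group
    rw [e1]
    exact (K1 L).mul_mem hκ1 h6
  have h6 := K0_inter N h5.1 (hTS h4)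
  rw [mul_inv_eq_one, mul_inv_eq_iff_eq_mul] at h6
  exact h6

theorem a_conj_comm {c : G} (hc : c * B.t = B.t * c) (g : G) :
    L.a (c * g * c⁻¹) = c * L.a g * c⁻¹ := by
  have h2 : c⁻¹ * B.t = B.t * c⁻¹ := by
    rw [inv_mul_eq_iff_eq_mul, ← mul_assoc, hc, mul_inv_cancel_right]
  rw [Lvl.a, Lvl.a]
  calc c * g * c⁻¹ * B.t * (c * g * c⁻¹)⁻¹ * B.t
      = c * g * (c⁻¹ * B.t) * c * g⁻¹ * (c⁻¹ * B.t) := by group
    _ = _ := by rw [h2]; group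

/-- the elements of `K0` normalising `V` normalise `W`. -/
theorem K0_W (V : Hlf N) (hk : 1 ≤ k) {κ : G} (hκ : κ ∈ B.K0)
    (hV : ∀ s ∈ V.V, κ * s * κ⁻¹ ∈ V.V) : ∀ x ∈ L.W, κ * x * κ⁻¹ ∈ L.W := by
  intro x hx
  have h1 := hV x (V.W_le hx)
  apply ψ_ker V h1
  have h2 := L.a_mem hk (N.S_le (V.V_le h1))
  rw [Lvl.ψ]
  apply L.β_eq h2
  rw [a_conj_comm (B.K0_t κ hκ), L.a_W hx, conj_pow, L.β_spec (L.W.mul_mem hx hx), L.β_sq hx,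
    B.z_zero, mul_one, mul_inv_cancel]

theorem K0_V (V : Hlf N) (hk : 1 ≤ k) {κ : G} (hκ : κ ∈ B.K0)
    (hV : ∀ s ∈ V.V, κ * s * κ⁻¹ ∈ V.V) : ∀ s ∈ V.V, κ * s = s * κ :=
  K0_cent N hk hκ (K0_W V hk hκ hV) V.V_le hV

/-- elements of odd order of `C_H(t)` are in `K0`. -/
theorem mem_K0 {c : G} (hH : c ∈ B.H) (ht : c * B.t = B.t * c) (h : c ^ Nat.card B.K0 = 1) :
    c ∈ B.K0 := by
  obtain ⟨b, κ, hκ, h1⟩ := B.dec c hH ht
  obtain ⟨m, hm⟩ := B.K0_odd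
  have hc1 : Commute (B.z b) κ := (B.z_cen κ (B.K0_le hκ) b).symm
  have hc2 : Commute B.t κ := (B.K0_t κ hκ).symm
  have hc3 : Commute B.t (B.z b) := B.z_cen B.t B.t_mem b
  rcases h1 with h1 | h1
  · rw [h1, hc1.mul_pow, K0_pow B hκ, mul_one, hm, pow_succ, pow_mul, pow_two, B.z_sq, one_pow,
      one_mul] at h
    rw [h1, h, one_mul]; exact hκ
  · exfalso
    have h2 : (B.t * B.z b) * (B.t * B.z b) = 1 := by
      calc (B.t * B.z b) * (B.t * B.z b) = (B.t * B.z b) * (B.z b * B.t) := by rw [hc3.eq]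
        _ = B.t * (B.z b * B.z b) * B.t := by group
        _ = 1 := by rw [B.z_sq, mul_one, B.t_sq]
    rw [h1, (hc2.mul_left hc1).mul_pow, K0_pow B hκ, mul_one, hm, pow_succ, pow_mul, pow_two, h2,
      one_pow, one_mul] at h
    have h3 : B.z b = B.t := by
      have := eq_inv_of_mul_eq_one_right h
      rw [this, B.t_inv]
    exact B.t_not b h3

variable {R : Subgroup G} (hR : Rg B R)

include hR in
theorem R_K0 {r κ : G} (hr : r ∈ R) (hκ : κ ∈ B.K0) : r * κ * r⁻¹ ∈ B.K0 := by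
  apply mem_K0 (hR.H r hr κ (B.K0_le hκ))
  · have h1 := hR.t r hr
    have h2 := B.K0_t κ hκ
    have h3 : r⁻¹ * B.t = B.t * r⁻¹ := by
      rw [inv_mul_eq_iff_eq_mul, ← mul_assoc, h1, mul_inv_cancel_right]
    calc r * κ * r⁻¹ * B.t = r * (κ * (r⁻¹ * B.t)) := by group
      _ = r * (κ * B.t) * r⁻¹ := by rw [h3]; group
      _ = (r * B.t) * κ * r⁻¹ := by rw [h2]; group
      _ = _ := by rw [h1]; group
  · rw [conj_pow, K0_pow B hκ, mul_one, mul_inv_cancel]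

theorem h_inv_S [Finite G] (N : Nxt L) (i : ι) {s : G} (hs : s ∈ N.S) :
    (N.h i)⁻¹ * s * N.h i ∈ N.S := by
  have hf : Function.Injective
      (fun x : N.S => (⟨N.h i * x * (N.h i)⁻¹, N.h_S i x x.2⟩ : N.S)) := by
    intro a b hab
    have := congrArg Subtype.val hab
    simp only [mul_left_inj, mul_right_inj] at this
    exact Subtype.ext this
  obtain ⟨y, hy⟩ := Finite.surjective_of_injective hf ⟨s, hs⟩
  have h1 : N.h i * y * (N.h i)⁻¹ = s := congrArg Subtype.val hy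
  rw [← h1]
  have e : (N.h i)⁻¹ * (N.h i * y * (N.h i)⁻¹) * N.h i = y := by group
  rw [e]; exact y.2

theorem h_inv_W [Finite G] (N : Nxt L) (i : ι) {s : G} (hs : s ∈ L.W) :
    (N.h i)⁻¹ * s * N.h i ∈ L.W := by
  have hf : Function.Injective
      (fun x : L.W => (⟨N.h i * x * (N.h i)⁻¹, h_W_mem N i x.2⟩ : L.W)) := by
    intro a b hab
    have := congrArg Subtype.val hab
    simp only [mul_left_inj, mul_right_inj] at this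
    exact Subtype.ext this
  obtain ⟨y, hy⟩ := Finite.surjective_of_injective hf ⟨s, hs⟩
  have h1 : N.h i * y * (N.h i)⁻¹ = s := congrArg Subtype.val hy
  rw [← h1]
  have e : (N.h i)⁻¹ * (N.h i * y * (N.h i)⁻¹) * N.h i = y := by group
  rw [e]; exact y.2

/-- `[h i, s] ∈ V`. -/
theorem cov_h (V : Hlf N) (i : ι) {s : G} (hs : s ∈ N.S) : N.h i * s * (N.h i)⁻¹ * s⁻¹ ∈ V.V := by
  rcases V.cov s hs with h | h
  · exact V.V.mul_mem (V.h_V i s h) (V.V.inv_mem h)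
  · have h1 := V.V.mul_mem (V.h_V i _ h) (V.V.inv_mem h)
    have h2 := h_t N i
    have e : N.h i * (s * B.t) * (N.h i)⁻¹ * (s * B.t)⁻¹ = N.h i * s * (N.h i)⁻¹ * s⁻¹ := by
      have h3 : (N.h i)⁻¹ * B.t = B.t * (N.h i)⁻¹ := by
        rw [inv_mul_eq_iff_eq_mul, ← mul_assoc, h2, mul_inv_cancel_right]
      calc N.h i * (s * B.t) * (N.h i)⁻¹ * (s * B.t)⁻¹
          = N.h i * s * (B.t * (N.h i)⁻¹) * B.t⁻¹ * s⁻¹ := by group
        _ = _ := by rw [← h3]; group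
    rwa [e] at h1

include hR in
/-- the action of `r h_i r⁻¹` on `S`. -/
theorem r_h [Finite G] (N : Nxt L) (hk : 1 ≤ k) (hRW : ∀ r ∈ R, ∀ x ∈ L.W, r * x * r⁻¹ ∈ L.W)
    (hRS : ∀ r ∈ R, ∀ s ∈ N.S, r * s * r⁻¹ ∈ N.S) {r : G} (hr : r ∈ R) (i : ι) :
    ∃ j, (∀ s ∈ N.S, (r * N.h i * r⁻¹) * s * (r * N.h i * r⁻¹)⁻¹ = N.h j * s * (N.h j)⁻¹) ∨
      (∀ s ∈ N.S, (r * N.h i * r⁻¹) * s * (r * N.h i * r⁻¹)⁻¹ =
        B.t * (N.h j * s * (N.h j)⁻¹) * B.t⁻¹) := by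
  obtain ⟨j, q, κ, hq, hκ, h1⟩ := hR.h r hr i
  obtain ⟨c, hc, h2⟩ := N.h_eq i
  obtain ⟨d, hd, h3⟩ := N.h_eq j
  have hc' := R_K0 hR hr hc
  have hqc := hq _ (B.K0_le hc')
  have htS : B.t ∈ N.S := N.Y_le L.t_mem_Y
  have ht' : ∀ κ ∈ B.K0, B.t * κ = κ * B.t := fun κ hκ => (B.K0_t κ hκ).symm
  have hRi : ∀ r ∈ R, ∀ s ∈ N.S, r⁻¹ * s * r ∈ N.S := by
    intro r hr s hs
    have := hRS r⁻¹ (R.inv_mem hr) s hs
    rwa [inv_inv] at this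
  have hRWi : ∀ r ∈ R, ∀ s ∈ L.W, r⁻¹ * s * r ∈ L.W := by
    intro r hr s hs
    have := hRW r⁻¹ (R.inv_mem hr) s hs
    rwa [inv_inv] at this
  -- the odd element
  set κ' := r * c * r⁻¹ * κ * d⁻¹ with hκ'
  have hκ'K : κ' ∈ B.K0 := B.K0.mul_mem (B.K0.mul_mem hc' hκ) (B.K0.inv_mem hd)
  have hh3 : B.h j = d⁻¹ * N.h j := by rw [h3]; group
  have e0 : r * N.h i * r⁻¹ = (r * c * r⁻¹) * (r * B.h i * r⁻¹) := by rw [h2]; group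
  -- conjugation by `r h_i r⁻¹`
  have hconjS : ∀ s ∈ N.S, (r * N.h i * r⁻¹) * s * (r * N.h i * r⁻¹)⁻¹ ∈ N.S := by
    intro s hs
    have h4 := hRS r hr _ (N.h_S i _ (hRi r hr s hs))
    have e : (r * N.h i * r⁻¹) * s * (r * N.h i * r⁻¹)⁻¹ =
      r * (N.h i * (r⁻¹ * s * r) * (N.h i)⁻¹) * r⁻¹ := by group
    rw [e]; exact h4
  have hconjW : ∀ s ∈ L.W, (r * N.h i * r⁻¹) * s * (r * N.h i * r⁻¹)⁻¹ ∈ L.W := by
    intro s hs
    have h4 := hRW r hr _ (h_W_mem N i (hRWi r hr s hs))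
    have e : (r * N.h i * r⁻¹) * s * (r * N.h i * r⁻¹)⁻¹ =
      r * (N.h i * (r⁻¹ * s * r) * (N.h i)⁻¹) * r⁻¹ := by group
    rw [e]; exact h4
  -- `q` acts trivially
  have hqt : ∀ g ∈ B.H, q * g * q⁻¹ = g := fun g hg => by
    rw [hq g hg, mul_inv_cancel_right]
  have hqt' : ∀ g ∈ B.H, q⁻¹ * g * q = g := fun g hg => by
    rw [mul_assoc, ← hq g hg, inv_mul_cancel_left]
  have hSH : ∀ s ∈ N.S, s ∈ B.H := fun s hs => (N.S_le hs).1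
  have key : (∀ s ∈ N.S, κ' * s * κ'⁻¹ ∈ N.S) → (∀ s ∈ L.W, κ' * s * κ'⁻¹ ∈ L.W) →
      ∀ s ∈ N.S, κ' * s * κ'⁻¹ = s := by
    intro h4 h5 s hs
    have := K0_cent N hk hκ'K h5 le_rfl h4 s hs
    rw [this, mul_inv_cancel_right]
  refine ⟨j, ?_⟩
  rcases h1 with h1 | h1
  · left
    have e1 : r * N.h i * r⁻¹ = q * κ' * N.h j := by
      calc r * N.h i * r⁻¹ = (r * c * r⁻¹ * q) * κ * B.h j := by rw [e0, h1]; group
        _ = q * (r * c * r⁻¹) * κ * B.h j := by rw [← hqc]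
        _ = _ := by rw [hh3, hκ']; group
    have e2 : κ' = q⁻¹ * (r * N.h i * r⁻¹) * (N.h j)⁻¹ := by rw [e1]; group
    have e3 : ∀ s, κ' * s * κ'⁻¹ = q⁻¹ * ((r * N.h i * r⁻¹) * ((N.h j)⁻¹ * s * N.h j) *
        (r * N.h i * r⁻¹)⁻¹) * q := by intro s; rw [e2]; group
    have h4 : ∀ s ∈ N.S, κ' * s * κ'⁻¹ ∈ N.S := by
      intro s hs
      have h5 := hconjS _ (h_inv_S N j hs)
      rw [e3, hqt' _ (hSH _ h5)]
      exact h5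
    have h5 : ∀ s ∈ L.W, κ' * s * κ'⁻¹ ∈ L.W := by
      intro s hs
      have h5 := hconjW _ (h_inv_W N j hs)
      rw [e3, hqt' _ (L.W_le h5)]
      exact h5
    intro s hs
    have h6 := N.h_S j s hs
    have e4 : q * κ' * N.h j * s * (q * κ' * N.h j)⁻¹ =
      q * (κ' * (N.h j * s * (N.h j)⁻¹) * κ'⁻¹) * q⁻¹ := by group
    rw [e1, e4, key h4 h5 _ h6, hqt _ (hSH _ h6)]
  · right
    have hti := B.t_inv
    have e1 : r * N.h i * r⁻¹ = q * B.t * κ' * N.h j := by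
      calc r * N.h i * r⁻¹ = (r * c * r⁻¹ * q) * B.t * κ * B.h j := by rw [e0, h1]; group
        _ = q * ((r * c * r⁻¹) * B.t) * κ * B.h j := by rw [← hqc]; group
        _ = q * B.t * (r * c * r⁻¹) * κ * B.h j := by rw [← ht' _ hc']; group
        _ = _ := by rw [hh3, hκ']; group
    have e2 : κ' = B.t⁻¹ * q⁻¹ * (r * N.h i * r⁻¹) * (N.h j)⁻¹ := by rw [e1]; group
    have e3 : ∀ s, κ' * s * κ'⁻¹ = B.t⁻¹ * (q⁻¹ * ((r * N.h i * r⁻¹) * ((N.h j)⁻¹ * s * N.h j) *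
        (r * N.h i * r⁻¹)⁻¹) * q) * B.t := by intro s; rw [e2]; group
    have h4 : ∀ s ∈ N.S, κ' * s * κ'⁻¹ ∈ N.S := by
      intro s hs
      have h5 := hconjS _ (h_inv_S N j hs)
      rw [e3, hqt' _ (hSH _ h5)]
      exact N.S.mul_mem (N.S.mul_mem (N.S.inv_mem htS) h5) htS
    have h5 : ∀ s ∈ L.W, κ' * s * κ'⁻¹ ∈ L.W := by
      intro s hs
      have h5 := hconjW _ (h_inv_W N j hs)
      rw [e3, hqt' _ (L.W_le h5), hti, L.inv' h5]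
      exact L.W.inv_mem h5
    intro s hs
    have h6 := N.h_S j s hs
    have h7 : B.t * (N.h j * s * (N.h j)⁻¹) * B.t⁻¹ ∈ B.H :=
      B.H.mul_mem (B.H.mul_mem B.t_mem (hSH _ h6)) (B.H.inv_mem B.t_mem)
    have e4 : q * B.t * κ' * N.h j * s * (q * B.t * κ' * N.h j)⁻¹ =
      q * (B.t * (κ' * (N.h j * s * (N.h j)⁻¹) * κ'⁻¹) * B.t⁻¹) * q⁻¹ := by group
    rw [e1, e4, key h4 h5 _ h6, hqt _ h7]

include hR in
/-- `V` is `R`-invariant. -/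
theorem R_V [Finite G] (V : Hlf N) (hk : 1 ≤ k) (hF : ∃ ν : F, ν ≠ 0 ∧ ν ≠ 1)
    (hRW : ∀ r ∈ R, ∀ x ∈ L.W, r * x * r⁻¹ ∈ L.W)
    (hRS : ∀ r ∈ R, ∀ s ∈ N.S, r * s * r⁻¹ ∈ N.S) :
    ∀ r ∈ R, ∀ s ∈ V.V, r * s * r⁻¹ ∈ V.V := by
  intro r hr s hs
  obtain ⟨ν, hν0, hν1⟩ := hF
  obtain ⟨i, hi⟩ := B.wt_surj ν hν0
  have hν : ν + 1 ≠ 0 := by
    intro h
    apply hν1
    have := CharTwo.add_self_eq_zero (1 : F)
    linear_combination h - this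
  obtain ⟨v, hv, h1⟩ := ψ_surj V hk ((ν + 1)⁻¹ * L.ψ s)
  have hinvψ : ∀ g ∈ V.V, L.ψ g⁻¹ = L.ψ g := by
    intro g hg
    have h3 := ψ_mulV V hk hg (V.V.inv_mem hg)
    rw [mul_inv_cancel, L.ψ_W L.W.one_mem] at h3
    have := CharTwo.add_self_eq_zero (L.ψ g)
    linear_combination -h3 - this
  set s1 := N.h i * v * (N.h i)⁻¹ * v⁻¹ with hs1
  have hs1V : s1 ∈ V.V := V.V.mul_mem (V.h_V i v hv) (V.V.inv_mem hv)
  have h2 : L.ψ s1 = L.ψ s := by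
    rw [hs1, ψ_mulV V hk (V.h_V i v hv) (V.V.inv_mem hv), h_ψ N hk i (V.V_le hv), hinvψ v hv, hi, h1]
    have : ν * ((ν + 1)⁻¹ * L.ψ s) + (ν + 1)⁻¹ * L.ψ s = (ν + 1) * (ν + 1)⁻¹ * L.ψ s := by ring
    rw [this, mul_inv_cancel₀ hν, one_mul]
  have hw : s1⁻¹ * s ∈ L.W := by
    apply ψ_ker V (V.V.mul_mem (V.V.inv_mem hs1V) hs)
    rw [ψ_mulV V hk (V.V.inv_mem hs1V) hs, hinvψ _ hs1V, h2, CharTwo.add_self_eq_zero]
  have hv' : r * v * r⁻¹ ∈ N.S := hRS r hr v (V.V_le hv)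
  have hmain : r * s1 * r⁻¹ ∈ V.V := by
    have e : r * s1 * r⁻¹ = (r * N.h i * r⁻¹) * (r * v * r⁻¹) * (r * N.h i * r⁻¹)⁻¹ *
        (r * v * r⁻¹)⁻¹ := by rw [hs1]; group
    obtain ⟨j, h3 | h3⟩ := r_h hR N hk hRW hRS hr i
    · rw [e, h3 _ hv']
      exact cov_h V j hv'
    · rw [e, h3 _ hv']
      have h4 := comm_mem N hk (N.Y_le L.t_mem_Y) (N.h_S j _ hv')
      have h5 := cov_h V j hv'
      have e2 : B.t * (N.h j * (r * v * r⁻¹) * (N.h j)⁻¹) * B.t⁻¹ * (r * v * r⁻¹)⁻¹ =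
        (B.t * (N.h j * (r * v * r⁻¹) * (N.h j)⁻¹) * B.t⁻¹ * (N.h j * (r * v * r⁻¹) * (N.h j)⁻¹)⁻¹) *
        (N.h j * (r * v * r⁻¹) * (N.h j)⁻¹ * (r * v * r⁻¹)⁻¹) := by group
      rw [e2]
      exact V.V.mul_mem (V.W_le h4) h5
  have e : r * s * r⁻¹ = (r * s1 * r⁻¹) * (r * (s1⁻¹ * s) * r⁻¹) := by group
  rw [e]
  exact V.V.mul_mem hmain (V.W_le (hRW r hr _ hw))

end Cfsg.Agent.StdU3.Tower.Rinv
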