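import Mathlib
import Cfsg.Agent.StdU3.Tower.Rinv

/-!
# First type: the conjugates of `t` in `H`

If `ψ = 0` then `Y = ⟨t⟩ W` is a Sylow `2`-subgroup of `H` and the conjugates of `t` (under `H`) in
`W t` are the elements of `W ^ 2 t`: otherwise all elements of `W t` are conjugate to `t`, and the
number of fixed points of `t` on `H / Y` would be even.
-/

set_option autoImplicit false
set_option linter.unusedSectionVars false

namespace Cfsg.Agent.StdU3.Tower.Count

open Cfsg.Agent.StdU3.Tower.Base Cfsg.Agent.StdU3.Tower.Next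

variable {G : Type*} [Group G] {F : Type*} [Field F] {ι : Type*} [CommGroup ι] [CharP F 2]
variable {B : HB G F ι} {k : ℕ} (L : Lvl B k)

/-- `Y` as a subgroup of `H` -/
abbrev Y' : Subgroup B.H := L.Y.subgroupOf B.H

theorem lt_inf_normalizer {M : Type*} [Group M] [Finite M] {P Q : Subgroup M} (hP : IsPGroup 2 P)
    (hQ : Q < P) : ∃ x ∈ P, x ∉ Q ∧ ∀ y, y ∈ Q ↔ x * y * x⁻¹ ∈ Q := by
  have : Fact (Nat.Prime 2) := ⟨Nat.prime_two⟩
  have : Group.IsNilpotent P := hP.isNilpotent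
  have hnc := Group.normalizerCondition_of_isNilpotent (G := P)
  have h1 : Q.subgroupOf P < ⊤ := by
    rw [lt_top_iff_ne_top]
    intro h
    rw [Subgroup.subgroupOf_eq_top] at h
    exact absurd hQ (not_lt_of_ge h)
  obtain ⟨x, hx, hxQ⟩ := SetLike.exists_of_lt (hnc _ h1)
  refine ⟨x, x.2, fun h => hxQ (by rw [Subgroup.mem_subgroupOf]; exact h), fun y => ?_⟩
  have h2 := Subgroup.mem_normalizer_iff.1 hx
  constructor
  · intro hy
    have := (h2 ⟨y, hQ.le hy⟩).1 (by rw [Subgroup.mem_subgroupOf]; exact hy)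
    rw [Subgroup.mem_subgroupOf] at this
    exact this
  · intro hy
    have hyP : y ∈ P := by
      have h3 := P.mul_mem (P.mul_mem (P.inv_mem x.2) (hQ.le hy)) x.2
      have e : (x : M)⁻¹ * (x * y * (x : M)⁻¹) * x = y := by group
      rwa [e] at h3
    have := (h2 ⟨y, hyP⟩).2 (by rw [Subgroup.mem_subgroupOf]; exact hy)
    rw [Subgroup.mem_subgroupOf] at this
    exact this

theorem Y_two : IsPGroup 2 (Y' L) := by
  intro y
  refine ⟨k + 1, ?_⟩
  have h1 := pow_Y L (show ((y : B.H) : G) ∈ L.Y from Subgroup.mem_subgroupOf.1 y.2)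
  apply Subtype.ext
  apply Subtype.ext
  simpa using h1

theorem Y_sylow [Finite G] (hk : 1 ≤ k) (h0 : ∀ g ∈ L.NH, L.ψ g = 0) :
    ∃ P : Sylow 2 B.H, (P : Subgroup B.H) = Y' L := by
  obtain ⟨P, hP⟩ := (Y_two L).exists_le_sylow
  refine ⟨P, ?_⟩
  by_contra hne
  obtain ⟨x, hxP, hxY, hx⟩ := lt_inf_normalizer P.2 (lt_of_le_of_ne hP (Ne.symm hne))
  have hxN : (x : G) ∈ L.NH := by
    refine ⟨x.2, fun y => ?_⟩
    constructor
    · intro hy
      have := (hx ⟨y, L.Y_le hy⟩).1 (Subgroup.mem_subgroupOf.2 hy)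
      exact Subgroup.mem_subgroupOf.1 this
    · intro hy
      have hyH : y ∈ B.H := by
        have h3 := B.H.mul_mem (B.H.mul_mem (B.H.inv_mem x.2) (L.Y_le hy)) x.2
        have e : (x : G)⁻¹ * (x * y * (x : G)⁻¹) * x = y := by group
        rwa [e] at h3
      have := (hx ⟨y, hyH⟩).2 (Subgroup.mem_subgroupOf.2 hy)
      exact Subgroup.mem_subgroupOf.1 this
  obtain ⟨y, hy, κ, hκ, h1⟩ := ker_ψ L hk hxN (h0 _ hxN)
  have hyH := L.Y_le hy
  have hκH := B.K0_le hκ.1
  have hκP : (⟨κ, hκH⟩ : B.H) ∈ (P : Subgroup B.H) := by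
    have e : (⟨κ, hκH⟩ : B.H) = ⟨y, hyH⟩⁻¹ * x := Subtype.ext (by
      show κ = y⁻¹ * (x : G)
      rw [h1]; group)
    rw [e]
    exact (P : Subgroup B.H).mul_mem ((P : Subgroup B.H).inv_mem
      (hP (Subgroup.mem_subgroupOf.2 hy))) hxP
  obtain ⟨m, hm⟩ := P.2 ⟨_, hκP⟩
  have hκ1 : κ = 1 := by
    apply K0_two B hκ.1 (n := m)
    have h2 := congrArg Subtype.val (congrArg Subtype.val hm)
    simpa using h2
  apply hxY
  rw [Subgroup.mem_subgroupOf, h1, hκ1, mul_one]
  exact hy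

theorem mem_of_conj {g : G} (hg : g ∈ B.H) (h : g⁻¹ * B.t * g ∈ L.Y) (hk : 1 ≤ k) :
    L.a g⁻¹ ∈ L.W := by
  rcases h with h | h
  · exfalso
    have h1 : (g⁻¹ * B.t * g) * (g⁻¹ * B.t * g) = 1 := by
      have : (g⁻¹ * B.t * g) * (g⁻¹ * B.t * g) = g⁻¹ * (B.t * B.t) * g := by group
      rw [this, B.t_sq]; group
    obtain ⟨b, hb⟩ := L.omega hk h h1
    apply B.t_not b
    have h2 := B.z_cen g hg b
    have h3 : B.t = g * (g⁻¹ * B.t * g) * g⁻¹ := by group
    rw [h3, hb, h2]; group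
  · rw [Lvl.a, inv_inv]; exact h

/-- the invariant of a coset. -/
theorem val_eq (hk : 1 ≤ k) {g y : G} (hg : g ∈ B.H) (h : g⁻¹ * B.t * g ∈ L.Y) (hy : y ∈ L.Y) :
    L.β (L.a (g * y)⁻¹) = L.β (L.a g⁻¹) := by
  have ha := mem_of_conj L hg h hk
  have hyi := L.Y.inv_mem hy
  have hyH := L.Y_le hyi
  have haW := L.NH_conj_W hk (L.Y_le_NH hyi) ha
  rw [mul_inv_rev, L.a_mul, L.β_mul haW (L.a_mem hk (L.Y_le_NH hyi)), L.β_conj hyH ha haW]
  have h2 : L.β (L.a y⁻¹) = 0 := L.ψ_Y hk hyi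
  rw [h2, add_zero]

variable [Finite G]

theorem main [Finite F] (hF : Even (Nat.card F)) (hk : 1 ≤ k) (h0 : ∀ g ∈ L.NH, L.ψ g = 0)
    {g w : G} (hg : g ∈ B.H) (hw : w ∈ L.W) (h : g * B.t * g⁻¹ = w * B.t) : L.β w = 0 := by
  classical
  have : Fact (Nat.Prime 2) := ⟨Nat.prime_two⟩
  by_contra hβ
  obtain ⟨P, hP⟩ := Y_sylow L hk h0
  have hidx : ¬ 2 ∣ (Y' L).index := by rw [← hP]; exact P.not_dvd_index
  let X := B.H ⧸ Y' L
  have : Finite X := inferInstance
  let _ : Fintype X := Fintype.ofFinite X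
  let _ : Fintype F := Fintype.ofFinite F
  let t' : B.H := ⟨B.t, B.t_mem⟩
  have hfix : ∀ g : B.H, t' • (g : X) = (g : X) ↔ (g : G)⁻¹ * B.t * g ∈ L.Y := by
    intro g
    have h1 : t' • (g : X) = ((t' * g : B.H) : X) := rfl
    rw [h1, eq_comm, QuotientGroup.eq, Subgroup.mem_subgroupOf]
    show (g : G)⁻¹ * (B.t * g) ∈ L.Y ↔ _
    rw [← mul_assoc]
  let val : X → F := fun x => L.β (L.a ((x.out : B.H) : G)⁻¹)
  have hval : ∀ g : B.H, (g : G)⁻¹ * B.t * g ∈ L.Y → val (g : X) = L.β (L.a (g : G)⁻¹) := by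
    intro g hgY
    have h1 : (((g : X).out : B.H) : X) = (g : X) := Quotient.out_eq' _
    have h2 : g⁻¹ * (g : X).out ∈ Y' L := QuotientGroup.eq.1 h1.symm
    rw [Subgroup.mem_subgroupOf] at h2
    have h3 := val_eq L hk g.2 hgY h2
    have e : (g : G) * ((g⁻¹ * (g : X).out : B.H) : G) = ((g : X).out : B.H) := by
      show (g : G) * ((g : G)⁻¹ * ((g : X).out : B.H)) = _
      group
    rw [e] at h3
    exact h3
  -- the fixed points
  let Φ : Finset X := Finset.univ.filter (fun x => t' • x = x)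
  have hΦ : Odd Φ.card := by
    have h1 : IsPGroup 2 (Subgroup.zpowers t') := by
      rintro ⟨x, m, rfl⟩
      refine ⟨1, Subtype.ext ?_⟩
      have h2 : t' ^ ((2 : ℕ) : ℤ) = 1 := by
        rw [zpow_natCast, pow_two]
        exact Subtype.ext B.t_sq
      show (t' ^ m) ^ 2 ^ 1 = 1
      rw [pow_one, ← zpow_natCast, ← zpow_mul, mul_comm, zpow_mul, h2, one_zpow]
    have h2 := h1.card_modEq_card_fixedPoints X
    have h3 : Nat.card (MulAction.fixedPoints (Subgroup.zpowers t') X) = Φ.card := by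
      have h4 : (MulAction.fixedPoints (Subgroup.zpowers t') X) = (Φ : Set X) := by
        ext x
        rw [MulAction.mem_fixedPoints, Finset.mem_coe, Finset.mem_filter]
        constructor
        · intro h5
          exact ⟨Finset.mem_univ _, h5 ⟨t', Subgroup.mem_zpowers t'⟩⟩
        · rintro ⟨-, h5⟩ ⟨y, hy⟩
          have h6 : Subgroup.zpowers t' ≤ MulAction.stabilizer B.H x := by
            rw [Subgroup.zpowers_le]; exact h5
          exact h6 hy
      rw [h4, Nat.card_coe_set_eq, Set.ncard_coe_finset]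
    rw [h3] at h2
    rw [← Nat.not_even_iff_odd, even_iff_two_dvd]
    intro h4
    apply hidx
    have h5 : Nat.card X = (Y' L).index := rfl
    rw [← h5]
    exact (Nat.modEq_zero_iff_dvd.1 (h2.trans (Nat.modEq_zero_iff_dvd.2 h4)))
  have hsum : Φ.card = ∑ c : F, (Φ.filter (fun x => val x = c)).card :=
    Finset.card_eq_sum_card_fiberwise (fun x _ => Finset.mem_univ _)
  let K' : Subgroup B.H := B.K0.subgroupOf B.H
  have hK' : Odd (Nat.card K') := by
    rw [Nat.card_congr (Subgroup.subgroupOfEquivOfLe B.K0_le).toEquiv]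
    exact B.K0_odd
  -- the fibres
  have hodd : ∀ c : F, Odd (Φ.filter (fun x => val x = c)).card := by
    intro c
    -- nonempty
    obtain ⟨g1, hg1, hc⟩ : ∃ g1 : B.H, (g1 : G)⁻¹ * B.t * g1 ∈ L.Y ∧ L.β (L.a (g1 : G)⁻¹) = c := by
      by_cases hc : c = 0
      · refine ⟨1, ?_, ?_⟩
        · have : ((1 : B.H) : G)⁻¹ * B.t * (1 : B.H) = B.t := by simp
          rw [this]; exact L.t_mem_Y
        · rw [hc, OneMemClass.coe_one, inv_one]
          exact L.ψ_W L.W.one_mem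
      · obtain ⟨i, hi⟩ := B.wt_surj (c * (L.β w)⁻¹) (mul_ne_zero hc (inv_ne_zero hβ))
        have hgi := (L.h_H i g⁻¹).1 (B.H.inv_mem hg)
        have e : (L.h i * g⁻¹ * (L.h i)⁻¹)⁻¹ * B.t * (L.h i * g⁻¹ * (L.h i)⁻¹) =
            (L.h i * w * (L.h i)⁻¹) * B.t := by
          have h1 := L.h_t i
          have h2 : (L.h i)⁻¹ * B.t = B.t * (L.h i)⁻¹ := by
            rw [inv_mul_eq_iff_eq_mul, ← mul_assoc, h1, mul_inv_cancel_right]
          calc (L.h i * g⁻¹ * (L.h i)⁻¹)⁻¹ * B.t * (L.h i * g⁻¹ * (L.h i)⁻¹)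
              = L.h i * g * ((L.h i)⁻¹ * B.t) * L.h i * g⁻¹ * (L.h i)⁻¹ := by group
            _ = L.h i * (g * B.t * g⁻¹) * (L.h i)⁻¹ := by rw [h2]; group
            _ = L.h i * w * (B.t * (L.h i)⁻¹) := by rw [h]; group
            _ = _ := by rw [← h2]; group
        refine ⟨⟨_, hgi⟩, ?_, ?_⟩
        · show (L.h i * g⁻¹ * (L.h i)⁻¹)⁻¹ * B.t * (L.h i * g⁻¹ * (L.h i)⁻¹) ∈ L.Y
          rw [e]
          right
          rw [mul_assoc, B.t_sq, mul_one]
          exact L.h_W i w hw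
        · show L.β (L.a (L.h i * g⁻¹ * (L.h i)⁻¹)⁻¹) = c
          rw [Lvl.a, inv_inv, e, mul_assoc, B.t_sq, mul_one, L.β_h i hw, hi,
            inv_mul_cancel_right₀ hβ]
    have hfib : ((Φ.filter (fun x => val x = c) : Finset X) : Set X) =
        MulAction.orbit K' (g1 : X) := by
      ext x
      obtain ⟨g2, rfl⟩ := QuotientGroup.mk_surjective x
      rw [Finset.mem_coe, Finset.mem_filter, Finset.mem_filter]
      constructor
      · rintro ⟨⟨-, h2⟩, h3⟩
        have h2' := (hfix g2).1 h2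
        have h3' : L.β (L.a (g2 : G)⁻¹) = c := by rw [← hval g2 h2']; exact h3
        have ha1 := mem_of_conj L g1.2 hg1 hk
        have ha2 := mem_of_conj L g2.2 h2' hk
        obtain ⟨v, hv, h4⟩ := L.β_eq_zero (L.W.mul_mem (L.W.inv_mem ha1) ha2) (by
          rw [L.β_mul (L.W.inv_mem ha1) ha2, L.β_inv ha1, hc, h3', CharTwo.add_self_eq_zero])
        have h5 : L.a (g2 : G)⁻¹ = L.a (g1 : G)⁻¹ * (v * v) := by rw [← h4]; group
        -- the element centralising `t`
        set x := (g2 : G) * v * (g1 : G)⁻¹ with hx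
        have hxH : x ∈ B.H := B.H.mul_mem (B.H.mul_mem g2.2 (L.W_le hv)) (B.H.inv_mem g1.2)
        have hxt : x * B.t = B.t * x := by
          have e1 : (g1 : G)⁻¹ * B.t * g1 = L.a (g1 : G)⁻¹ * B.t := by
            have := L.conj_t (g1 : G)⁻¹
            rwa [inv_inv] at this
          have e2 : (g2 : G)⁻¹ * B.t * g2 = L.a (g2 : G)⁻¹ * B.t := by
            have := L.conj_t (g2 : G)⁻¹
            rwa [inv_inv] at this
          have e3 : v * B.t = B.t * v⁻¹ := by
            have := L.inv' hv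
            calc v * B.t = (B.t * B.t) * v * B.t := by rw [B.t_sq, one_mul]
              _ = B.t * (B.t * v * B.t) := by group
              _ = _ := by rw [this]
          have e5 := L.comm v hv _ ha1
          -- `v (a₁ t) = (a₂ t) v`
          have e6 : v * (L.a (g1 : G)⁻¹ * B.t) = L.a (g2 : G)⁻¹ * B.t * v := by
            have e7 : B.t * v = v⁻¹ * B.t := by
              have := L.inv' hv
              calc B.t * v = B.t * v * (B.t * B.t) := by rw [B.t_sq, mul_one]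
                _ = (B.t * v * B.t) * B.t := by group
                _ = _ := by rw [this]
            calc v * (L.a (g1 : G)⁻¹ * B.t) = (v * L.a (g1 : G)⁻¹) * B.t := by group
              _ = L.a (g1 : G)⁻¹ * v * B.t := by rw [e5]
              _ = L.a (g1 : G)⁻¹ * (v * v) * (v⁻¹ * B.t) := by group
              _ = L.a (g2 : G)⁻¹ * (B.t * v) := by rw [← h5, e7]
              _ = _ := by group
          calc x * B.t = g2 * v * ((g1 : G)⁻¹ * B.t * g1) * (g1 : G)⁻¹ := by rw [hx]; group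
            _ = g2 * (v * (L.a (g1 : G)⁻¹ * B.t)) * (g1 : G)⁻¹ := by rw [e1]; group
            _ = g2 * ((g2 : G)⁻¹ * B.t * g2) * v * (g1 : G)⁻¹ := by rw [e6, e2]; group
            _ = B.t * x := by rw [hx]; group
        obtain ⟨b, κ, hκ, h6⟩ := B.dec x hxH hxt
        have hκH := B.K0_le hκ
        -- `κ • g1` is fixed by `t`
        have hκY : ((⟨κ, hκH⟩ * g1 : B.H) : G)⁻¹ * B.t * (⟨κ, hκH⟩ * g1 : B.H) ∈ L.Y := by
          have e1 : ((⟨κ, hκH⟩ * g1 : B.H) : G)⁻¹ * B.t * (⟨κ, hκH⟩ * g1 : B.H) =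
              (g1 : G)⁻¹ * B.t * g1 := by
            show (κ * (g1 : G))⁻¹ * B.t * (κ * g1) = _
            have e2 := B.K0_t κ hκ
            calc (κ * (g1 : G))⁻¹ * B.t * (κ * g1) = (g1 : G)⁻¹ * κ⁻¹ * (B.t * κ) * g1 := by group
              _ = _ := by rw [← e2]; group
          rw [e1]; exact hg1
        have hg2v : ((g2 * ⟨v, L.W_le hv⟩ : B.H) : X) = (g2 : X) := by
          rw [eq_comm, QuotientGroup.eq, Subgroup.mem_subgroupOf]
          show (g2 : G)⁻¹ * (g2 * v) ∈ L.Y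
          rw [inv_mul_cancel_left]
          exact L.W_le_Y hv
        have hz : ∀ (g : B.H), ((⟨B.z b, B.z_mem b⟩ * g : B.H) : X) = (g : X) := by
          intro g
          rw [eq_comm, QuotientGroup.eq, Subgroup.mem_subgroupOf]
          show (g : G)⁻¹ * (B.z b * g) ∈ L.Y
          rw [← B.z_cen g g.2 b, inv_mul_cancel_left]
          exact L.W_le_Y (L.z_mem b)
        refine ⟨⟨⟨κ, hκH⟩, Subgroup.mem_subgroupOf.2 hκ⟩, ?_⟩
        show ((⟨κ, hκH⟩ * g1 : B.H) : X) = (g2 : X)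
        rw [← hg2v]
        rcases h6 with h6 | h6
        · have e1 : g2 * ⟨v, L.W_le hv⟩ = ⟨B.z b, B.z_mem b⟩ * (⟨κ, hκH⟩ * g1) := Subtype.ext (by
            show (g2 : G) * v = B.z b * (κ * g1)
            rw [← mul_assoc, ← h6, hx]; group)
          rw [e1, hz]
        · have e1 : g2 * ⟨v, L.W_le hv⟩ = ⟨B.z b, B.z_mem b⟩ * (t' * (⟨κ, hκH⟩ * g1)) :=
            Subtype.ext (by
              show (g2 : G) * v = B.z b * (B.t * (κ * g1))
              have e2 := B.z_cen B.t B.t_mem b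
              calc (g2 : G) * v = x * g1 := by rw [hx]; group
                _ = (B.t * B.z b) * κ * g1 := by rw [h6]
                _ = _ := by rw [e2]; group)
          have e2 := (hfix (⟨κ, hκH⟩ * g1)).2 hκY
          rw [e1, hz]
          exact e2.symm
      · rintro ⟨⟨⟨κ, hκH⟩, hκ⟩, h2⟩
        rw [Subgroup.mem_subgroupOf] at hκ
        have h2' : ((⟨κ, hκH⟩ * g1 : B.H) : X) = (g2 : X) := h2
        have e1 : ((⟨κ, hκH⟩ * g1 : B.H) : G)⁻¹ * B.t * (⟨κ, hκH⟩ * g1 : B.H) =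
            (g1 : G)⁻¹ * B.t * g1 := by
          show (κ * (g1 : G))⁻¹ * B.t * (κ * g1) = _
          have e2 := B.K0_t κ hκ
          calc (κ * (g1 : G))⁻¹ * B.t * (κ * g1) = (g1 : G)⁻¹ * κ⁻¹ * (B.t * κ) * g1 := by group
            _ = _ := by rw [← e2]; group
        have hκY : ((⟨κ, hκH⟩ * g1 : B.H) : G)⁻¹ * B.t * (⟨κ, hκH⟩ * g1 : B.H) ∈ L.Y := by
          rw [e1]; exact hg1
        have e3 : L.a ((⟨κ, hκH⟩ * g1 : B.H) : G)⁻¹ = L.a (g1 : G)⁻¹ := by
          rw [Lvl.a, Lvl.a, inv_inv, inv_inv, e1]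
        show (((g2 : X) ∈ Finset.univ ∧ t' • (g2 : X) = (g2 : X)) ∧ val (g2 : X) = c)
        rw [← h2']
        exact ⟨⟨Finset.mem_univ _, (hfix _).2 hκY⟩, by rw [hval _ hκY, e3, hc]⟩
    have h7 : (Φ.filter (fun x => val x = c)).card = (MulAction.stabilizer K' (g1 : X)).index := by
      rw [MulAction.index_stabilizer, ← hfib, Set.ncard_coe_finset]
    rw [h7]
    exact hK'.of_dvd_nat (Subgroup.index_dvd_card _)
  rw [hsum, Finset.odd_sum_iff_odd_card_odd] at hΦ
  have h8 : Finset.univ.filter (fun c : F => Odd (Φ.filter (fun x => val x = c)).card) =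
      Finset.univ := Finset.filter_true_of_mem (fun c _ => hodd c)
  rw [h8, Finset.card_univ, ← Nat.card_eq_fintype_card] at hΦ
  exact (Nat.not_even_iff_odd.2 hΦ) hF

end Cfsg.Agent.StdU3.Tower.Count
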