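import Cfsg.Agent.StdU3.Next
import Cfsg.Agent.StdU3.Tower.Count

/-!
# The base of the tower from the first level (`gam = 1`)
-/

set_option autoImplicit false
set_option linter.unusedSectionVars false

namespace Cfsg.Agent.StdU3.Tower.GBase

open Cfsg.Agent.StdU3.Field Cfsg.Agent.StdU3.PreDef Cfsg.Agent.StdU3.LevelOne
open Cfsg.Agent.StdU3.LevelOneW Cfsg.Agent.StdU3.NormQ Cfsg.Agent.StdU3.Kernel
open Cfsg.Agent.StdU3.Next Cfsg.Agent.StdU3.Tower.Base

/-- the fixed field of `bar` -/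
def Fq (K : Type*) [Field K] [CharP K 2] (n : ℕ) : Subfield K where
  carrier := {x | bar n x = x}
  mul_mem' := fun ha hb => fixed_mul ha hb
  one_mem' := bar_one n
  add_mem' := fun ha hb => fixed_add ha hb
  zero_mem' := bar_zero n
  neg_mem' := fun {x} hx => by
    have : -x = x := CharTwo.neg_eq x
    rw [this]; exact hx
  inv_mem' := fun _ hx => fixed_inv hx

section
variable {K : Type*} [Field K] [CharP K 2] {n : ℕ}

theorem mem_Fq {x : K} : x ∈ Fq K n ↔ bar n x = x := Iff.rfl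

instance : CharP (Fq K n) 2 :=
  (Fq K n).subtype.charP_iff (Fq K n).subtype.injective 2 |>.2 inferInstance

end

variable {G : Type*} [Group G] [Finite G] {K : Type*} [Field K] [Fintype K] [CharP K 2] {n : ℕ}
variable {D : Pre G K n} {O : Subgroup G}

theorem exists_h_P (l : Kˣ) {x : G} (hx : x ∈ D.P) : ∃ y ∈ D.P, x = D.h l * y * (D.h l)⁻¹ := by
  have hf : Function.Injective
      (fun x : D.P => (⟨D.h l * x * (D.h l)⁻¹, D.h_P l x x.2⟩ : D.P)) := by
    intro a b hab
    have := congrArg Subtype.val hab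
    simp only [mul_left_inj, mul_right_inj] at this
    exact Subtype.ext this
  obtain ⟨y, hy⟩ := Finite.surjective_of_injective hf ⟨x, hx⟩
  exact ⟨y, y.2, (congrArg Subtype.val hy).symm⟩

theorem mem_H {g : G} : g ∈ Subgroup.centralizer (D.P : Set G) ↔ ∀ x ∈ D.P, x * g = g * x :=
  Subgroup.mem_centralizer_iff

/-- `Z(P) = Z` -/
theorem cent_P {p : G} (hp : p ∈ D.P) (h : ∀ x ∈ D.P, x * p = p * x) :
    ∃ b, bar n b = b ∧ p = D.z b := by
  apply D.exists_z p hp
  apply eq_zero_of_Tr D.hq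
  intro y
  obtain ⟨x, hx, rfl⟩ := D.ca_surj y
  have h1 := D.P_comm p hp x hx
  rw [h x hx] at h1
  exact D.z_inj _ (fixed_Tr D.hq _) (right_eq_mul.1 h1)

/-- the base of the tower -/
noncomputable def hb (hO : Amb D O) : HB G (Fq K n) Kˣ where
  H := Subgroup.centralizer (D.P : Set G)
  z := fun b => D.z b
  z_add := fun b c => D.z_add b c
  z_inj := fun b h => Subtype.ext (D.z_inj b b.2 h)
  z_mem := fun b => mem_H.2 fun x hx => D.Q_Z x (D.P_le hx) b
  z_cen := fun g hg b => (mem_H.1 hg _ (D.z_mem b)).symm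
  t := D.t
  t_mem := mem_H.2 fun x hx => (D.t_P x hx).symm
  t_sq := D.t_sq
  t_not := fun b h => t_ne_z D b h.symm
  K0 := O
  K0_odd := hO.odd
  K0_le := fun k hk => mem_H.2 fun x hx => (hO.O_P k hk x hx).symm
  K0_t := hO.O_t
  dec := by
    intro g hg hgt
    have hg' := mem_H.1 hg
    obtain ⟨x, hx, k, hk, h⟩ := hO.dec g hgt (fun x hx => by
      rw [← hg' x hx, mul_inv_cancel_right]; exact ⟨hx, rfl⟩)
    have hxe : x = g * k⁻¹ := by rw [h]; group
    have hkt := hO.O_t k hk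
    have hkt' : k⁻¹ * D.t = D.t * k⁻¹ := by
      rw [inv_mul_eq_iff_eq_mul, ← mul_assoc, hkt, mul_inv_cancel_right]
    have hxt : x * D.t = D.t * x := by
      rw [hxe, mul_assoc, hkt', ← mul_assoc, hgt, mul_assoc]
    have hxP : ∀ y ∈ D.P, y * x = x * y := by
      intro y hy
      have h1 := hO.O_P k hk y hy
      have h2 : y * k⁻¹ = k⁻¹ * y := by
        rw [eq_inv_mul_iff_mul_eq, ← mul_assoc, h1, mul_inv_cancel_right]
      rw [hxe, ← mul_assoc, hg' y hy, mul_assoc, h2, mul_assoc]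
    rcases D.Q_T x hx hxt with h1 | h1
    · obtain ⟨b, hb, hbe⟩ := cent_P h1 hxP
      exact ⟨⟨b, hb⟩, k, hk, Or.inl (by rw [h, hbe])⟩
    · obtain ⟨b, hb, hbe⟩ := cent_P h1 (fun y hy => by
        rw [← mul_assoc, hxP y hy, mul_assoc, ← D.t_P y hy, mul_assoc])
      refine ⟨⟨b, hb⟩, k, hk, Or.inr ?_⟩
      show g = D.t * D.z b * k
      rw [h, ← hbe, hxt, ← mul_assoc, D.t_sq, one_mul]
  h := D.h
  wt := fun l => ⟨N n (l : K), fixed_N D.hq _⟩
  h_H := by
    intro l g
    constructor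
    · intro hg
      rw [mem_H] at hg ⊢
      intro x hx
      obtain ⟨y, hy, rfl⟩ := exists_h_P l hx
      calc D.h l * y * (D.h l)⁻¹ * (D.h l * g * (D.h l)⁻¹) = D.h l * (y * g) * (D.h l)⁻¹ := by group
        _ = _ := by rw [hg y hy]; group
    · intro hg
      rw [mem_H] at hg ⊢
      intro x hx
      have h1 := hg _ (D.h_P l x hx)
      have h2 : D.h l * (x * g) * (D.h l)⁻¹ = D.h l * (g * x) * (D.h l)⁻¹ := by
        calc D.h l * (x * g) * (D.h l)⁻¹ = D.h l * x * (D.h l)⁻¹ * (D.h l * g * (D.h l)⁻¹) := by group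
          _ = _ := by rw [h1]; group
      exact mul_left_cancel (mul_right_cancel h2)
  h_t := fun l => (D.t_h l).symm
  h_z := fun l b => h_z D l b.2
  h_e := by
    intro i j
    rw [mem_H]
    intro x hx
    have h1 := D.h_mul i j x (D.P_le hx)
    have h2 : (D.h (i * j))⁻¹ * (D.h i * D.h j) * x * ((D.h (i * j))⁻¹ * (D.h i * D.h j))⁻¹ = x := by
      have e : (D.h (i * j))⁻¹ * (D.h i * D.h j) * x * ((D.h (i * j))⁻¹ * (D.h i * D.h j))⁻¹ =
        (D.h (i * j))⁻¹ * (D.h i * (D.h j * x * (D.h j)⁻¹) * (D.h i)⁻¹) * D.h (i * j) := by group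
      rw [e, ← h1]; group
    exact (mul_inv_eq_iff_eq_mul.1 h2).symm
  wt_surj := by
    rintro ⟨ν, hν⟩ hν0
    obtain ⟨x, hx⟩ := exists_norm D.hq hν
    have hx0 : x ≠ 0 := by
      rintro rfl
      apply hν0
      apply Subtype.ext
      show ν = 0
      rw [← hx, N_zero]
    exact ⟨Units.mk0 x hx0, Subtype.ext hx⟩

/-- the first level -/
noncomputable def lvl (hO : Amb D O) (hg : gam D = 1) : Lvl (hb hO) 1 where
  W := W D
  W_le := fun y hy => mem_H.2 fun x hx => P_W_comm D hx hy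
  comm := fun x hx y hy => W_comm D hx hy
  inv := by
    intro x hx
    show D.t * x * D.t⁻¹ = x⁻¹
    have h1 := W_sq D hx
    rw [hg, one_mul] at h1
    rw [t_conj D (W_le D hx), eq_comm, inv_eq_iff_mul_eq_one, ← mul_assoc, D.Q_Z x (W_le D hx),
      mul_assoc, h1, z_self]
  z_mem := fun b => z_mem_W D b
  pw := by
    intro x hx
    have h1 := W_sq D hx
    rw [hg, one_mul] at h1
    exact ⟨⟨u D x, u_fixed D (W_le D hx)⟩, by rw [pow_one, pow_two]; exact h1⟩
  pw_surj := by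
    rintro ⟨u0, hu⟩
    obtain ⟨y, hy, h1⟩ := W_surj D hu
    have h2 := W_sq D hy
    rw [hg, one_mul, h1] at h2
    exact ⟨y, hy, by rw [pow_one, pow_two]; exact h2⟩
  pw_ker := by
    intro x hx h
    rw [pow_one, pow_two, W_sq D hx, hg, one_mul] at h
    obtain ⟨b, hb, h1⟩ := z_of_W D hx (D.z_inj _ (u_fixed D (W_le D hx)) h)
    obtain ⟨y, hy, h2⟩ := W_surj D hb
    exact ⟨y, hy, by rw [W_sq D hy, hg, one_mul, h2, h1]⟩
  h := D.h
  h_eq := fun l => ⟨1, O.one_mem, (one_mul _).symm⟩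
  h_W := fun l x hx => W_h D l hx
  h_mul := fun i j x hx => D.h_mul i j x (W_le D hx)

end Cfsg.Agent.StdU3.Tower.GBase
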