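import Cfsg.Agent.StdU3.Next
import Cfsg.Agent.StdU3.TermDef

/-!
# The terminal group of the tower: `U = P M`, `[P, M] = 1`

`Cen D O`: the common data; `Ab`: `M` abelian (homocyclic); `Cl`: `M` of class two, `|M| = q³`.
-/

set_option autoImplicit false
set_option linter.unusedSectionVars false
set_option linter.dupNamespace false

namespace Cfsg.Agent.StdU3.Tower.Cen

open Cfsg.Agent.StdU3.Field Cfsg.Agent.StdU3.PreDef Cfsg.Agent.StdU3.LevelOne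
open Cfsg.Agent.StdU3.LevelOneW Cfsg.Agent.StdU3.Next Cfsg.Agent.StdU3.TermDef

variable {G : Type*} [Group G] {K : Type*} [Field K] [Fintype K] [CharP K 2] {n : ℕ}

/-- the data of the terminal group `U = P M` of the tower. -/
structure Cen (D : Pre G K n) (O : Subgroup G) where
  M : Subgroup G
  M_two : IsPGroup 2 M
  M_P : ∀ m ∈ M, ∀ p ∈ D.P, m * p = p * m
  z_mem : ∀ b, D.z b ∈ M
  cm_mem : ∀ x ∈ M, ∀ y ∈ M, ∃ b, bar n b = b ∧ x * y * x⁻¹ * y⁻¹ = D.z b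
  t_not : D.t ∉ M
  t_conj : ∀ m ∈ M, D.t * m * D.t⁻¹ ∈ M
  t_comm : ∀ m ∈ M, m * D.t = D.t * m → ∃ b, bar n b = b ∧ m = D.z b
  /-- the torus -/
  h : Kˣ → G
  h_eq : ∀ l, ∃ c ∈ O, h l = c * D.h l
  h_M : ∀ l, ∀ m ∈ M, h l * m * (h l)⁻¹ ∈ M
  h_mul : ∀ l l', ∀ m ∈ M, h (l * l') * m * (h (l * l'))⁻¹ = h l * (h l' * m * (h l')⁻¹) * (h l)⁻¹
  /-- elements of `O` normalising `M` centralise `M` -/
  O_M : ∀ o ∈ O, (∀ m ∈ M, o * m * o⁻¹ ∈ M) → ∀ m ∈ M, o * m = m * o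

/-- the case `M` abelian: `M` is homocyclic of exponent `2 ^ (k + 1)`, `Ω₁(M) = Z`. -/
structure Ab {D : Pre G K n} {O : Subgroup G} (C : Cen D O) where
  comm : ∀ x ∈ C.M, ∀ y ∈ C.M, x * y = y * x
  k : ℕ
  hk : 1 ≤ k
  pw : ∀ x ∈ C.M, ∃ u, bar n u = u ∧ x ^ 2 ^ k = D.z u
  pw_surj : ∀ u, bar n u = u → ∃ x ∈ C.M, x ^ 2 ^ k = D.z u
  pw_ker : ∀ x ∈ C.M, x ^ 2 ^ k = 1 → ∃ y ∈ C.M, x = y * y

/-- the case `M` of class two: `W < M`, `M / Z` elementary abelian of order `q²`;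
`e : M → F_q`, kernel `W`, `u : W → F_q`, kernel `Z`. -/
structure Cl {D : Pre G K n} {O : Subgroup G} (C : Cen D O) where
  W : Subgroup G
  W_le : W ≤ C.M
  W_comm : ∀ x ∈ W, ∀ y ∈ W, x * y = y * x
  z_W : ∀ b, D.z b ∈ W
  h_W : ∀ l, ∀ w ∈ W, C.h l * w * (C.h l)⁻¹ ∈ W
  u : G → K
  u_fixed : ∀ w ∈ W, bar n (u w) = u w
  u_mul : ∀ w ∈ W, ∀ w' ∈ W, u (w * w') = u w + u w'
  u_surj : ∀ c, bar n c = c → ∃ w ∈ W, u w = c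
  u_ker : ∀ w ∈ W, u w = 0 → ∃ b, bar n b = b ∧ w = D.z b
  u_h : ∀ l, ∀ w ∈ W, u (C.h l * w * (C.h l)⁻¹) = N n (l : K) * u w
  W_sq : ∀ w ∈ W, w * w = D.z (u w)
  W_inv : ∀ w ∈ W, D.t * w * D.t⁻¹ = w⁻¹
  e : G → K
  e_fixed : ∀ m ∈ C.M, bar n (e m) = e m
  e_mul : ∀ m ∈ C.M, ∀ m' ∈ C.M, e (m * m') = e m + e m'
  e_surj : ∀ c, bar n c = c → ∃ m ∈ C.M, e m = c
  e_ker : ∀ m ∈ C.M, (e m = 0 ↔ m ∈ W)
  e_h : ∀ l, ∀ m ∈ C.M, e (C.h l * m * (C.h l)⁻¹) = N n (l : K) * e m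
  /-- `a m = [m, t]` is in `W` and `u (a m) = e m` -/
  a_mem : ∀ m ∈ C.M, m * D.t * m⁻¹ * D.t ∈ W
  u_a : ∀ m ∈ C.M, u (m * D.t * m⁻¹ * D.t) = e m
  sq : ∀ m ∈ C.M, ∃ b, bar n b = b ∧ m * m = D.z b
  cm_eq : ∀ m ∈ C.M, ∀ w ∈ W, ∀ c, bar n c = c → m * w * m⁻¹ * w⁻¹ = D.z c → c * c = e m * u w

/-! ### the group `U = P M` -/

variable {D : Pre G K n} {O : Subgroup G} (C : Cen D O)

/-- `U = P M` -/
def U : Subgroup G where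
  carrier := {g | ∃ p ∈ D.P, ∃ m ∈ C.M, g = p * m}
  one_mem' := ⟨1, D.P.one_mem, 1, C.M.one_mem, by rw [mul_one]⟩
  mul_mem' := by
    rintro _ _ ⟨p, hp, m, hm, rfl⟩ ⟨p', hp', m', hm', rfl⟩
    refine ⟨p * p', mul_mem hp hp', m * m', mul_mem hm hm', ?_⟩
    have h1 := C.M_P m hm p' hp'
    calc p * m * (p' * m') = p * (m * p') * m' := by group
      _ = _ := by rw [h1]; group
  inv_mem' := by
    rintro _ ⟨p, hp, m, hm, rfl⟩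
    refine ⟨p⁻¹, inv_mem hp, m⁻¹, inv_mem hm, ?_⟩
    rw [mul_inv_rev, C.M_P _ (inv_mem hm) _ (inv_mem hp)]

theorem mem_U {g : G} : g ∈ U C ↔ ∃ p ∈ D.P, ∃ m ∈ C.M, g = p * m := Iff.rfl

theorem P_le : D.P ≤ U C := fun p hp => ⟨p, hp, 1, C.M.one_mem, by rw [mul_one]⟩

theorem M_le : C.M ≤ U C := fun m hm => ⟨1, D.P.one_mem, m, hm, by rw [one_mul]⟩

/-- `P ∩ M = Z` -/
theorem P_M {x : G} (hx : x ∈ D.P) (hm : x ∈ C.M) : ∃ b, bar n b = b ∧ x = D.z b :=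
  C.t_comm x hm (D.t_P x hx).symm

/-- `Z(P) = Z` -/
theorem cent_P {p : G} (hp : p ∈ D.P) (h : ∀ x ∈ D.P, p * x = x * p) :
    ∃ b, bar n b = b ∧ p = D.z b := by
  apply D.exists_z p hp
  apply eq_zero_of_Tr D.hq
  intro y
  obtain ⟨x, hx, rfl⟩ := D.ca_surj y
  have h1 := D.P_comm p hp x hx
  rw [h x hx] at h1
  exact D.z_inj _ (fixed_Tr D.hq _) (right_eq_mul.1 h1)

/-- `C_U(P) = M` -/
theorem mem_M {g : G} (hg : g ∈ U C) (h : ∀ x ∈ D.P, g * x = x * g) : g ∈ C.M := by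
  obtain ⟨p, hp, m, hm, rfl⟩ := hg
  obtain ⟨b, -, rfl⟩ := cent_P hp (fun x hx => by
    have h1 := h x hx
    have h2 := C.M_P m hm x hx
    have h3 : p * x * m = x * p * m := by
      rw [mul_assoc, ← h2, ← mul_assoc, h1, mul_assoc]
    exact mul_right_cancel h3)
  exact mul_mem (C.z_mem b) hm

theorem z_comm_M (b : K) {m : G} (hm : m ∈ C.M) : m * D.z b = D.z b * m :=
  C.M_P m hm _ (D.z_mem b)

theorem z_comm_P (b : K) {p : G} (hp : p ∈ D.P) : p * D.z b = D.z b * p := by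
  have h1 := D.P_comm p hp _ (D.z_mem b)
  rw [D.ca_z, bar_zero, mul_zero, Tr_zero, z_zero, one_mul] at h1
  exact h1

theorem z_comm_U (b : K) {g : G} (hg : g ∈ U C) : g * D.z b = D.z b * g := by
  obtain ⟨p, hp, m, hm, rfl⟩ := hg
  rw [mul_assoc, z_comm_M C b hm, ← mul_assoc, z_comm_P b hp, mul_assoc]

theorem cmt_P {p p' : G} (hp : p ∈ D.P) (hp' : p' ∈ D.P) :
    p * p' * p⁻¹ * p'⁻¹ = D.z (Tr n (D.ca p * bar n (D.ca p'))) := by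
  rw [D.P_comm p hp p' hp']; group

/-- the commutators of `U` -/
theorem cmt_U {p p' m m' : G} (hp : p ∈ D.P) (hp' : p' ∈ D.P) (hm : m ∈ C.M) (hm' : m' ∈ C.M) :
    (p * m) * (p' * m') * (p * m)⁻¹ * (p' * m')⁻¹ =
      (p * p' * p⁻¹ * p'⁻¹) * (m * m' * m⁻¹ * m'⁻¹) := by
  have h1 := C.M_P m hm p' hp'
  have h2 := C.M_P _ (mul_mem hm hm') _ (inv_mem hp)
  have h3 := C.M_P _ (mul_mem (mul_mem hm hm') (inv_mem hm)) _ (inv_mem hp')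
  have h4 : (p * m)⁻¹ = p⁻¹ * m⁻¹ := by rw [mul_inv_rev, C.M_P _ (inv_mem hm) _ (inv_mem hp)]
  have h5 : (p' * m')⁻¹ = p'⁻¹ * m'⁻¹ := by rw [mul_inv_rev, C.M_P _ (inv_mem hm') _ (inv_mem hp')]
  rw [h4, h5]
  calc p * m * (p' * m') * (p⁻¹ * m⁻¹) * (p'⁻¹ * m'⁻¹)
      = p * (m * p') * m' * p⁻¹ * m⁻¹ * p'⁻¹ * m'⁻¹ := by group
    _ = p * p' * ((m * m') * p⁻¹) * m⁻¹ * p'⁻¹ * m'⁻¹ := by rw [h1]; group
    _ = p * p' * p⁻¹ * ((m * m' * m⁻¹) * p'⁻¹) * m'⁻¹ := by rw [h2]; group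
    _ = _ := by rw [h3]; group

theorem cmt_mem {x y : G} (hx : x ∈ U C) (hy : y ∈ U C) :
    ∃ b, bar n b = b ∧ x * y * x⁻¹ * y⁻¹ = D.z b := by
  obtain ⟨p, hp, m, hm, rfl⟩ := hx
  obtain ⟨p', hp', m', hm', rfl⟩ := hy
  obtain ⟨b, hb, h⟩ := C.cm_mem m hm m' hm'
  exact ⟨_, fixed_add (fixed_Tr D.hq _) hb, by rw [cmt_U C hp hp' hm hm', cmt_P hp hp', h, D.z_add]⟩

theorem class_two {x y g : G} (hx : x ∈ U C) (hy : y ∈ U C) (hg : g ∈ U C) :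
    (x * y * x⁻¹ * y⁻¹) * g = g * (x * y * x⁻¹ * y⁻¹) := by
  obtain ⟨b, -, h⟩ := cmt_mem C hx hy
  rw [h, z_comm_U C b hg]

theorem t_not_U : D.t ∉ U C := by
  rintro ⟨p, hp, m, hm, h⟩
  have h1 : ∀ x ∈ D.P, p * x = x * p := by
    intro x hx
    have h2 := C.M_P m hm x hx
    have h3 := D.t_P x hx
    have h4 : p * x * m = x * p * m := by
      rw [mul_assoc, ← h2, ← mul_assoc, ← h, h3, h, mul_assoc]
    exact mul_right_cancel h4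
  obtain ⟨b, -, rfl⟩ := cent_P hp h1
  exact C.t_not (by rw [h]; exact mul_mem (C.z_mem b) hm)

theorem t_U {g : G} (hg : g ∈ U C) : D.t * g * D.t⁻¹ ∈ U C := by
  obtain ⟨p, hp, m, hm, rfl⟩ := hg
  refine ⟨p, hp, D.t * m * D.t⁻¹, C.t_conj m hm, ?_⟩
  rw [← mul_assoc, D.t_P p hp]; group

theorem comm_t {g : G} (hg : g ∈ U C) (h : g * D.t = D.t * g) : g ∈ D.P := by
  obtain ⟨p, hp, m, hm, rfl⟩ := hg
  have h1 : m * D.t = D.t * m := by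
    have h2 : p * (m * D.t) = p * (D.t * m) := by
      rw [← mul_assoc, h, ← mul_assoc, ← mul_assoc, D.t_P p hp]
    exact mul_left_cancel h2
  obtain ⟨b, -, rfl⟩ := C.t_comm m hm h1
  exact mul_mem hp (D.z_mem b)

theorem U_two : IsPGroup 2 (U C) := by
  rintro ⟨g, hg⟩
  obtain ⟨p, hp, m, hm, rfl⟩ := hg
  obtain ⟨j, hj⟩ := C.M_two ⟨m, hm⟩
  have hj' : m ^ 2 ^ j = 1 := congrArg Subtype.val hj
  refine ⟨j + 2, Subtype.ext ?_⟩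
  show (p * m) ^ 2 ^ (j + 2) = 1
  have hc : Commute p m := (C.M_P m hm p hp).symm
  have h1 : p ^ 4 = 1 := by
    have : p ^ 4 = (p * p) * (p * p) := by
      rw [show (4 : ℕ) = 2 * 2 from rfl, pow_mul, pow_two, pow_two]
    rw [this, D.P_sq p hp, z_self]
  rw [hc.mul_pow]
  have h2 : p ^ 2 ^ (j + 2) = 1 := by
    rw [pow_add, mul_comm, pow_mul, show (2 : ℕ) ^ 2 = 4 from rfl, h1, one_pow]
  have h3 : m ^ 2 ^ (j + 2) = 1 := by rw [pow_add, pow_mul, hj', one_pow]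
  rw [h2, h3, one_mul]

/-- assembly of `Term` -/
def term (two : ∀ v ∈ U C, v * v = 1 → (∀ b, v ≠ D.z b) →
    ∃ C' : Subgroup G, C' ≤ U C ∧ (∀ c ∈ C', c * v = v * c) ∧ (2 ^ n) ^ 3 ≤ Nat.card C' ∧
      ∃ B : Subgroup G, B ≤ C' ∧ (∀ b ∈ B, b * b = 1) ∧ (∀ b ∈ B, ∀ c ∈ C', b * c = c * b) ∧
        (2 ^ n) ^ 2 ≤ Nat.card B)
    (three : ∀ g ∈ U C, (g * D.t) * (g * D.t) = 1 →
      (∃ y ∈ U C, y * D.t * y⁻¹ = g * D.t) ∨ (∀ y : G, y * D.t * y⁻¹ ≠ g * D.t))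
    (four : ∀ x, x * D.t = D.t * x → x * x = 1 →
      (∃ c, ∀ p ∈ D.P, x * p * x⁻¹ ∈ D.P ∧ D.ca (x * p * x⁻¹) = c * bar n (D.ca p)) →
      (∀ g ∈ U C, x * g * x⁻¹ ∈ U C) →
      ∀ g ∈ U C, (g * x) * (g * x) = 1 →
        (∃ y ∈ U C, y * x * y⁻¹ = g * x) ∨
        ∃ B : Subgroup G, B ≤ U C ∧ (∀ b ∈ B, b * b = 1) ∧ (∀ b ∈ B, b * (g * x) = (g * x) * b) ∧
          (∀ b ∈ B, ∀ c ∈ B, b * c = c * b) ∧ g * x ∉ B ∧ (2 ^ n) ^ 2 ≤ Nat.card B) : Term D where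
  U := U C
  U_two := U_two C
  P_le := P_le C
  class_two := fun _ hx _ hy _ hg => class_two C hx hy hg
  t_not := t_not_U C
  t_conj := fun _ hg => t_U C hg
  comm_t := fun _ hg h => comm_t C hg h
  two := two
  three := three
  four := four

end Cfsg.Agent.StdU3.Tower.Cen
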