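import Cfsg.Agent.StdU3.LevelOneD

/-!
# Subgroups of `C(d)` of order `2 q³` with the commutator structure of `P ⟨t⟩`

Generalisation of the argument of `LevelOneD` (helper342): `d` a conjugate of `t`, `T' ≤ C(d)` a
`2`-group of order at least `2 q³` whose squares and commutators are in `Z ≤ Z(T')`.  Then `T'` is
conjugate to `P ⟨t⟩`.
-/

set_option autoImplicit false
set_option linter.unusedSectionVars false

namespace Cfsg.Agent.StdU3.Tower.ConjT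

open Cfsg.Agent.StdU3.Field Cfsg.Agent.StdU3.PreDef Cfsg.Agent.StdU3.LevelOne
open Cfsg.Agent.StdU3.LevelOneW Cfsg.Agent.StdU3.NormQ Cfsg.Agent.StdU3.Kernel
open Cfsg.Agent.StdU3.Next Cfsg.Agent.StdU3.LevelOneD

variable {G : Type*} [Group G] {K : Type*} [Field K] [Fintype K] [CharP K 2] {n : ℕ}
variable {D : Pre G K n}

/-- the structure of `P ⟨t⟩` -/
structure TT (D : Pre G K n) (T' : Subgroup G) : Prop where
  z_mem : ∀ b, D.z b ∈ T'
  z_cen : ∀ k ∈ T', ∀ b, k * D.z b = D.z b * k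
  cmt : ∀ k ∈ T', ∀ l ∈ T', ∃ b, bar n b = b ∧ k * l * k⁻¹ * l⁻¹ = D.z b
  sq : ∀ k ∈ T', ∃ b, bar n b = b ∧ k * k = D.z b
  z_cmt : ∀ b, bar n b = b → ∃ k ∈ T', ∃ l ∈ T', D.z b = k * l * k⁻¹ * l⁻¹
  card : 2 * (2 ^ n) ^ 3 ≤ Nat.card T'

variable {Sig : Subgroup G} (F : Fl D Sig) {T' : Subgroup G} (X : TT D T') {m : G}
  (hm : ∀ k ∈ T', m * k * m⁻¹ ∈ Sig)

include F X hm in
theorem tau_z (b : K) : tau D (m * D.z b * m⁻¹) = 1 := by
  obtain ⟨b', hb', hbb⟩ := z_fixed D b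
  obtain ⟨k, hk, l, hl, h⟩ := X.z_cmt b' hb'
  rw [hbb, h]
  have e1 : m * (k * l * k⁻¹ * l⁻¹) * m⁻¹ =
      (m * k * m⁻¹) * (m * l * m⁻¹) * (m * k * m⁻¹)⁻¹ * (m * l * m⁻¹)⁻¹ := by group
  have h1 := hm k hk
  have h2 := hm l hl
  rw [e1, tau_mul F (mul_mem (mul_mem h1 h2) (inv_mem h1)) (inv_mem h2),
    tau_mul F (mul_mem h1 h2) (inv_mem h1), tau_mul F h1 h2, tau_inv F h1, tau_inv F h2,
    FieldAut.comm (tau D (m * k * m⁻¹))]
  group

include F X hm in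
theorem tau_sq {k : G} (hk : k ∈ T') :
    tau D (m * k * m⁻¹) * tau D (m * k * m⁻¹) = 1 := by
  obtain ⟨b, -, h⟩ := X.sq k hk
  rw [← tau_mul F (hm k hk) (hm k hk), ← NormQ.conj_mul, h, tau_z F X hm]

include F X hm in
/-- the Galois component is trivial on `m (T d) m⁻¹`. -/
theorem tau_eq_one [Finite G] {k1 : G} (hk1 : k1 ∈ T') : tau D (m * k1 * m⁻¹) = 1 := by
  classical
  by_contra hne
  have hbar : ∀ k ∈ T', tau D (m * k * m⁻¹) ≠ 1 →
      tau D (m * k * m⁻¹) = tau D (m * k1 * m⁻¹) := by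
    intro k hk h
    rw [FieldAut.eq_bar D.hq (tau_sq F X hm hk) h,
      FieldAut.eq_bar D.hq (tau_sq F X hm hk1) hne]
  -- the kernel
  let H : Subgroup G :=
    { carrier := {k | k ∈ T' ∧ tau D (m * k * m⁻¹) = 1}
      mul_mem' := by
        rintro x y ⟨hx, hx1⟩ ⟨hy, hy1⟩
        refine ⟨mul_mem hx hy, ?_⟩
        rw [NormQ.conj_mul, tau_mul F (hm x hx) (hm y hy), hx1, hy1, mul_one]
      one_mem' := ⟨one_mem _, by
        have : m * 1 * m⁻¹ = 1 := by group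
        rw [this, tau_one F]⟩
      inv_mem' := by
        rintro x ⟨hx, hx1⟩
        refine ⟨inv_mem hx, ?_⟩
        have : m * x⁻¹ * m⁻¹ = (m * x * m⁻¹)⁻¹ := by group
        rw [this, tau_inv F (hm x hx), hx1, inv_one] }
  have hHT : H ≤ T' := fun x hx => hx.1
  have hHmem : ∀ k ∈ H, m * k * m⁻¹ ∈ T D D.t := fun k hk =>
    mem_Tt.mpr (mem_of_tau F (hm k hk.1) hk.2)
  -- index at most two
  have hidx : Nat.card (T') ≤ 2 * Nat.card H := by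
    have h1 : ((T' : Subgroup G) : Set G) ⊆ (H : Set G) ∪ (fun x => k1 * x) '' (H : Set G) := by
      intro k hk
      by_cases h : tau D (m * k * m⁻¹) = 1
      · left; exact ⟨hk, h⟩
      · right
        refine ⟨k1⁻¹ * k, ⟨mul_mem (inv_mem hk1) hk, ?_⟩, by group⟩
        have e1 : m * (k1⁻¹ * k) * m⁻¹ = (m * k1 * m⁻¹)⁻¹ * (m * k * m⁻¹) := by group
        rw [e1, tau_mul F (inv_mem (hm k1 hk1)) (hm k hk), tau_inv F (hm k1 hk1), hbar k hk h]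
        group
    have h2 := Set.ncard_le_ncard h1 (Set.toFinite _)
    have h3 := Set.ncard_union_le (H : Set G) ((fun x => k1 * x) '' (H : Set G))
    have h4 := Set.ncard_image_le (f := fun x => k1 * x) (Set.toFinite (H : Set G))
    have h5 : ((T' : Subgroup G) : Set G).ncard = Nat.card (T') := rfl
    have h6 : (H : Set G).ncard = Nat.card H := rfl
    omega
  have hT := X.card
  have hH : (2 ^ n) ^ 3 ≤ Nat.card H := by omega
  -- the image of `H` in `K`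
  let B : AddSubgroup K :=
    { carrier := {c | ∃ k ∈ H, a D (m * k * m⁻¹) = c}
      add_mem' := by
        rintro x y ⟨k, hk, rfl⟩ ⟨l, hl, rfl⟩
        refine ⟨k * l, mul_mem hk hl, ?_⟩
        rw [NormQ.conj_mul, a_mul D (mem_T.mp (hHmem k hk)).1 (mem_T.mp (hHmem l hl)).1]
      zero_mem' := ⟨1, one_mem _, by
        have : m * 1 * m⁻¹ = 1 := by group
        rw [this, a_one]⟩
      neg_mem' := by
        rintro x ⟨k, hk, rfl⟩
        exact ⟨k, hk, (CharTwo.neg_eq _).symm⟩ }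
  let H' : Subgroup G := H.map (MulAut.conj m).toMonoidHom
  have hH'card : Nat.card H' = Nat.card H := Subgroup.card_map_of_injective (MulAut.conj m).injective
  have hH' : ∀ x ∈ H', ∃ k ∈ H, m * k * m⁻¹ = x := by
    rintro _ ⟨k, hk, rfl⟩
    exact ⟨k, hk, rfl⟩
  have hBcard : (2 ^ n) ^ 3 ≤ 2 * 2 ^ n * Nat.card B := by
    refine hH.trans ?_
    rw [← hH'card, ← card_Zt (D := D)]
    apply Card.card_le_of_hom H' (Zt D) (a D) B
    · intro x hx y hy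
      obtain ⟨k, hk, rfl⟩ := hH' x hx
      obtain ⟨l, hl, rfl⟩ := hH' y hy
      exact a_mul D (mem_T.mp (hHmem k hk)).1 (mem_T.mp (hHmem l hl)).1
    · intro x hx h0
      obtain ⟨k, hk, rfl⟩ := hH' x hx
      exact ⟨hHmem k hk, h0⟩
    · intro x hx
      obtain ⟨k, hk, rfl⟩ := hH' x hx
      exact ⟨k, hk, rfl⟩
  have hq := four_le D.hq
  have hBgt : 2 ^ n < (B : Set K).ncard := by
    have h1 : (B : Set K).ncard = Nat.card B := rfl
    rw [h1]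
    have h2 : (2 ^ n) ^ 3 = 2 * 2 ^ n * (2 ^ n * 2 ^ n / 2) := by
      have h4 : 2 ∣ 2 ^ n * 2 ^ n := by
        have : 2 ∣ 2 ^ n := dvd_pow_self 2 (by have := D.hq.hn; omega)
        exact Dvd.dvd.mul_left this _
      have h5 := Nat.mul_div_cancel' h4
      calc (2 ^ n) ^ 3 = 2 ^ n * (2 ^ n * 2 ^ n) := by ring
        _ = 2 ^ n * (2 * (2 ^ n * 2 ^ n / 2)) := by rw [h5]
        _ = _ := by ring
    rw [h2] at hBcard
    have h3 := Nat.le_of_mul_le_mul_left hBcard (by positivity)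
    have h6 : 2 ^ n < 2 ^ n * 2 ^ n / 2 := by
      have : 2 ^ n * 4 ≤ 2 ^ n * 2 ^ n := Nat.mul_le_mul_left _ hq
      omega
    omega
  -- the conjugates of `Z`
  have hz : ∀ b, m * D.z b * m⁻¹ ∈ T D D.t ∧ a D (m * D.z b * m⁻¹) = 0 := by
    intro b
    have h1 : m * D.z b * m⁻¹ ∈ T D D.t :=
      mem_Tt.mpr (mem_of_tau F (hm _ (X.z_mem b)) (tau_z F X hm b))
    refine ⟨h1, ?_⟩
    by_contra h0
    -- `B` is contained in a line
    have h2 : ∀ c ∈ B, bar n (c / a D (m * D.z b * m⁻¹)) = c / a D (m * D.z b * m⁻¹) := by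
      rintro c ⟨k, hk, rfl⟩
      have h3 := cmt_Tt h1 (hHmem k hk)
      have h4 : m * D.z b * m⁻¹ * (m * k * m⁻¹) * (m * D.z b * m⁻¹)⁻¹ * (m * k * m⁻¹)⁻¹ = 1 := by
        have h5 := X.z_cen k hk.1 b
        have e1 : m * D.z b * m⁻¹ * (m * k * m⁻¹) * (m * D.z b * m⁻¹)⁻¹ * (m * k * m⁻¹)⁻¹ =
          m * (D.z b * k * (k * D.z b)⁻¹) * m⁻¹ := by group
        rw [e1, h5]; group
      rw [h4] at h3
      have h5 := D.z_inj _ (fixed_Tr D.hq _) h3.symm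
      exact fixed_div_of_Tr D.hq h5 h0
    have h3 : (fun c => c / a D (m * D.z b * m⁻¹)) '' (B : Set K) ⊆
        ((Card.Fq K n : AddSubgroup K) : Set K) := by
      rintro _ ⟨c, hc, rfl⟩
      exact h2 c hc
    have h4 := Set.ncard_le_ncard h3 (Set.toFinite _)
    rw [Set.ncard_image_of_injective _ (fun x y hxy => by
      have hxy' : x / a D (m * D.z b * m⁻¹) = y / a D (m * D.z b * m⁻¹) := hxy
      exact (div_left_inj' h0).mp hxy')] at h4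
    have h5 : ((Card.Fq K n : AddSubgroup K) : Set K).ncard = 2 ^ n := Card.card_Fq D.hq
    omega
  -- `k1` acts trivially on `B`
  have hfix : ∀ c ∈ (B : Set K), sc D (m * k1 * m⁻¹) * tau D (m * k1 * m⁻¹) c = c := by
    rintro c ⟨k, hk, rfl⟩
    have hk1S := hm k1 hk1
    have hkT := hHmem k hk
    have hkQ := (mem_T.mp hkT).1
    -- the conjugate
    have h1 : a D ((m * k1 * m⁻¹) * (m * k * m⁻¹) * (m * k1 * m⁻¹)⁻¹) = a D (m * k * m⁻¹) := by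
      obtain ⟨b, hb, h2⟩ := X.cmt k1 hk1 k hk.1
      have e1 : (m * k1 * m⁻¹) * (m * k * m⁻¹) * (m * k1 * m⁻¹)⁻¹ =
        (m * (k1 * k * k1⁻¹ * k⁻¹) * m⁻¹) * (m * k * m⁻¹) := by group
      rw [e1, h2, a_mul D (mem_T.mp (hz b).1).1 hkQ, (hz b).2, zero_add]
    rcases mem_Tt.mp hkT with h2 | h2
    · rw [a_P D h2, ← ca_conj F hk1S h2, ← a_P D (F.norm_P _ hk1S _ h2), h1, a_P D h2]
    · have h3 : a D (m * k * m⁻¹) = D.ca (m * k * m⁻¹ * D.t) := by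
        rw [← a_P D h2, a_mul D hkQ D.Q_t, a_t, add_zero]
      rw [h3, ← ca_conj F hk1S h2, ← a_P D (F.norm_P _ hk1S _ h2)]
      have h4 : (m * k1 * m⁻¹) * (m * k * m⁻¹ * D.t) * (m * k1 * m⁻¹)⁻¹ =
          (m * k1 * m⁻¹) * (m * k * m⁻¹) * (m * k1 * m⁻¹)⁻¹ * D.t := by
        have h5 : D.t * (m * k1 * m⁻¹)⁻¹ = (m * k1 * m⁻¹)⁻¹ * D.t :=
          (F.comm _ (inv_mem hk1S)).symm
        have e1 : (m * k1 * m⁻¹) * (m * k * m⁻¹ * D.t) * (m * k1 * m⁻¹)⁻¹ =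
          (m * k1 * m⁻¹) * (m * k * m⁻¹) * (D.t * (m * k1 * m⁻¹)⁻¹) := by group
        rw [e1, h5]; group
      have h6 : (m * k1 * m⁻¹) * (m * k * m⁻¹) * (m * k1 * m⁻¹)⁻¹ ∈ D.Q := by
        obtain ⟨b, hb, h2⟩ := X.cmt k1 hk1 k hk.1
        have e1 : (m * k1 * m⁻¹) * (m * k * m⁻¹) * (m * k1 * m⁻¹)⁻¹ =
          (m * (k1 * k * k1⁻¹ * k⁻¹) * m⁻¹) * (m * k * m⁻¹) := by group
        rw [e1, h2]
        exact mul_mem (mem_T.mp (hz b).1).1 hkQ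
      rw [h4, a_mul D h6 D.Q_t, a_t, add_zero, h1, h3]
  exact hne (FieldAut.eq_one_of_fixed D.hq hBgt hfix).1

include F X hm in
theorem conj_mem_Tt [Finite G] {k : G} (hk : k ∈ T') : m * k * m⁻¹ ∈ T D D.t :=
  mem_Tt.mpr (mem_of_tau F (hm k hk) (tau_eq_one F X hm hk))

include F X hm in
theorem exists_conj_Tt [Finite G] {k' : G} (hk' : k' ∈ T D D.t) :
    ∃ k ∈ T', m * k * m⁻¹ = k' := by
  have h1 : (T').map (MulAut.conj m).toMonoidHom ≤ T D D.t := by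
    rintro _ ⟨k, hk, rfl⟩
    exact conj_mem_Tt F X hm hk
  have h2 : (T').map (MulAut.conj m).toMonoidHom = T D D.t := by
    apply Subgroup.eq_of_le_of_card_ge h1
    rw [Subgroup.card_map_of_injective (MulAut.conj m).injective, card_Tt]
    exact X.card
  rw [← h2] at hk'
  obtain ⟨k, hk, h⟩ := hk'
  exact ⟨k, hk, h⟩

include F X hm in
theorem conj_z_mem [Finite G] (b : K) : ∃ c, bar n c = c ∧ m * D.z b * m⁻¹ = D.z c := by
  obtain ⟨b', hb', hbb⟩ := z_fixed D b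
  obtain ⟨k, hk, l, hl, h⟩ := X.z_cmt b' hb'
  refine ⟨Tr n (a D (m * k * m⁻¹) * bar n (a D (m * l * m⁻¹))), fixed_Tr D.hq _, ?_⟩
  rw [hbb, h, ← cmt_Tt (conj_mem_Tt F X hm hk) (conj_mem_Tt F X hm hl)]
  group


/-- conjugation into `P ⟨t⟩`. -/
theorem exists_m [Finite G] {d y : G} (hT2 : IsPGroup 2 T') (hTd : ∀ k ∈ T', k * d = d * k)
    (hy : y * D.t * y⁻¹ = d) (F : Fl D Sig) (X : TT D T') :
    ∃ m, m * d * m⁻¹ = D.t ∧ (∀ k ∈ T', m * k * m⁻¹ ∈ T D D.t) ∧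
      (∀ k' ∈ T D D.t, ∃ k ∈ T', m * k * m⁻¹ = k') ∧
      ∀ b, ∃ c, bar n c = c ∧ m * D.z b * m⁻¹ = D.z c := by
  let Y : Subgroup G := T'.map (MulAut.conj y⁻¹).toMonoidHom
  obtain ⟨c, hct, hc⟩ := F.conj Y (hT2.map _) (by
    rintro _ ⟨k, hk, rfl⟩
    have h1 := hTd k hk
    show y⁻¹ * k * y⁻¹⁻¹ * D.t = D.t * (y⁻¹ * k * y⁻¹⁻¹)
    have h2 : y⁻¹ * k * y⁻¹⁻¹ * D.t = y⁻¹ * (k * (y * D.t * y⁻¹)) * y := by group
    rw [h2, hy, h1, ← hy]; group)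
  set m := c * y⁻¹ with hmd
  have hm : ∀ k ∈ T', m * k * m⁻¹ ∈ Sig := by
    intro k hk
    have h1 := hc _ (⟨k, hk, rfl⟩ : y⁻¹ * k * y⁻¹⁻¹ ∈ Y)
    have h2 : m * k * m⁻¹ = c * (y⁻¹ * k * y⁻¹⁻¹) * c⁻¹ := by rw [hmd]; group
    rw [h2]; exact h1
  refine ⟨m, ?_, fun k hk => conj_mem_Tt F X hm hk, fun k' hk' => exists_conj_Tt F X hm hk',
    conj_z_mem F X hm⟩
  rw [← hy, hmd]
  have : c * y⁻¹ * (y * D.t * y⁻¹) * (c * y⁻¹)⁻¹ = c * D.t * c⁻¹ := by group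
  rw [this, hct]; group

/-- involutions of `T'` are central in `T'`. -/
theorem invol_central [Finite G] {d y : G} (hT2 : IsPGroup 2 T') (hTd : ∀ k ∈ T', k * d = d * k)
    (hy : y * D.t * y⁻¹ = d) (F : Fl D Sig) (X : TT D T') {v : G} (hv : v ∈ T') (hvv : v * v = 1) :
    ∀ k ∈ T', v * k = k * v := by
  obtain ⟨m, -, h1, -, -⟩ := exists_m hT2 hTd hy F X
  intro k hk
  have hv' := h1 v hv
  have hk' := h1 k hk
  have h2 : (m * v * m⁻¹) * (m * v * m⁻¹) = 1 := by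
    have : (m * v * m⁻¹) * (m * v * m⁻¹) = m * (v * v) * m⁻¹ := by group
    rw [this, hvv]; group
  have hvQ := (mem_T.mp hv').1
  rw [sq_eq D hvQ, u_Tt hv', mul_zero, mul_zero, add_zero, add_zero] at h2
  have h3 := N_eq_zero (D.z_inj _ (fixed_N D.hq _) h2)
  have h4 := cmt_Tt hv' hk'
  rw [h3, zero_mul, Tr_zero, z_zero] at h4
  have h5 : m * v * m⁻¹ * (m * k * m⁻¹) * (m * v * m⁻¹)⁻¹ * (m * k * m⁻¹)⁻¹ =
    m * (v * k * v⁻¹ * k⁻¹) * m⁻¹ := by group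
  rw [h5] at h4
  have h6 : v * k * v⁻¹ * k⁻¹ = 1 := by
    have : v * k * v⁻¹ * k⁻¹ = m⁻¹ * (m * (v * k * v⁻¹ * k⁻¹) * m⁻¹) * m := by group
    rw [this, h4]; group
  rw [mul_inv_eq_one, mul_inv_eq_iff_eq_mul] at h6
  exact h6

end Cfsg.Agent.StdU3.Tower.ConjT
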