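import Mathlib
import Cfsg.Agent.StdU3.Tower.Rinv

/-!
# The three possible ends of the tower
-/

set_option autoImplicit false
set_option linter.unusedSectionVars false

namespace Cfsg.Agent.StdU3.Tower.End

open Cfsg.Agent.StdU3.Tower.Base Cfsg.Agent.StdU3.Tower.Next Cfsg.Agent.StdU3.Tower.Half
  Cfsg.Agent.StdU3.Tower.Pairing Cfsg.Agent.StdU3.Tower.Step Cfsg.Agent.StdU3.Tower.Rinv

variable {G : Type*} [Group G] {F : Type*} [Field F] {ι : Type*} [CommGroup ι] [CharP F 2]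
variable {B : HB G F ι} {k : ℕ}

/-- second type: the next group is abelian, but not inverted by `t`. -/
structure TypeII (L : Lvl B k) (R : Subgroup G) where
  N : Nxt L
  V : Hlf N
  R_V : ∀ r ∈ R, ∀ s ∈ V.V, r * s * r⁻¹ ∈ V.V
  comm : ∀ s ∈ V.V, ∀ r ∈ V.V, s * r = r * s
  g : F
  g_ne : g ≠ 0
  sq : ∀ s ∈ V.V, s * s = L.a s * B.z (g * L.ψ s)

/-- third type: `k = 1`, the next group is of class two and exponent four. -/
structure TypeIII (L : Lvl B k) (R : Subgroup G) where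
  N : Nxt L
  V : Hlf N
  R_V : ∀ r ∈ R, ∀ s ∈ V.V, r * s * r⁻¹ ∈ V.V
  hk : k = 1
  sq : ∀ s ∈ V.V, ∃ b, s * s = B.z b
  cm_eq : ∀ s ∈ V.V, ∀ w ∈ L.W, ∀ u, cm s w = B.z u → u * u = L.ψ s * L.β w

variable {L : Lvl B k} {N : Nxt L} (V : Hlf N)

theorem V_comm [Finite F] (hk : 1 ≤ k) (hcW : ∀ s ∈ V.V, ∀ w ∈ L.W, s * w = w * s) :
    ∀ s ∈ V.V, ∀ r ∈ V.V, s * r = r * s := by
  have hmem : ∀ s ∈ V.V, ∀ r ∈ V.V, ∃ u, cm s r = B.z u := by
    intro s hs r hr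
    have hc : cm s r ∈ L.W := comm_mem N hk (V.V_le hs) (V.V_le hr)
    apply L.omega hk hc
    have h1 := hcW s hs _ hc
    have h2 : s * cm s r * s⁻¹ = cm s r := by rw [h1, mul_inv_cancel_right]
    have h3 : cm (s * s) r = cm s r * cm s r := by rw [cm_mul_left, h2]
    have h4 : cm (s * s) r = 1 := by
      have h5 := hcW r hr _ (sq_mem N hk (V.V_le hs))
      rw [cm, ← h5]; group
    rw [← h3, h4]
  have hcent : ∀ s ∈ V.V, ∀ r ∈ V.V, ∀ x ∈ V.V, x * cm s r * x⁻¹ = cm s r := by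
    intro s hs r hr x hx
    obtain ⟨u, hu⟩ := hmem s hs r hr
    rw [hu, B.z_cen x (N.S_le (V.V_le hx)).1, mul_inv_cancel_right]
  obtain ⟨c, hc⟩ := pairing B.z B.z_add (fun b c => B.z_injective) V.V V.V L.ψ L.ψ cm
    (fun s hs r hr => ψ_mulV V hk hs hr) (fun s hs r hr => ψ_mulV V hk hs hr) (ψ_surj V hk)
    (ψ_surj V hk) hmem
    (fun s hs r hr x hx => by
      rw [cm_mul_left, hcent r hr x hx s hs]
      obtain ⟨u, hu⟩ := hmem s hs x hx
      obtain ⟨v, hv⟩ := hmem r hr x hx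
      rw [hu, hv, ← B.z_add, ← B.z_add, add_comm])
    (fun s hs r hr x hx => by
      have h1 : cm s (r * x) = cm s r * (r * cm s x * r⁻¹) := by simp only [cm]; group
      rw [h1, hcent s hs x hx r hr])
    (fun s hs r hr h => by
      have h1 := hcW r hr s (ψ_ker V hs h)
      rw [cm, ← h1]; group)
    (fun s hs r hr h => by
      have h1 := hcW s hs r (ψ_ker V hr h)
      rw [cm, h1]; group)
    (fun ν hν => by
      obtain ⟨i, hi⟩ := B.wt_surj ν hν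
      refine ⟨N.h i, fun s hs => ⟨V.h_V i s hs, by rw [h_ψ N hk i (V.V_le hs), hi]⟩,
        fun s hs => ⟨V.h_V i s hs, by rw [h_ψ N hk i (V.V_le hs), hi]⟩, fun s hs r hr u hu => ?_⟩
      have h1 : cm (N.h i * s * (N.h i)⁻¹) (N.h i * r * (N.h i)⁻¹) = N.h i * cm s r * (N.h i)⁻¹ := by
        simp only [cm]; group
      rw [h1, hu, h_z N i, hi])
  have hc0 : c = 0 := by
    obtain ⟨s, hs, hψ⟩ := ψ_surj V hk (1 : F)
    have h1 : cm s s = B.z 0 := by rw [B.z_zero, cm]; group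
    have h2 := hc s hs s hs 0 h1
    rw [hψ, mul_one, mul_one, mul_zero] at h2
    exact h2.symm
  intro s hs r hr
  obtain ⟨u, hu⟩ := hmem s hs r hr
  have h2 := hc s hs r hr u hu
  rw [hc0, zero_mul, mul_self_eq_zero] at h2
  rw [h2, B.z_zero, cm, mul_inv_eq_one, mul_inv_eq_iff_eq_mul] at hu
  exact hu

theorem h_a (N : Nxt L) (i : ι) (g : G) :
    L.a (N.h i * g * (N.h i)⁻¹) = N.h i * L.a g * (N.h i)⁻¹ := by
  have h1 := h_t N i
  have h2 : (N.h i)⁻¹ * B.t = B.t * (N.h i)⁻¹ := by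
    rw [inv_mul_eq_iff_eq_mul, ← mul_assoc, h1, mul_inv_cancel_right]
  rw [Lvl.a, Lvl.a]
  calc N.h i * g * (N.h i)⁻¹ * B.t * (N.h i * g * (N.h i)⁻¹)⁻¹ * B.t
      = N.h i * g * ((N.h i)⁻¹ * B.t) * N.h i * g⁻¹ * ((N.h i)⁻¹ * B.t) := by group
    _ = _ := by rw [h2]; group

theorem exists_g (hk : 1 ≤ k) (hcW : ∀ s ∈ V.V, ∀ w ∈ L.W, s * w = w * s) :
    ∃ g : F, ∀ s ∈ V.V, s * s = L.a s * B.z (g * L.ψ s) := by
  obtain ⟨s1, hs1, hψ1⟩ := ψ_surj V hk (1 : F)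
  have ha1 := L.a_mem hk (N.S_le (V.V_le hs1))
  have hsq1 := sq_mem N hk (V.V_le hs1)
  obtain ⟨g, hg⟩ : ∃ g, (s1 * s1) * (L.a s1)⁻¹ = B.z g := by
    apply L.omega hk (L.W.mul_mem hsq1 (L.W.inv_mem ha1))
    have h1 := sq_rel V hk hs1
    have h2 : cm s1 (L.a s1) = 1 := by rw [cm, hcW s1 hs1 _ ha1]; group
    rw [h2, mul_one] at h1
    have h3 := L.comm _ (L.W.inv_mem ha1) _ hsq1
    calc (s1 * s1) * (L.a s1)⁻¹ * ((s1 * s1) * (L.a s1)⁻¹)
        = (s1 * s1) * ((L.a s1)⁻¹ * (s1 * s1)) * (L.a s1)⁻¹ := by group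
      _ = ((s1 * s1) * (s1 * s1)) * (L.a s1)⁻¹ * (L.a s1)⁻¹ := by rw [h3]; group
      _ = 1 := by rw [h1]; group
  have hg' : s1 * s1 = L.a s1 * B.z g := by
    have h1 := B.z_cen _ (L.W_le ha1) g
    rw [h1, ← hg]; group
  refine ⟨g, fun s hs => ?_⟩
  by_cases hν : L.ψ s = 0
  · have hw := ψ_ker V hs hν
    rw [hν, mul_zero, B.z_zero, mul_one, L.a_W hw]
  · obtain ⟨i, hi⟩ := B.wt_surj _ hν
    set r := N.h i * s1 * (N.h i)⁻¹ with hr
    have hrV : r ∈ V.V := V.h_V i s1 hs1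
    have hψr : L.ψ r = L.ψ s := by rw [hr, h_ψ N hk i (V.V_le hs1), hi, hψ1, mul_one]
    have hrr : r * r = L.a r * B.z (L.ψ s * g) := by
      have e : r * r = N.h i * (s1 * s1) * (N.h i)⁻¹ := by rw [hr]; group
      have e2 : N.h i * (L.a s1 * B.z g) * (N.h i)⁻¹ =
          (N.h i * L.a s1 * (N.h i)⁻¹) * (N.h i * B.z g * (N.h i)⁻¹) := by group
      rw [e, hg', e2, h_z N i, hi, ← h_a N i]
    have hw : r⁻¹ * s ∈ L.W := by
      apply ψ_ker V (V.V.mul_mem (V.V.inv_mem hrV) hs)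
      have h1 := ψ_mulV V hk (V.V.inv_mem hrV) hs
      have h2 := ψ_mulV V hk (V.V.inv_mem hrV) hrV
      rw [inv_mul_cancel, L.ψ_W L.W.one_mem, hψr] at h2
      rw [h1, ← h2]
    set w := r⁻¹ * s with hwdef
    have hs' : s = r * w := by rw [hwdef]; group
    have hrw := hcW r hrV w hw
    have har := L.a_mem hk (N.S_le (V.V_le hrV))
    have hww := L.W.mul_mem hw hw
    have h3 : L.a s = L.a r * (w * w) := by
      have h4 : r * (w * w) * r⁻¹ = w * w := by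
        rw [hcW r hrV _ hww, mul_inv_cancel_right]
      rw [hs', L.a_mul, L.a_W hw, h4, L.comm _ har _ hww]
    have h5 : s * s = (r * r) * (w * w) := by
      rw [hs']
      calc r * w * (r * w) = r * (w * r) * w := by group
        _ = _ := by rw [← hrw]; group
    have h6 := B.z_cen (w * w) (L.W_le hww) (L.ψ s * g)
    rw [h5, hrr, h3, mul_assoc (L.a r), ← h6, mul_comm g]
    group

/-- the next level -/
theorem next_lvl (hk : 1 ≤ k) (hc : ∀ s ∈ V.V, ∀ r ∈ V.V, s * r = r * s)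
    (hsq : ∀ s ∈ V.V, s * s = L.a s) : ∃ L' : Lvl B (k + 1), L'.W = V.V := by
  have hpw : ∀ x ∈ V.V, x ^ 2 ^ (k + 1) = B.z (L.ψ x) := by
    intro x hx
    have ha := L.a_mem hk (N.S_le (V.V_le hx))
    rw [pow_succ', pow_mul, pow_two, hsq x hx, L.β_spec ha]
    rfl
  refine ⟨⟨V.V, fun x hx => (N.S_le (V.V_le hx)).1, hc, ?_, fun b => V.W_le (L.z_mem b),
    fun x hx => ⟨_, hpw x hx⟩, ?_, ?_, N.h, N.h_eq, V.h_V, ?_⟩, rfl⟩
  · intro x hx
    rw [B.t_inv, ts, ← hsq x hx]; group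
  · intro u
    obtain ⟨s, hs, h⟩ := ψ_surj V hk u
    exact ⟨s, hs, by rw [hpw s hs, h]⟩
  · intro x hx h
    rw [hpw x hx] at h
    have hxW := ψ_ker V hx (B.z_inj _ h)
    obtain ⟨y, hy, hψ⟩ := ψ_surj V hk (L.β x)
    have hyy := sq_mem N hk (V.V_le hy)
    have h1 : L.β ((y * y)⁻¹ * x) = 0 := by
      have h2 : L.β (y * y) = L.β x := by rw [hsq y hy]; exact hψ
      rw [L.β_mul (L.W.inv_mem hyy) hxW, L.β_inv hyy, h2, CharTwo.add_self_eq_zero]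
    obtain ⟨v, hv, h2⟩ := L.β_eq_zero (L.W.mul_mem (L.W.inv_mem hyy) hxW) h1
    refine ⟨y * v, V.V.mul_mem hy (V.W_le hv), ?_⟩
    have h3 := hc y hy v (V.W_le hv)
    have h4 : x = (y * y) * (v * v) := by rw [← h2]; group
    rw [h4]
    calc y * y * (v * v) = y * (y * v) * v := by group
      _ = y * (v * y) * v := by rw [h3]
      _ = _ := by group
  · intro i j x hx
    exact N.h_mul i j x (V.V_le hx)

theorem step [Finite F] [Finite G] [Finite ι] (hodd : Odd (Nat.card ι)) (hk : 1 ≤ k)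
    (hF : ∃ ν : F, ν ≠ 0 ∧ ν ≠ 1) {R : Subgroup G} (hR : Rg B R) (L : Lvl B k)
    (hRW : ∀ r ∈ R, ∀ x ∈ L.W, r * x * r⁻¹ ∈ L.W) :
    (∀ g ∈ L.NH, L.ψ g = 0) ∨ Nonempty (TypeII L R) ∨ Nonempty (TypeIII L R) ∨
      ∃ L' : Lvl B (k + 1), L.W < L'.W ∧ (∀ r ∈ R, ∀ x ∈ L'.W, r * x * r⁻¹ ∈ L'.W) := by
  rcases L.dichotomy hk with h | h
  · exact Or.inl h
  right
  obtain ⟨N, hRS⟩ := exists_next L hk h hR hRW
  obtain ⟨V⟩ := exists_hlf N hodd hk hF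
  have hRV := R_V hR V hk hF hRW hRS
  rcases centralises_or V hk hF with hcW | ⟨h1, h2, h3⟩
  · have hc := V_comm V hk hcW
    obtain ⟨g, hg⟩ := exists_g V hk hcW
    by_cases hg0 : g = 0
    · right; right
      obtain ⟨L', hL'⟩ := next_lvl V hk hc (fun s hs => by
        rw [hg s hs, hg0, zero_mul, B.z_zero, mul_one])
      refine ⟨L', ?_, ?_⟩
      · rw [hL']
        refine lt_of_le_of_ne V.W_le fun he => ?_
        obtain ⟨s, hs, hψ⟩ := ψ_surj V hk (1 : F)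
        rw [← he] at hs
        rw [L.ψ_W hs] at hψ
        exact zero_ne_one hψ
      · rw [hL']; exact hRV
    · exact Or.inl ⟨⟨N, V, hRV, hc, g, hg0, hg⟩⟩
  · exact Or.inr (Or.inl ⟨⟨N, V, hRV, h1, h2, h3⟩⟩)

theorem card_lt {H K : Subgroup G} [Finite G] (h : H < K) : Nat.card H < Nat.card K := by
  by_contra h1
  exact h.ne (Subgroup.eq_of_le_of_card_ge h.le (not_lt.1 h1))

/-- **The end of the tower.** -/
theorem tower_end [Finite F] [Finite G] [Finite ι] (hodd : Odd (Nat.card ι))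
    (hF : ∃ ν : F, ν ≠ 0 ∧ ν ≠ 1) {R : Subgroup G} (hR : Rg B R) {k : ℕ} (hk : 1 ≤ k) (L : Lvl B k)
    (hRW : ∀ r ∈ R, ∀ x ∈ L.W, r * x * r⁻¹ ∈ L.W) :
    ∃ k', k ≤ k' ∧ ∃ L' : Lvl B k', L.W ≤ L'.W ∧ (∀ r ∈ R, ∀ x ∈ L'.W, r * x * r⁻¹ ∈ L'.W) ∧
      ((∀ g ∈ L'.NH, L'.ψ g = 0) ∨ Nonempty (TypeII L' R) ∨ Nonempty (TypeIII L' R)) := by
  have key : ∀ m : ℕ, ∀ k, 1 ≤ k → ∀ L : Lvl B k, (∀ r ∈ R, ∀ x ∈ L.W, r * x * r⁻¹ ∈ L.W) →
      Nat.card G - Nat.card L.W ≤ m →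
      ∃ k', k ≤ k' ∧ ∃ L' : Lvl B k', L.W ≤ L'.W ∧ (∀ r ∈ R, ∀ x ∈ L'.W, r * x * r⁻¹ ∈ L'.W) ∧
      ((∀ g ∈ L'.NH, L'.ψ g = 0) ∨ Nonempty (TypeII L' R) ∨ Nonempty (TypeIII L' R)) := by
    intro m
    induction m with
    | zero =>
      intro k hk L hRW hm
      rcases step hodd hk hF hR L hRW with h | h | h | ⟨L', hL', hRW'⟩
      · exact ⟨k, le_rfl, L, le_rfl, hRW, Or.inl h⟩
      · exact ⟨k, le_rfl, L, le_rfl, hRW, Or.inr (Or.inl h)⟩
      · exact ⟨k, le_rfl, L, le_rfl, hRW, Or.inr (Or.inr h)⟩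
      · exfalso
        have h1 : Nat.card L.W < Nat.card L'.W := card_lt hL'
        have h2 : Nat.card L'.W ≤ Nat.card G := Subgroup.card_le_card_group _
        omega
    | succ m ih =>
      intro k hk L hRW hm
      rcases step hodd hk hF hR L hRW with h | h | h | ⟨L', hL', hRW'⟩
      · exact ⟨k, le_rfl, L, le_rfl, hRW, Or.inl h⟩
      · exact ⟨k, le_rfl, L, le_rfl, hRW, Or.inr (Or.inl h)⟩
      · exact ⟨k, le_rfl, L, le_rfl, hRW, Or.inr (Or.inr h)⟩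
      · have h1 : Nat.card L.W < Nat.card L'.W := card_lt hL'
        have h2 : Nat.card L'.W ≤ Nat.card G := Subgroup.card_le_card_group _
        obtain ⟨k', hk', L'', h3, h4, h5⟩ := ih (k + 1) (by omega) L' hRW' (by omega)
        exact ⟨k', by omega, L'', hL'.le.trans h3, h4, h5⟩
  exact key _ k hk L hRW le_rfl

end Cfsg.Agent.StdU3.Tower.End
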