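import Cfsg.Agent.StdU3.Tower.ThreeII
import Cfsg.Agent.StdU3.Tower.Cen
import Cfsg.Agent.StdU3.TermExists

/-!
# The instances `Cen`, `Ab`, `Cl` from the tower
-/

set_option autoImplicit false
set_option linter.unusedSectionVars false

namespace Cfsg.Agent.StdU3.Tower.Inst

open Cfsg.Agent.StdU3.Field Cfsg.Agent.StdU3.PreDef Cfsg.Agent.StdU3.LevelOne
open Cfsg.Agent.StdU3.LevelOneW Cfsg.Agent.StdU3.NormQ Cfsg.Agent.StdU3.Kernel
open Cfsg.Agent.StdU3.Next Cfsg.Agent.StdU3.Tower.Base Cfsg.Agent.StdU3.Tower.GBase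
open Cfsg.Agent.StdU3.Tower.Cen Cfsg.Agent.StdU3.Tower.End
open Cfsg.Agent.StdU3.Tower.Step Cfsg.Agent.StdU3.Tower.Half Cfsg.Agent.StdU3.FldDef

variable {G : Type*} [Group G] [Finite G] {K : Type*} [Field K] [Fintype K] [CharP K 2] {n : ℕ}
variable {D : Pre G K n} {O : Subgroup G} {hO : Amb D O} {k : ℕ} (L : Lvl (hb hO) k)

theorem z_mem_W (b : K) : D.z b ∈ L.W := by
  obtain ⟨c, hc, h⟩ := z_fixed D b
  rw [h]; exact L.z_mem ⟨c, hc⟩

/-! ### first type -/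

/-- first type -/
noncomputable def cenI (hk : 1 ≤ k) : Cen D O where
  M := L.W
  M_two := fun x => ⟨k + 1, Subtype.ext (Tower.Next.pow_all L x.2)⟩
  M_P := fun _ hm p hp => (mem_H.1 (L.W_le hm) p hp).symm
  z_mem := z_mem_W L
  cm_mem := fun x hx y hy => ⟨0, bar_zero n, by rw [L.comm x hx y hy, z_zero]; group⟩
  t_not := L.t_not hk
  t_conj := fun m hm => by
    have h : D.t * m * D.t⁻¹ = m⁻¹ := L.inv m hm
    rw [h]; exact L.W.inv_mem hm
  t_comm := fun m hm h => by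
    have h1 : D.t * m * D.t⁻¹ = m⁻¹ := L.inv m hm
    rw [← h, mul_inv_cancel_right] at h1
    obtain ⟨b, hb⟩ := L.omega hk hm (by nth_rewrite 1 [h1]; group)
    exact ⟨b, b.2, hb⟩
  h := L.h
  h_eq := L.h_eq
  h_M := L.h_W
  h_mul := L.h_mul
  O_M := fun _ ho hn m hm => Tower.Next.K0_comm L hk ho hn m hm

/-- first type -/
noncomputable def abI (hk : 1 ≤ k) : Ab (cenI L hk) where
  comm := L.comm
  k := k
  hk := hk
  pw := fun x hx => by
    obtain ⟨u, h⟩ := L.pw x hx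
    exact ⟨u, u.2, h⟩
  pw_surj := fun u hu => L.pw_surj ⟨u, hu⟩
  pw_ker := L.pw_ker

/-! ### second and third type -/

variable {L} {N : Tower.Next.Nxt L} (V : Hlf N)

/-- second and third type -/
noncomputable def cenV (hk : 1 ≤ k)
    (hcm : ∀ x ∈ V.V, ∀ y ∈ V.V, ∃ b, bar n b = b ∧ x * y * x⁻¹ * y⁻¹ = D.z b) : Cen D O where
  M := V.V
  M_two := N.S_two.to_le V.V_le
  M_P := fun _ hm p hp => (mem_H.1 (N.S_le (V.V_le hm)).1 p hp).symm
  z_mem := fun b => V.W_le (z_mem_W L b)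
  cm_mem := hcm
  t_not := V.t_not
  t_conj := fun m hm => by
    have h : D.t * m * D.t⁻¹ = (L.a m)⁻¹ * m := by
      rw [t_inv D]; exact ts L m
    rw [h]
    exact V.V.mul_mem (V.V.inv_mem (V.W_le (L.a_mem hk (N.S_le (V.V_le hm))))) hm
  t_comm := fun m hm h => by
    have hmS := V.V_le hm
    obtain ⟨b, κ, hκ, h1 | h1⟩ := (GBase.hb hO).dec m (N.S_le hmS).1 h
    · have h2 : κ ∈ N.S := by
        have : κ = ((GBase.hb hO).z b)⁻¹ * m := by rw [h1]; group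
        rw [this]
        exact N.S.mul_mem (N.S.inv_mem (N.Y_le (L.W_le_Y (L.z_mem b)))) hmS
      have h3 := Rinv.K0_inter N hκ h2
      rw [h3, mul_one] at h1
      exact ⟨b, b.2, h1⟩
    · exfalso
      have h2 : κ ∈ N.S := by
        have : κ = ((GBase.hb hO).t * (GBase.hb hO).z b)⁻¹ * m := by rw [h1]; group
        rw [this]
        exact N.S.mul_mem (N.S.inv_mem (N.Y_le (L.Y.mul_mem L.t_mem_Y (L.W_le_Y (L.z_mem b))))) hmS
      have h3 := Rinv.K0_inter N hκ h2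
      rw [h3, mul_one] at h1
      apply V.t_not
      have : (GBase.hb hO).t = m * ((GBase.hb hO).z b)⁻¹ := by rw [h1]; group
      rw [this]
      exact V.V.mul_mem hm (V.V.inv_mem (V.W_le (L.z_mem b)))
  h := N.h
  h_eq := N.h_eq
  h_M := V.h_V
  h_mul := fun i j m hm => N.h_mul i j m (V.V_le hm)
  O_M := fun _ ho hn m hm => Rinv.K0_V V hk ho hn m hm

theorem z_pow (hk : 1 ≤ k) (u : Fq K n) : ((GBase.hb hO).z u) ^ 2 ^ k = 1 := by
  obtain ⟨m, rfl⟩ : ∃ m, k = m + 1 := ⟨k - 1, by omega⟩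
  rw [pow_succ', pow_mul, pow_two, (GBase.hb hO).z_sq, one_pow]

theorem hcmII {R : Subgroup G} (E : TypeII L R) :
    ∀ x ∈ E.V.V, ∀ y ∈ E.V.V, ∃ b, bar n b = b ∧ x * y * x⁻¹ * y⁻¹ = D.z b :=
  fun x hx y hy => ⟨0, bar_zero n, by rw [E.comm x hx y hy, z_zero]; group⟩

/-- second type -/
noncomputable def abII (hk : 1 ≤ k) {R : Subgroup G} (E : TypeII L R) :
    Ab (cenV E.V hk (hcmII E)) := by
  have hpw : ∀ x ∈ E.V.V, x ^ 2 ^ (k + 1) = (GBase.hb hO).z (L.ψ x) := by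
    intro x hx
    have ha := L.a_mem hk (E.N.S_le (E.V.V_le hx))
    have hc : Commute (L.a x) ((GBase.hb hO).z (E.g * L.ψ x)) :=
      (GBase.hb hO).z_cen _ (L.W_le ha) _
    rw [pow_succ', pow_mul, pow_two, E.sq x hx, hc.mul_pow, z_pow hk, mul_one, L.β_spec ha]
    rfl
  exact
  { comm := E.comm
    k := k + 1
    hk := by omega
    pw := fun x hx => ⟨L.ψ x, (L.ψ x).2, hpw x hx⟩
    pw_surj := fun u hu => by
      obtain ⟨s, hs, h⟩ := ψ_surj E.V hk (⟨u, hu⟩ : Fq K n)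
      exact ⟨s, hs, by rw [hpw s hs, h]; rfl⟩
    pw_ker := fun x hx h => by
      rw [hpw x hx] at h
      have hxW := ψ_ker E.V hx ((GBase.hb hO).z_inj _ h)
      obtain ⟨y, hy, hψ⟩ := ψ_surj E.V hk (L.β x)
      have hyy := sq_mem E.N hk (E.V.V_le hy)
      have ha := L.a_mem hk (E.N.S_le (E.V.V_le hy))
      have h1 : L.β ((y * y)⁻¹ * x) = 0 := by
        have h2 : L.β (y * y) = L.β x := by
          rw [E.sq y hy, L.β_mul ha (L.z_mem _), L.β_z hk, add_zero]; exact hψ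
        rw [L.β_mul (L.W.inv_mem hyy) hxW, L.β_inv hyy, h2, CharTwo.add_self_eq_zero]
      obtain ⟨v, hv, h2⟩ := L.β_eq_zero (L.W.mul_mem (L.W.inv_mem hyy) hxW) h1
      refine ⟨y * v, E.V.V.mul_mem hy (E.V.W_le hv), ?_⟩
      have h3 := E.comm y hy v (E.V.W_le hv)
      have h4 : x = (y * y) * (v * v) := by rw [← h2]; group
      rw [h4]
      calc y * y * (v * v) = y * (y * v) * v := by group
        _ = y * (v * y) * v := by rw [h3]
        _ = _ := by group }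

theorem hcmIII {R : Subgroup G} (E : TypeIII L R) :
    ∀ x ∈ E.V.V, ∀ y ∈ E.V.V, ∃ b, bar n b = b ∧ x * y * x⁻¹ * y⁻¹ = D.z b := by
  intro x hx y hy
  obtain ⟨b1, h1⟩ := E.sq _ (E.V.V.mul_mem hx hy)
  obtain ⟨b2, h2⟩ := E.sq _ (E.V.V.inv_mem hx)
  obtain ⟨b3, h3⟩ := E.sq _ (E.V.V.inv_mem hy)
  have hyH := (E.N.S_le (E.V.V_le hy)).1
  have h4 := (GBase.hb hO).z_cen _ ((GBase.hb hO).H.inv_mem hyH) b2
  refine ⟨((b1 + b2 + b3 : Fq K n) : K), (b1 + b2 + b3).2, ?_⟩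
  have e : x * y * x⁻¹ * y⁻¹ = (x * y * (x * y)) * (y⁻¹ * (x⁻¹ * x⁻¹) * y) * (y⁻¹ * y⁻¹) := by group
  rw [e, h1, h2, h4, h3]
  have h5 : (GBase.hb hO).z (b1 + b2 + b3) = (GBase.hb hO).z b1 * (GBase.hb hO).z b2 * (GBase.hb hO).z b3 := by
    rw [(GBase.hb hO).z_add, (GBase.hb hO).z_add]
  have h6 : D.z ((b1 + b2 + b3 : Fq K n) : K) = (GBase.hb hO).z (b1 + b2 + b3) := rfl
  rw [h6, h5]; group

/-- third type -/
noncomputable def clIII (hk : 1 ≤ k) {R : Subgroup G} (E : TypeIII L R) :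
    Cl (cenV E.V hk (hcmIII E)) where
  W := L.W
  W_le := E.V.W_le
  W_comm := L.comm
  z_W := z_mem_W L
  h_W := fun l w hw => h_W_mem E.N l hw
  u := fun w => L.β w
  u_fixed := fun w _ => (L.β w).2
  u_mul := fun w hw w' hw' => by rw [L.β_mul hw hw']; rfl
  u_surj := fun c hc => by
    obtain ⟨w, hw, h⟩ := L.β_surj ⟨c, hc⟩
    exact ⟨w, hw, by rw [h]⟩
  u_ker := fun w hw h => by
    obtain ⟨y, hy, h1⟩ := L.β_eq_zero hw (Subtype.ext h)
    obtain ⟨c, h2⟩ := L.pw y hy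
    refine ⟨c, c.2, ?_⟩
    have h3 := E.hk
    subst h3
    rw [pow_one, pow_two] at h2
    rw [h1, h2]; rfl
  u_h := fun l w hw => by
    have h1 := h_β E.N l hw
    have h2 := congrArg Subtype.val h1
    exact h2
  W_sq := fun w hw => by
    have h2 := L.β_spec hw
    have h3 := E.hk
    subst h3
    rw [pow_one, pow_two] at h2
    exact h2
  W_inv := L.inv
  e := fun m => L.ψ m
  e_fixed := fun m _ => (L.ψ m).2
  e_mul := fun m hm m' hm' => by rw [ψ_mulV E.V hk hm hm']; rfl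
  e_surj := fun c hc => by
    obtain ⟨w, hw, h⟩ := ψ_surj E.V hk (⟨c, hc⟩ : Fq K n)
    exact ⟨w, hw, by rw [h]⟩
  e_ker := fun m hm => by
    constructor
    · intro h
      exact ψ_ker E.V hm (Subtype.ext h)
    · intro h
      rw [L.ψ_W h]; rfl
  e_h := fun l m hm => by
    have h1 := h_ψ E.N hk l (E.V.V_le hm)
    exact congrArg Subtype.val h1
  a_mem := fun m hm => L.a_mem hk (E.N.S_le (E.V.V_le hm))
  u_a := fun m _ => rfl
  sq := fun m hm => by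
    obtain ⟨b, hb⟩ := E.sq m hm
    exact ⟨b, b.2, hb⟩
  cm_eq := fun m hm w hw c hc h => by
    have h1 := E.cm_eq m hm w hw ⟨c, hc⟩ h
    exact congrArg Subtype.val h1

/-! ### the 2-group acting -/

theorem rg (F : Fld D) : Rg (GBase.hb F.amb) F.Sg where
  two := F.Sg_two
  H := by
    intro r hr g hg
    refine mem_H.2 fun x hx => ?_
    have h1 := F.Sg_P r⁻¹ (inv_mem hr) x hx
    rw [inv_inv] at h1
    have h2 := mem_H.1 hg _ h1
    calc x * (r * g * r⁻¹) = r * (r⁻¹ * x * r * g) * r⁻¹ := by group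
      _ = _ := by rw [h2]; group
  t := F.Sg_t
  z := by
    intro r hr b
    have hrc : r ∈ Subgroup.centralizer ({D.t} : Set G) := by
      rw [Subgroup.mem_centralizer_singleton_iff]
      exact F.Sg_t r hr
    obtain ⟨c, hc, -, h1⟩ := F.chi_ca ⟨r, hrc⟩ (F.Sg_P r hr)
    have h2 : bar n (F.chi ⟨r, hrc⟩ b) = F.chi ⟨r, hrc⟩ b := by
      rw [bar_def, ← map_pow, ← bar_def, b.2]
    exact ⟨⟨_, fixed_mul (fixed_N D.hq c) h2⟩, h1 b b.2⟩
  h := by
    intro r hr i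
    have hrc : r ∈ Subgroup.centralizer ({D.t} : Set G) := by
      rw [Subgroup.mem_centralizer_singleton_iff]
      exact F.Sg_t r hr
    obtain ⟨c, hc, h1, -⟩ := F.chi_ca ⟨r, hrc⟩ (F.Sg_P r hr)
    set σ := F.chi ⟨r, hrc⟩ with hσ
    have h1' : ∀ x ∈ D.P, D.ca (r * x * r⁻¹) = c * σ (D.ca x) := h1
    set j : Kˣ := Units.map (σ : K →* K) i with hj
    set y := r * D.h i * r⁻¹ * (D.h j)⁻¹ with hy
    have hrt := F.Sg_t r hr
    have hrt' : r⁻¹ * D.t = D.t * r⁻¹ := by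
      rw [inv_mul_eq_iff_eq_mul, ← mul_assoc, hrt, mul_inv_cancel_right]
    have hjt : (D.h j)⁻¹ * D.t = D.t * (D.h j)⁻¹ := by
      rw [inv_mul_eq_iff_eq_mul, ← mul_assoc, ← D.t_h, mul_inv_cancel_right]
    have hyt : y * D.t = D.t * y := by
      calc r * D.h i * r⁻¹ * (D.h j)⁻¹ * D.t = r * D.h i * r⁻¹ * ((D.h j)⁻¹ * D.t) := by group
        _ = r * D.h i * (r⁻¹ * D.t) * (D.h j)⁻¹ := by rw [hjt]; group
        _ = r * (D.h i * D.t) * r⁻¹ * (D.h j)⁻¹ := by rw [hrt']; group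
        _ = (r * D.t) * D.h i * r⁻¹ * (D.h j)⁻¹ := by rw [← D.t_h]; group
        _ = D.t * (r * D.h i * r⁻¹ * (D.h j)⁻¹) := by rw [hrt]; group
    obtain ⟨x, hx, κ, hκ, h2⟩ := F.amb.dec y hyt (by
      intro x hx
      obtain ⟨x1, hx1, h3⟩ := exists_h_P (D := D) j hx
      have hx2 : r⁻¹ * x1 * r ∈ D.P := by
        have := F.Sg_P r⁻¹ (inv_mem hr) x1 hx1
        rwa [inv_inv] at this
      have hx3 := D.h_P i _ hx2
      have hx4 := F.Sg_P r hr _ hx3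
      have e : y * x * y⁻¹ = r * (D.h i * (r⁻¹ * x1 * r) * (D.h i)⁻¹) * r⁻¹ := by
        rw [hy, h3]; group
      rw [e]
      refine ⟨hx4, ?_⟩
      rw [h1' _ hx3, D.h_ca i _ hx2, map_mul, h3, D.h_ca j _ hx1]
      have e1 : D.ca x1 = c * σ (D.ca (r⁻¹ * x1 * r)) := by
        rw [← h1' _ hx2]
        congr 1; group
      rw [hj, Princ.w_map, e1]; ring)
    have hκt := F.amb.O_t κ hκ
    have hxt : x * D.t = D.t * x := by
      have e : x = y * κ⁻¹ := by rw [h2]; group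
      have hκt' : κ⁻¹ * D.t = D.t * κ⁻¹ := by
        rw [inv_mul_eq_iff_eq_mul, ← mul_assoc, hκt, mul_inv_cancel_right]
      rw [e, mul_assoc, hκt', ← mul_assoc, hyt, mul_assoc]
    have hcen : ∀ p ∈ D.P, ∀ g ∈ (GBase.hb F.amb).H, p * g = g * p := fun p hp g hg =>
      mem_H.1 hg p hp
    rcases D.Q_T x hx hxt with h3 | h3
    · refine ⟨j, x, κ, hcen x h3, hκ, Or.inl ?_⟩
      show r * D.h i * r⁻¹ = x * κ * D.h j
      rw [← h2, hy]; group
    · refine ⟨j, x * D.t, κ, hcen _ h3, hκ, Or.inr ?_⟩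
      show r * D.h i * r⁻¹ = x * D.t * D.t * κ * D.h j
      rw [mul_assoc x, D.t_sq, mul_one, ← h2, hy]; group

end Cfsg.Agent.StdU3.Tower.Inst
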