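import Cfsg.Agent.StdU3.Tower.GBase

/-!
# First type: elements normalising `P` and `Y = ⟨t⟩ W` move `t` inside `t^W`
-/

set_option autoImplicit false
set_option linter.unusedSectionVars false

namespace Cfsg.Agent.StdU3.Tower.Princ

open Cfsg.Agent.StdU3.Field Cfsg.Agent.StdU3.PreDef Cfsg.Agent.StdU3.LevelOne
open Cfsg.Agent.StdU3.LevelOneW Cfsg.Agent.StdU3.NormQ Cfsg.Agent.StdU3.Kernel
open Cfsg.Agent.StdU3.Next Cfsg.Agent.StdU3.Tower.Base Cfsg.Agent.StdU3.Tower.GBase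

variable {G : Type*} [Group G] [Finite G] {K : Type*} [Field K] [Fintype K] [CharP K 2] {n : ℕ}
variable {D : Pre G K n} {O : Subgroup G} {hO : Amb D O} {k : ℕ} (L : Lvl (hb hO) k)

/-- elements normalising `P` and `Y` -/
def NP : Subgroup G where
  carrier := {g | (∀ x, x ∈ D.P ↔ g * x * g⁻¹ ∈ D.P) ∧ ∀ y, y ∈ L.Y ↔ g * y * g⁻¹ ∈ L.Y}
  one_mem' := ⟨fun x => by simp, fun y => by simp⟩
  mul_mem' := by
    rintro a b ⟨ha, ha'⟩ ⟨hb, hb'⟩
    refine ⟨fun x => ?_, fun y => ?_⟩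
    · rw [hb x, ha]
      have : a * (b * x * b⁻¹) * a⁻¹ = a * b * x * (a * b)⁻¹ := by group
      rw [this]
    · rw [hb' y, ha']
      have : a * (b * y * b⁻¹) * a⁻¹ = a * b * y * (a * b)⁻¹ := by group
      rw [this]
  inv_mem' := by
    rintro a ⟨ha, ha'⟩
    refine ⟨fun x => ?_, fun y => ?_⟩
    · rw [ha (a⁻¹ * x * a⁻¹⁻¹)]
      have : a * (a⁻¹ * x * a⁻¹⁻¹) * a⁻¹ = x := by group
      rw [this]
    · rw [ha' (a⁻¹ * y * a⁻¹⁻¹)]
      have : a * (a⁻¹ * y * a⁻¹⁻¹) * a⁻¹ = y := by group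
      rw [this]

variable {L}

theorem conj_z {g : G} (hg : g ∈ NP L) (b : K) : ∃ c, bar n c = c ∧ g * D.z b * g⁻¹ = D.z c := by
  apply cent_P ((hg.1 _).1 (D.z_mem b))
  intro x hx
  have h1 : g⁻¹ * x * g ∈ D.P := by
    rw [hg.1]
    have : g * (g⁻¹ * x * g) * g⁻¹ = x := by group
    rw [this]; exact hx
  have h2 := D.Q_Z _ (D.P_le h1) b
  calc x * (g * D.z b * g⁻¹) = g * ((g⁻¹ * x * g) * D.z b) * g⁻¹ := by group
    _ = g * (D.z b * (g⁻¹ * x * g)) * g⁻¹ := by rw [h2]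
    _ = _ := by group

open Classical in
/-- the action on `Z`. -/
noncomputable def th (D : Pre G K n) (s : G) (b : K) : K :=
  if h : ∃ c, bar n c = c ∧ s * D.z b * s⁻¹ = D.z c then Classical.choose h else 0

theorem th_spec {g : G} (hg : g ∈ NP L) (b : K) :
    bar n (th D g b) = th D g b ∧ g * D.z b * g⁻¹ = D.z (th D g b) := by
  unfold th
  rw [dif_pos (conj_z hg b)]
  exact Classical.choose_spec (conj_z hg b)

theorem th_eq {g : G} (hg : g ∈ NP L) {b c : K} (hc : bar n c = c) (h : g * D.z b * g⁻¹ = D.z c) :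
    th D g b = c :=
  z_eq D (th_spec hg b).1 hc (by rw [← (th_spec hg b).2, h])

theorem th_add {g : G} (hg : g ∈ NP L) (b c : K) : th D g (b + c) = th D g b + th D g c := by
  apply th_eq hg (fixed_add (th_spec hg b).1 (th_spec hg c).1)
  rw [D.z_add, D.z_add, ← (th_spec hg b).2, ← (th_spec hg c).2]; group

theorem th_zero {g : G} (hg : g ∈ NP L) : th D g 0 = 0 := by
  apply th_eq hg (bar_zero n)
  rw [z_zero]; group

theorem th_eq_zero {g : G} (hg : g ∈ NP L) {b : K} (hb : bar n b = b) (h : th D g b = 0) :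
    b = 0 := by
  have h2 := (th_spec hg b).2
  rw [h, z_zero] at h2
  apply D.z_inj b hb
  have : D.z b = g⁻¹ * (g * D.z b * g⁻¹) * g := by group
  rw [this, h2]; group

theorem th_mul {g g' : G} (hg : g ∈ NP L) (hg' : g' ∈ NP L) (b : K) :
    th D (g * g') b = th D g (th D g' b) := by
  apply th_eq ((NP L).mul_mem hg hg') (th_spec hg _).1
  rw [← (th_spec hg _).2, ← (th_spec hg' b).2]; group

theorem conj_W (hk : 1 ≤ k) {g x : G} (hg : g ∈ NP L) (hx : x ∈ L.W) : g * x * g⁻¹ ∈ L.W := by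
  refine L.conj_W hk (fun y hy => (hg.2 y).1 hy) (fun b => ?_) hx
  obtain ⟨c, hc, h⟩ := conj_z hg (b : K)
  show g * D.z b * g⁻¹ ∈ L.W
  rw [h]
  exact L.z_mem ⟨c, hc⟩

theorem a_mem (hk : 1 ≤ k) {g : G} (hg : g ∈ NP L) : L.a g ∈ L.W := by
  rcases (hg.2 _).1 L.t_mem_Y with h | h
  · exfalso
    have h1 := conj_W hk ((NP L).inv_mem hg) h
    have : g⁻¹ * (g * (hb hO).t * g⁻¹) * g⁻¹⁻¹ = (hb hO).t := by group
    rw [this] at h1
    exact L.t_not hk h1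
  · exact h

theorem β_conj (hk : 1 ≤ k) {g x : G} (hg : g ∈ NP L) (hx : x ∈ L.W) :
    (L.β (g * x * g⁻¹) : K) = th D g (L.β x) := by
  have h1 : L.β (g * x * g⁻¹) = (⟨th D g (L.β x), (th_spec hg _).1⟩ : Fq K n) := by
    apply L.β_eq (conj_W hk hg hx)
    rw [conj_pow, L.β_spec hx]
    exact (th_spec hg _).2
  rw [h1]

theorem ψ_mul (hk : 1 ≤ k) {g g' : G} (hg : g ∈ NP L) (hg' : g' ∈ NP L) :
    (L.ψ (g * g') : K) = th D g (L.ψ g') + L.ψ g := by
  have h1 := a_mem hk hg'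
  have h2 := conj_W hk hg h1
  rw [Lvl.ψ, L.a_mul, L.β_mul h2 (a_mem hk hg)]
  push_cast
  rw [β_conj hk hg h1]
  rfl

theorem ψ_comm {c : G} (hc : c * D.t = D.t * c) : L.ψ c = 0 := by
  have h : L.a c = 1 := by
    show c * D.t * c⁻¹ * D.t = 1
    rw [hc, mul_inv_cancel_right, D.t_sq]
  rw [Lvl.ψ, h, L.β_one]

/-! ### the torus -/

theorem h_P (l : Kˣ) {x : G} (hx : x ∈ D.P) :
    L.h l * x * (L.h l)⁻¹ = D.h l * x * (D.h l)⁻¹ := by
  obtain ⟨c, hc, h⟩ := L.h_eq l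
  have h1 := hO.O_P c hc _ (D.h_P l x hx)
  rw [h]
  calc c * D.h l * x * (c * D.h l)⁻¹ = c * (D.h l * x * (D.h l)⁻¹) * c⁻¹ := by group
    _ = _ := by rw [h1, mul_inv_cancel_right]

theorem h_t (l : Kˣ) : L.h l * D.t = D.t * L.h l := L.h_t l

theorem h_NP (l : Kˣ) : L.h l ∈ NP L := by
  refine ⟨fun x => ?_, fun y => L.h_Y_iff l y⟩
  constructor
  · intro hx
    rw [h_P l hx]; exact D.h_P l x hx
  · intro hx
    obtain ⟨y, hy, h⟩ := exists_h_P (D := D) l hx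
    rw [← h_P (L := L) l hy] at h
    rw [mul_left_cancel (mul_right_cancel h)]
    exact hy

theorem th_h (l : Kˣ) {b : K} (hb : bar n b = b) : th D (L.h l) b = N n (l : K) * b := by
  apply th_eq (h_NP l) (fixed_mul (fixed_N D.hq _) hb)
  rw [h_P l (D.z_mem b), h_z D l hb]

theorem ca_h (l : Kˣ) {x : G} (hx : x ∈ D.P) : D.ca (L.h l * x * (L.h l)⁻¹) = w n l * D.ca x := by
  rw [h_P l hx, D.h_ca l x hx]

/-! ### the elements acting trivially on `P / Z` -/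

theorem odd_units {K : Type*} [Field K] [Fintype K] {n : ℕ} (h : Qd K n) : Odd (Nat.card Kˣ) := by
  classical
  rw [Nat.card_eq_fintype_card, Fintype.card_units, h.hK]
  have : Even ((2 ^ n) ^ 2) := by
    have : Even (2 ^ n) := (Nat.even_pow.2 ⟨even_two, by have := h.hn; omega⟩)
    exact (Nat.even_pow.2 ⟨this, two_ne_zero⟩)
  have h4 : 1 ≤ (2 ^ n) ^ 2 := Nat.one_le_iff_ne_zero.2 (by positivity)
  exact Nat.Even.sub_odd h4 this odd_one

section triv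
variable {r : G} (hr : r ∈ NP L) (hr' : ∀ x ∈ D.P, ∃ b, r * x * r⁻¹ = D.z b * x)

include hr' in
theorem r_z (b : K) : r * D.z b * r⁻¹ = D.z b := by
  obtain ⟨b', hb', hbb⟩ := z_fixed D b
  obtain ⟨y, hy⟩ := exists_norm D.hq hb'
  obtain ⟨p, hp, rfl⟩ := D.ca_surj y
  obtain ⟨c, hc⟩ := hr' p hp
  rw [hbb, ← hy, ← D.P_sq p hp]
  have h1 := D.Q_Z p (D.P_le hp) c
  calc r * (p * p) * r⁻¹ = (r * p * r⁻¹) * (r * p * r⁻¹) := by group
    _ = D.z c * (p * D.z c) * p := by rw [hc]; group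
    _ = (D.z c * D.z c) * (p * p) := by rw [h1]; group
    _ = p * p := by rw [z_self, one_mul]

include hr hr' in
theorem key_aux (hk : 1 ≤ k) {l : Kˣ} (hl : N n (l : K) = 1) (j : ℕ) :
    ∃ x ∈ NP L, (∀ p ∈ D.P, ∃ p' ∈ D.P, D.ca p' = (∑ i ∈ Finset.range j, w n l ^ i) * D.ca p ∧
      x * p * x⁻¹ * p⁻¹ = r * p' * r⁻¹ * p'⁻¹) ∧ (L.ψ x : K) = j • (L.ψ r : K) := by
  induction j with
  | zero =>
    refine ⟨1, (NP L).one_mem, fun p hp => ⟨1, D.P.one_mem, ?_, by group⟩, ?_⟩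
    · rw [ca_one, Finset.range_zero, Finset.sum_empty, zero_mul]
    · rw [ψ_comm (by rw [one_mul, mul_one]), zero_smul]; rfl
  | succ j ih =>
    obtain ⟨x, hx, h1, h2⟩ := ih
    set m := L.h l with hm
    have hmN : m ∈ NP L := h_NP l
    have hmz : ∀ b, m⁻¹ * D.z b * m = D.z b := by
      intro b
      obtain ⟨b', hb', hbb⟩ := z_fixed D b
      have h3 : m * D.z b' * m⁻¹ = D.z b' := by
        rw [hm, h_P l (D.z_mem b'), h_z D l hb', hl, one_mul]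
      rw [hbb]
      calc m⁻¹ * D.z b' * m = m⁻¹ * (m * D.z b' * m⁻¹) * m := by rw [h3]
        _ = _ := by group
    have hyN : m⁻¹ * x * m ∈ NP L := (NP L).mul_mem ((NP L).mul_mem ((NP L).inv_mem hmN) hx) hmN
    refine ⟨r * (m⁻¹ * x * m), (NP L).mul_mem hr hyN, fun p hp => ?_, ?_⟩
    · have hmp : m * p * m⁻¹ ∈ D.P := (hmN.1 p).1 hp
      obtain ⟨q1, hq1, hca, h3⟩ := h1 _ hmp
      refine ⟨q1 * p, mul_mem hq1 hp, ?_, ?_⟩
      · rw [D.ca_mul q1 hq1 p hp, hca, hm, ca_h l hp, geom_sum_succ]; ring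
      · obtain ⟨ζ, hζ⟩ := hr' q1 hq1
        obtain ⟨η, hη⟩ := hr' p hp
        have e1 : r * q1 * r⁻¹ * q1⁻¹ = D.z ζ := by rw [hζ]; group
        have e2 : (m⁻¹ * x * m) * p * (m⁻¹ * x * m)⁻¹ = D.z ζ * p := by
          have e3 : (m⁻¹ * x * m) * p * (m⁻¹ * x * m)⁻¹ =
              (m⁻¹ * (x * (m * p * m⁻¹) * x⁻¹ * (m * p * m⁻¹)⁻¹) * m) * p := by group
          rw [e3, h3, e1, hmz]
        have e4 := r_z hr' ζ
        have hqz := D.Q_Z q1 (D.P_le hq1) η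
        calc r * (m⁻¹ * x * m) * p * (r * (m⁻¹ * x * m))⁻¹ * p⁻¹
            = r * ((m⁻¹ * x * m) * p * (m⁻¹ * x * m)⁻¹) * r⁻¹ * p⁻¹ := by group
          _ = (r * D.z ζ * r⁻¹) * (r * p * r⁻¹) * p⁻¹ := by rw [e2]; group
          _ = D.z ζ * D.z η := by rw [e4, hη]; group
          _ = D.z ζ * (q1 * D.z η) * q1⁻¹ := by rw [hqz]; group
          _ = (r * q1 * r⁻¹) * (r * p * r⁻¹) * p⁻¹ * q1⁻¹ := by rw [hζ, hη]; group
          _ = _ := by group
    · have hψy : L.ψ (m⁻¹ * x * m) = L.ψ x := by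
        have hmt : m * (hb hO).t = (hb hO).t * m := L.h_t l
        have e1 : x = m * (m⁻¹ * x * m) * m⁻¹ := by group
        have ha := a_mem hk hyN
        have h5 : L.ψ x = (hb hO).wt l * L.ψ (m⁻¹ * x * m) := by
          rw [e1, Lvl.ψ, Rinv.a_conj_comm (L := L) hmt, hm, L.β_h l (by rw [← hm]; exact ha), Lvl.ψ, ← hm]
          have e2 : m⁻¹ * (m * (m⁻¹ * x * m) * m⁻¹) * m = m⁻¹ * x * m := by group
          rw [e2]
        have h6 : (hb hO).wt l = 1 := Subtype.ext hl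
        rw [h5, h6, one_mul]
      rw [ψ_mul hk hr hyN, hψy, h2, succ_nsmul]
      congr 1
      apply th_eq hr
      · rw [← h2]; exact (L.ψ x).2
      · exact r_z hr' _

include hr hr' in
theorem ψ_triv (hk : 1 ≤ k) (h0 : ∀ g ∈ L.NH, L.ψ g = 0) : L.ψ r = 0 := by
  obtain ⟨l, hl, hl3, -⟩ := exists_norm_one D.hq
  obtain ⟨x, hx, h1, h2⟩ := key_aux hr hr' hk hl (Nat.card Kˣ)
  have hμ : w n l ≠ 1 := by rw [w_of_norm_one hl]; exact hl3
  have hμj : w n l ^ Nat.card Kˣ = 1 := by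
    have hw0 : w n l ≠ 0 := w_ne_zero l
    have h3 : (Units.mk0 (w n l) hw0) ^ Nat.card Kˣ = 1 := pow_card_eq_one'
    have h4 := congrArg Units.val h3
    rw [Units.val_pow_eq_pow_val, Units.val_mk0, Units.val_one] at h4
    exact h4
  have hS : ∑ i ∈ Finset.range (Nat.card Kˣ), w n l ^ i = 0 := by
    have h3 := geom_sum_mul (w n l) (Nat.card Kˣ)
    rw [hμj, sub_self] at h3
    exact (mul_eq_zero.1 h3).resolve_right (sub_ne_zero.2 hμ)
  have hxH : x ∈ (hb hO).H := mem_H.2 fun p hp => by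
    obtain ⟨p', hp', h3, h4⟩ := h1 p hp
    rw [hS, zero_mul] at h3
    obtain ⟨b, -, rfl⟩ := D.exists_z p' hp' h3
    rw [r_z hr' b, mul_inv_cancel] at h4
    rw [mul_inv_eq_one, mul_inv_eq_iff_eq_mul] at h4
    exact h4.symm
  have h3 := h0 x ⟨hxH, hx.2⟩
  rw [h3] at h2
  obtain ⟨m, hm⟩ := odd_units D.hq
  rw [hm] at h2
  have h4 : (2 * m + 1) • (L.ψ r : K) = L.ψ r := by
    rw [add_smul, mul_smul, two_smul, Field.add_self, zero_add, one_smul]
  rw [h4] at h2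
  exact Subtype.ext h2.symm

end triv

/-! ### the principle -/

section act
variable {g : G} (hg : g ∈ NP L)

/-- the action on `P / Z` -/
noncomputable def A (D : Pre G K n) (g : G) (b : K) : K :=
  D.ca (g * Classical.choose (D.ca_surj b) * g⁻¹)

include hg in
theorem A_spec {p : G} (hp : p ∈ D.P) : D.ca (g * p * g⁻¹) = A D g (D.ca p) := by
  obtain ⟨hx, hxa⟩ := Classical.choose_spec (D.ca_surj (D.ca p))
  unfold A
  set x := Classical.choose (D.ca_surj (D.ca p)) with hxd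
  obtain ⟨b, hb, h1⟩ := eq_z_mul D hp hx hxa.symm
  obtain ⟨c, hc, h2⟩ := conj_z hg b
  have e : g * (D.z b * x) * g⁻¹ = (g * D.z b * g⁻¹) * (g * x * g⁻¹) := by group
  rw [h1, e, h2, D.ca_mul _ (D.z_mem c) _ ((hg.1 x).1 hx), D.ca_z, zero_add]

include hg in
theorem A_add (b c : K) : A D g (b + c) = A D g b + A D g c := by
  obtain ⟨x, hx, rfl⟩ := D.ca_surj b
  obtain ⟨y, hy, rfl⟩ := D.ca_surj c
  rw [← D.ca_mul x hx y hy, ← A_spec hg hx, ← A_spec hg hy, ← A_spec hg (mul_mem hx hy),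
    ← D.ca_mul _ ((hg.1 x).1 hx) _ ((hg.1 y).1 hy)]
  congr 1; group

include hg in
theorem A_inj : Function.Injective (A D g) := by
  intro b c hbc
  have h0 : A D g (b + c) = 0 := by rw [A_add hg, hbc, Field.add_self]
  obtain ⟨x, hx, hxa⟩ := D.ca_surj (b + c)
  rw [← hxa, ← A_spec hg hx] at h0
  obtain ⟨b', hb', h1⟩ := D.exists_z _ ((hg.1 x).1 hx) h0
  obtain ⟨c', hc', h2⟩ := conj_z ((NP L).inv_mem hg) b'
  have h3 : x = D.z c' := by
    rw [← h2, ← h1]; group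
  rw [h3, D.ca_z] at hxa
  exact Field.add_eq_zero.1 hxa.symm

include hg in
theorem N_A (b : K) : N n (A D g b) = th D g (N n b) := by
  obtain ⟨x, hx, rfl⟩ := D.ca_surj b
  symm
  apply th_eq hg (fixed_N D.hq _)
  rw [← D.P_sq x hx, ← A_spec hg hx, ← D.P_sq _ ((hg.1 x).1 hx)]
  group

include hg in
theorem exists_semi : ∃ c : K, c ≠ 0 ∧ ∃ σ : K ≃+* K, ∀ b, A D g b = c * σ b := by
  obtain ⟨c, hc, σ, h1, h2⟩ := Semilinear.exists_semilinear (barE D.hq) (fun x => bar_bar D.hq x)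
    (by
      obtain ⟨x, hx⟩ := exists_Tr_one D.hq
      refine ⟨x, fun h' => ?_⟩
      have h3 : bar n x = x := h'
      rw [Tr_of_fixed h3] at hx
      exact zero_ne_one hx)
    (AddMonoidHom.mk' (A D g) (A_add hg)) (A_inj hg) (th D g)
    (fun x y _ _ => th_add hg x y) (fun b => N_A hg b)
  exact ⟨c, hc, σ, h1⟩

end act

theorem w_map (σ : K ≃+* K) (l : Kˣ) : w n (Units.map (σ : K →* K) l) = σ (w n l) := by
  unfold w
  rw [bar_def, bar_def, map_mul, map_pow, map_inv₀, map_pow]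
  rfl

theorem w_mul (l l' : Kˣ) : w n (l * l') = w n l * w n l' := by
  unfold w
  rw [Units.val_mul, bar_mul, mul_inv]; ring

theorem w_inv (l : Kˣ) : w n l⁻¹ = (w n l)⁻¹ := by
  have h := w_mul (n := n) l l⁻¹
  rw [mul_inv_cancel] at h
  have h1 : w n (1 : Kˣ) = 1 := by
    unfold w
    rw [Units.val_one, bar_one]; norm_num
  rw [h1] at h
  exact eq_inv_of_mul_eq_one_right h.symm

/-- **The principle.** -/
theorem ψ_zero (hk : 1 ≤ k) (h0 : ∀ g ∈ L.NH, L.ψ g = 0) {g : G} (hg : g ∈ NP L) :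
    L.ψ g = 0 := by
  obtain ⟨c, hc, σ, hσ⟩ := exists_semi hg
  set l := l1 D with hl
  set l' : Kˣ := Units.map (σ : K →* K) l * l⁻¹ with hl'
  set h := L.h l with hh
  set h' := L.h l' with hh'
  have hhN : h ∈ NP L := h_NP l
  have hh'N : h' ∈ NP L := h_NP l'
  have hgi := (NP L).inv_mem hg
  have hhi := (NP L).inv_mem hhN
  have hh'i := (NP L).inv_mem hh'N
  set e := g * h * g⁻¹ * h⁻¹ with he
  have heN : e ∈ NP L := (NP L).mul_mem ((NP L).mul_mem ((NP L).mul_mem hg hhN) hgi) hhi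
  have htriv : ∀ x ∈ D.P, ∃ b, (h'⁻¹ * e) * x * (h'⁻¹ * e)⁻¹ = D.z b * x := by
    intro x hx
    have inP : ∀ u ∈ NP L, ∀ y ∈ D.P, u * y * u⁻¹ ∈ D.P := fun u hu y hy => (hu.1 y).1 hy
    have inP' : ∀ u ∈ NP L, ∀ y ∈ D.P, u⁻¹ * y * u ∈ D.P := fun u hu y hy => by
      have := inP _ ((NP L).inv_mem hu) y hy
      rwa [inv_inv] at this
    have hx1 := inP' h hhN x hx
    set x1 := h⁻¹ * x * h with hx1d
    have e1 : w n l * D.ca x1 = D.ca x := by
      rw [← ca_h (L := L) l hx1, ← hh, hx1d]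
      congr 1; group
    have hx2 := inP' g hg x1 hx1
    set x2 := g⁻¹ * x1 * g with hx2d
    have e2 : A D g (D.ca x2) = D.ca x1 := by
      rw [← A_spec hg hx2, hx2d]
      congr 1; group
    have hx3 := inP h hhN x2 hx2
    set x3 := h * x2 * h⁻¹ with hx3d
    have e3 : D.ca x3 = w n l * D.ca x2 := ca_h l hx2
    have hx4 := inP g hg x3 hx3
    set x4 := g * x3 * g⁻¹ with hx4d
    have e4 : D.ca x4 = σ (w n l) * D.ca x1 := by
      rw [hx4d, A_spec hg hx3, e3, hσ, map_mul, ← e2, hσ]; ring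
    have hx5 := inP' h' hh'N x4 hx4
    set x5 := h'⁻¹ * x4 * h' with hx5d
    have e5 : w n l' * D.ca x5 = D.ca x4 := by
      rw [← ca_h (L := L) l' hx5, ← hh', hx5d]
      congr 1; group
    have e6 : D.ca x5 = D.ca x := by
      have hw : w n l' = σ (w n l) * (w n l)⁻¹ := by rw [hl', w_mul, w_map, w_inv]
      have hw0 : w n l ≠ 0 := w_ne_zero l
      have hσw0 : σ (w n l) ≠ 0 := (map_ne_zero σ).2 hw0
      rw [hw, e4] at e5
      have e7 : σ (w n l) * ((w n l)⁻¹ * D.ca x5) = σ (w n l) * D.ca x1 := by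
        rw [← e5]; ring
      have e8 := mul_left_cancel₀ hσw0 e7
      rw [← e1, ← e8, mul_inv_cancel_left₀ hw0]
    obtain ⟨b, -, h1⟩ := eq_z_mul D hx5 hx e6
    refine ⟨b, ?_⟩
    rw [← h1, hx5d, hx4d, hx3d, hx2d, hx1d, he]
    group
  have hψe' : L.ψ (h'⁻¹ * e) = 0 := ψ_triv ((NP L).mul_mem hh'i heN) htriv hk h0
  have hψh : L.ψ h = 0 := ψ_comm (h_t l)
  have hψh' : L.ψ h' = 0 := ψ_comm (h_t l')
  have hψe : (L.ψ e : K) = 0 := by
    have e1 : e = h' * (h'⁻¹ * e) := by group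
    rw [e1, ψ_mul hk hh'N ((NP L).mul_mem hh'i heN), hψe', hψh']
    show th D h' 0 + 0 = 0
    rw [th_zero hh'N, add_zero]
  have h1 : (L.ψ (g * h * g⁻¹) : K) = 0 := by
    have e1 : g * h * g⁻¹ = e * h := by rw [he]; group
    rw [e1, ψ_mul hk heN hhN, hψh, hψe]
    show th D e 0 + 0 = 0
    rw [th_zero heN, add_zero]
  have h2 : (L.ψ (g * h) : K) = L.ψ g := by
    rw [ψ_mul hk hg hhN, hψh]
    show th D g 0 + _ = _
    rw [th_zero hg, zero_add]
  have h3 : th D g (th D h (L.ψ g⁻¹)) + (L.ψ g : K) = 0 := by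
    rw [ψ_mul hk ((NP L).mul_mem hg hhN) hgi, h2, th_mul hg hhN] at h1
    exact h1
  have h4 : th D g (L.ψ g⁻¹) + (L.ψ g : K) = 0 := by
    rw [← ψ_mul hk hg hgi, mul_inv_cancel, ψ_comm (by rw [one_mul, mul_one])]
    rfl
  have hfx : bar n (L.ψ g⁻¹ : K) = L.ψ g⁻¹ := (L.ψ g⁻¹).2
  rw [th_h l hfx] at h3
  have h5 : th D g ((N n (l : K) + 1) * (L.ψ g⁻¹ : K)) = 0 := by
    rw [add_mul, one_mul, th_add hg]
    have : th D g (N n (l : K) * (L.ψ g⁻¹ : K)) = th D g (L.ψ g⁻¹) := by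
      rw [Field.add_eq_zero] at h3 h4
      rw [h3, h4]
    rw [this, Field.add_self]
  have h6 := th_eq_zero hg (fixed_mul (fixed_add (fixed_N D.hq _) (bar_one n)) hfx) h5
  have h7 : (L.ψ g⁻¹ : K) = 0 := (mul_eq_zero.1 h6).resolve_left (N_l1 D)
  rw [h7, th_zero hg, zero_add] at h4
  exact Subtype.ext h4

end Cfsg.Agent.StdU3.Tower.Princ
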