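import Cfsg.Agent.StdU3.Tower.ConjT
import Cfsg.Agent.StdU3.Tower.Princ

/-!
# First type: the conjugates of `t` in `W t`
-/

set_option autoImplicit false
set_option linter.unusedSectionVars false

namespace Cfsg.Agent.StdU3.Tower.ThreeI

open Cfsg.Agent.StdU3.Field Cfsg.Agent.StdU3.PreDef Cfsg.Agent.StdU3.LevelOne
open Cfsg.Agent.StdU3.LevelOneW Cfsg.Agent.StdU3.NormQ Cfsg.Agent.StdU3.Kernel
open Cfsg.Agent.StdU3.Next Cfsg.Agent.StdU3.Tower.Base Cfsg.Agent.StdU3.Tower.GBase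
open Cfsg.Agent.StdU3.Tower.Princ Cfsg.Agent.StdU3.Tower.ConjT

variable {G : Type*} [Group G] [Finite G] {K : Type*} [Field K] [Fintype K] [CharP K 2] {n : ℕ}
variable {D : Pre G K n} {O : Subgroup G} {hO : Amb D O} {k : ℕ} (L : Lvl (hb hO) k)

theorem even_Fq (D : Pre G K n) : Even (Nat.card (Fq K n)) := by
  have h1 : Nat.card (Fq K n) = 2 ^ n := Card.card_Fq D.hq
  rw [h1]
  exact Nat.even_pow.2 ⟨even_two, by have := D.hq.hn; omega⟩

/-- the elements of norm one of the torus centralise `W`. -/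
theorem h_triv (hk : 1 ≤ k) {l : Kˣ} (hl : N n (l : K) = 1) :
    ∀ x ∈ L.W, L.h l * x = x * L.h l := by
  have hwt : (hb hO).wt l = 1 := Subtype.ext hl
  have hone : ∀ x ∈ L.W, L.h 1 * x * (L.h 1)⁻¹ = x := by
    intro x hx
    have h1 := L.h_mul 1 1 x hx
    rw [mul_one] at h1
    exact (mul_left_cancel (mul_right_cancel h1)).symm
  have hpow : ∀ (m : ℕ), ∀ x ∈ L.W, L.h (l ^ m) * x * (L.h (l ^ m))⁻¹ =
      (L.h l) ^ m * x * ((L.h l) ^ m)⁻¹ := by
    intro m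
    induction m with
    | zero => intro x hx; rw [pow_zero, pow_zero, hone x hx]; group
    | succ m ih =>
      intro x hx
      rw [pow_succ', L.h_mul _ _ x hx, ih x hx, pow_succ']; group
  have hN : ∀ x ∈ L.W, (L.h l) ^ Nat.card Kˣ * x * ((L.h l) ^ Nat.card Kˣ)⁻¹ = x := by
    intro x hx
    rw [← hpow _ x hx, pow_card_eq_one', hone x hx]
  have hfix : ∀ x ∈ L.W, ∀ u, L.h l * x * (L.h l)⁻¹ = x * (hb hO).z u → u = 0 := by
    intro x hx u h
    have key : ∀ m : ℕ, (L.h l) ^ m * x * ((L.h l) ^ m)⁻¹ = x * ((hb hO).z u) ^ m := by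
      intro m
      induction m with
      | zero => simp
      | succ m ih =>
        have e1 : (L.h l) ^ (m + 1) * x * ((L.h l) ^ (m + 1))⁻¹ =
            L.h l * ((L.h l) ^ m * x * ((L.h l) ^ m)⁻¹) * (L.h l)⁻¹ := by
          rw [pow_succ']; group
        have e2 : L.h l * ((hb hO).z u) ^ m * (L.h l)⁻¹ = ((hb hO).z u) ^ m := by
          rw [← conj_pow, L.h_z, hwt, one_mul]
        rw [e1, ih]
        calc L.h l * (x * (hb hO).z u ^ m) * (L.h l)⁻¹
            = (L.h l * x * (L.h l)⁻¹) * (L.h l * (hb hO).z u ^ m * (L.h l)⁻¹) := by group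
          _ = _ := by rw [h, e2, pow_succ', mul_assoc]
    have h2 := key (Nat.card Kˣ)
    rw [hN x hx] at h2
    obtain ⟨m, hm⟩ := odd_units D.hq
    have h3 : ((hb hO).z u) ^ Nat.card Kˣ = (hb hO).z u := by
      rw [hm, pow_succ, pow_mul, pow_two, (hb hO).z_sq, one_pow, one_mul]
    rw [h3] at h2
    exact (hb hO).z_inj _ (left_eq_mul.1 h2)
  have key : ∀ j : ℕ, ∀ x ∈ L.W, x ^ 2 ^ j = 1 → L.h l * x * (L.h l)⁻¹ = x := by
    intro j
    induction j with
    | zero =>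
      intro x _ h
      rw [pow_zero, pow_one] at h
      rw [h]; group
    | succ j ih =>
      intro x hx h
      have h1 := ih (x * x) (L.W.mul_mem hx hx) (by
        rw [← pow_two, ← pow_mul, ← pow_succ', h])
      have hy : x⁻¹ * (L.h l * x * (L.h l)⁻¹) ∈ L.W := L.W.mul_mem (L.W.inv_mem hx) (L.h_W l x hx)
      have h2 : x⁻¹ * (L.h l * x * (L.h l)⁻¹) * (x⁻¹ * (L.h l * x * (L.h l)⁻¹)) = 1 := by
        have h3 := L.comm _ (L.h_W l x hx) _ (L.W.inv_mem hx)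
        calc x⁻¹ * (L.h l * x * (L.h l)⁻¹) * (x⁻¹ * (L.h l * x * (L.h l)⁻¹))
            = x⁻¹ * ((L.h l * x * (L.h l)⁻¹) * x⁻¹) * (L.h l * x * (L.h l)⁻¹) := by group
          _ = x⁻¹ * x⁻¹ * (L.h l * (x * x) * (L.h l)⁻¹) := by rw [h3]; group
          _ = 1 := by rw [h1]; group
      obtain ⟨b, hb⟩ := L.omega hk hy h2
      have h4 : L.h l * x * (L.h l)⁻¹ = x * (GBase.hb hO).z b := by rw [← hb]; group
      have h5 := hfix x hx b h4
      rw [h4, h5, (GBase.hb hO).z_zero, mul_one]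
  intro x hx
  have := key (k + 1) x hx (Next.pow_all L hx)
  rw [← mul_inv_eq_iff_eq_mul]; exact this

/-! ### the group `P ⟨d⟩` -/

section Pd
variable {d : G} (hdP : ∀ x ∈ D.P, x * d = d * x) (hdd : d * d = 1) (hdn : d ∉ D.P)

/-- `P ⟨d⟩` -/
def Pd (hdP : ∀ x ∈ D.P, x * d = d * x) (hdd : d * d = 1) : Subgroup G where
  carrier := {x | x ∈ D.P ∨ x * d ∈ D.P}
  one_mem' := Or.inl D.P.one_mem
  mul_mem' := by
    rintro x y (hx | hx) (hy | hy)
    · exact Or.inl (mul_mem hx hy)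
    · right
      rw [mul_assoc]; exact mul_mem hx hy
    · right
      have e : x * y * d = (x * d) * y := by rw [mul_assoc, hdP y hy, ← mul_assoc]
      rw [e]; exact mul_mem hx hy
    · left
      have h1 := hdP _ hy
      have e : x * y = (x * d) * (y * d) := by
        calc x * y = x * (y * (d * d)) := by rw [hdd, mul_one]
          _ = x * (y * d * d) := by group
          _ = x * (d * (y * d)) := by rw [h1]
          _ = _ := by group
      rw [e]; exact mul_mem hx hy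
  inv_mem' := by
    rintro x (hx | hx)
    · exact Or.inl (inv_mem hx)
    · right
      have h1 := hdP _ (inv_mem hx)
      have hdi : d⁻¹ = d := inv_eq_of_mul_eq_one_left hdd
      have e : x⁻¹ * d = (x * d)⁻¹ := by
        rw [mul_inv_rev, hdi]
        have h2 : (x * d)⁻¹ * d = d * (x * d)⁻¹ := h1
        rw [mul_inv_rev, hdi] at h2
        have h3 : d * x⁻¹ * d = d * (d * x⁻¹) := h2
        have h4 : d * (x⁻¹ * d) = d * (d * x⁻¹) := by rw [← mul_assoc]; exact h3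
        exact mul_left_cancel h4
      rw [e]; exact inv_mem hx

theorem mem_Pd {x : G} : x ∈ Pd hdP hdd ↔ x ∈ D.P ∨ x * d ∈ D.P := Iff.rfl

/-- elements of `P ⟨d⟩` act on it as elements of `P`. -/
theorem exists_p {x : G} (hx : x ∈ Pd hdP hdd) : ∃ p ∈ D.P, (x = p ∨ x = p * d) := by
  rcases hx with h | h
  · exact ⟨x, h, Or.inl rfl⟩
  · exact ⟨x * d, h, Or.inr (by rw [mul_assoc, hdd, mul_one])⟩

theorem cmt_d {p p' x y : G} (hp : p ∈ D.P) (hp' : p' ∈ D.P)
    (hx : x = p ∨ x = p * d) (hy : y = p' ∨ y = p' * d) (hdP : ∀ x ∈ D.P, x * d = d * x) :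
    x * y * x⁻¹ * y⁻¹ = p * p' * p⁻¹ * p'⁻¹ := by
  have h1 := hdP p' hp'
  have h2 := hdP _ (inv_mem hp)
  have h3 := hdP _ (inv_mem hp')
  have h4 := hdP _ (mul_mem (mul_mem hp hp') (inv_mem hp))
  rcases hx with rfl | rfl <;> rcases hy with rfl | rfl
  · rfl
  · calc x * (p' * d) * x⁻¹ * (p' * d)⁻¹ = x * p' * (d * x⁻¹) * d⁻¹ * p'⁻¹ := by group
      _ = _ := by rw [← h2]; group
  · calc p * d * y * (p * d)⁻¹ * y⁻¹ = p * (d * y) * d⁻¹ * p⁻¹ * y⁻¹ := by group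
      _ = _ := by rw [← h1]; group
  · calc p * d * (p' * d) * (p * d)⁻¹ * (p' * d)⁻¹ = p * (d * p') * p⁻¹ * d⁻¹ * p'⁻¹ := by group
      _ = (p * p') * (d * p⁻¹) * d⁻¹ * p'⁻¹ := by rw [← h1]; group
      _ = _ := by rw [← h2]; group

include hdn in
theorem tt_Pd : TT D (Pd hdP hdd) where
  z_mem := fun b => Or.inl (D.z_mem b)
  z_cen := by
    intro x hx b
    obtain ⟨p, hp, h⟩ := exists_p hdP hdd hx
    have h1 := D.Q_Z p (D.P_le hp) b
    have h2 := hdP _ (D.z_mem b)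
    rcases h with rfl | rfl
    · exact h1
    · rw [mul_assoc, ← h2, ← mul_assoc, h1, mul_assoc]
  cmt := by
    intro x hx y hy
    obtain ⟨p, hp, h⟩ := exists_p hdP hdd hx
    obtain ⟨p', hp', h'⟩ := exists_p hdP hdd hy
    refine ⟨Tr n (D.ca p * bar n (D.ca p')), fixed_Tr D.hq _, ?_⟩
    rw [cmt_d hp hp' h h' hdP, D.P_comm p hp p' hp']; group
  sq := by
    intro x hx
    obtain ⟨p, hp, h⟩ := exists_p hdP hdd hx
    refine ⟨N n (D.ca p), fixed_N D.hq _, ?_⟩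
    rw [← D.P_sq p hp]
    rcases h with rfl | rfl
    · rfl
    · have h1 := hdP p hp
      calc p * d * (p * d) = p * (d * p) * d := by group
        _ = p * p * (d * d) := by rw [← h1]; group
        _ = _ := by rw [hdd, mul_one]
  z_cmt := by
    intro b hb
    obtain ⟨y, hy⟩ := exists_Tr_eq D.hq (one_ne_zero : (1 : K) ≠ 0) hb
    obtain ⟨p, hp, hpa⟩ := D.ca_surj 1
    obtain ⟨p', hp', hpa'⟩ := D.ca_surj y
    refine ⟨p, Or.inl hp, p', Or.inl hp', ?_⟩
    rw [D.P_comm p hp p' hp', hpa, hpa', hy]; group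
  card := by
    rw [← Card.card_P D]
    have hf : Function.Injective (fun x : D.P ⊕ D.P => (Sum.elim
        (fun p : D.P => (⟨p, Or.inl p.2⟩ : Pd hdP hdd))
        (fun p : D.P => (⟨p * d, Or.inr (by rw [mul_assoc, hdd, mul_one]; exact p.2)⟩ :
          Pd hdP hdd)) x)) := by
      rintro (p | p) (p' | p') h
      · have := congrArg Subtype.val h
        exact congrArg Sum.inl (Subtype.ext this)
      · exfalso
        have h1 : (p : G) = p' * d := congrArg Subtype.val h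
        apply hdn
        have : d = (p' : G)⁻¹ * p := by rw [h1]; group
        rw [this]; exact mul_mem (inv_mem p'.2) p.2
      · exfalso
        have h1 : (p : G) * d = p' := congrArg Subtype.val h
        apply hdn
        have : d = (p : G)⁻¹ * p' := by rw [← h1]; group
        rw [this]; exact mul_mem (inv_mem p.2) p'.2
      · have h1 : (p : G) * d = p' * d := congrArg Subtype.val h
        exact congrArg Sum.inr (Subtype.ext (mul_right_cancel h1))
    have h1 := Nat.card_le_card_of_injective _ hf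
    rw [Nat.card_sum, ← two_mul] at h1
    exact h1

omit [Finite G] in
theorem P_two : IsPGroup 2 D.P := D.Q_two.to_le D.P_le

theorem Pd_two : IsPGroup 2 (Pd hdP hdd) := by
  rintro ⟨x, hx⟩
  obtain ⟨p, hp, h⟩ := exists_p hdP hdd hx
  refine ⟨2, Subtype.ext ?_⟩
  show x ^ 2 ^ 2 = 1
  have h1 : x * x = p * p := by
    rcases h with rfl | rfl
    · rfl
    · have h1 := hdP p hp
      calc p * d * (p * d) = p * (d * p) * d := by group
        _ = p * p * (d * d) := by rw [← h1]; group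
        _ = _ := by rw [hdd, mul_one]
  have : x ^ 2 ^ 2 = (x * x) * (x * x) := by
    rw [show (2 : ℕ) ^ 2 = 2 * 2 from rfl, pow_mul, pow_two, pow_two]
  rw [this, h1, D.P_sq p hp, z_self]

end Pd

/-- `t ∈ H`-conjugate version: an element conjugating `t` to `w t` and normalising `P`. -/
theorem exists_norm_P {Sig : Subgroup G} (F : LevelOneD.Fl D Sig)
    (ti : ∀ g, g * D.t = D.t * g → ∀ x ∈ D.P, x ≠ 1 → g * x * g⁻¹ ∈ D.P →
      ∀ y ∈ D.P, g * y * g⁻¹ ∈ D.P) (hk : 1 ≤ k) {w y : G} (hw : w ∈ L.W)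
    (hy : y * D.t * y⁻¹ = w * D.t) : ∃ m, m * (w * D.t) * m⁻¹ = D.t ∧
      ∀ p ∈ D.P, m * p * m⁻¹ ∈ D.P := by
  set d := w * D.t with hd
  have hwP : ∀ x ∈ D.P, x * w = w * x := mem_H.1 (L.W_le hw)
  have hdP : ∀ x ∈ D.P, x * d = d * x := by
    intro x hx
    rw [hd, ← mul_assoc, hwP x hx, mul_assoc, ← D.t_P x hx, mul_assoc]
  have hdd : d * d = 1 := by
    have := L.inv' hw
    have h1 : D.t * w * D.t = w⁻¹ := this
    calc w * D.t * (w * D.t) = w * (D.t * w * D.t) := by group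
      _ = 1 := by rw [h1, mul_inv_cancel]
  have hdn : d ∉ D.P := by
    intro h
    obtain ⟨b, hb, h1⟩ := GBase.cent_P h hdP
    apply L.t_not hk
    show D.t ∈ L.W
    have : D.t = w⁻¹ * D.z b := by rw [← h1, hd]; group
    rw [this]
    exact L.W.mul_mem (L.W.inv_mem hw) (L.z_mem ⟨b, hb⟩)
  obtain ⟨m, hmd, h1, h2, h3⟩ := exists_m (Pd_two hdP hdd) (fun x hx => by
    rcases hx with h | h
    · exact hdP x h
    · have h4 := hdP _ h
      have h5 : (x * d) * d = d * x * d := by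
        calc (x * d) * d = d * (x * d) := h4
          _ = _ := by group
      exact mul_right_cancel h5) hy F (tt_Pd hdP hdd hdn)
  refine ⟨m, hmd, ?_⟩
  obtain ⟨l, hl, hl3, -⟩ := exists_norm_one D.hq
  set h := L.h l with hh
  have hhw : h * w = w * h := h_triv L hk hl w hw
  have hht : h * D.t = D.t * h := L.h_t l
  have hhd : h * d = d * h := by rw [hd, ← mul_assoc, hhw, mul_assoc, hht, mul_assoc]
  set h' := m * h * m⁻¹ with hh'
  have hh't : h' * D.t = D.t * h' := by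
    rw [← hmd, hh']
    calc m * h * m⁻¹ * (m * d * m⁻¹) = m * (h * d) * m⁻¹ := by group
      _ = _ := by rw [hhd]; group
  have hh'P : ∀ y ∈ D.P, h' * y * h'⁻¹ ∈ D.P := by
    obtain ⟨c, hc, h4⟩ := h3 1
    have hc0 : D.z c ≠ 1 := by
      intro h5
      have h6 : D.z (1 : K) = 1 := by
        have : D.z (1 : K) = m⁻¹ * (m * D.z 1 * m⁻¹) * m := by group
        rw [this, h4, h5]; group
      exact one_ne_zero (D.z_inj 1 (bar_one n) h6)
    apply ti h' hh't (D.z c) (D.z_mem c) hc0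
    have h5 : h * D.z 1 * h⁻¹ = D.z 1 := by
      rw [hh, h_P l (D.z_mem 1), h_z D l (bar_one n), hl, one_mul]
    have h6 : h' * D.z c * h'⁻¹ = D.z c := by
      rw [← h4, hh']
      calc m * h * m⁻¹ * (m * D.z 1 * m⁻¹) * (m * h * m⁻¹)⁻¹ = m * (h * D.z 1 * h⁻¹) * m⁻¹ := by group
        _ = _ := by rw [h5]
    rw [h6]; exact D.z_mem c
  intro p hp
  -- `p = [h, p1]` modulo `Z`
  have hμ : PreDef.w n l + 1 ≠ 0 := by
    intro h4
    apply hl3
    rw [← w_of_norm_one hl]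
    exact Field.add_eq_zero.1 h4
  obtain ⟨p1, hp1, hp1a⟩ := D.ca_surj ((PreDef.w n l + 1)⁻¹ * D.ca p)
  have hhp1 : h * p1 * h⁻¹ ∈ D.P := ((h_NP l).1 p1).1 hp1
  have hcaeq : D.ca p = D.ca (h * p1 * h⁻¹ * p1⁻¹) := by
    rw [D.ca_mul _ hhp1 _ (inv_mem hp1), ca_inv D hp1, hh, ca_h l hp1, hp1a]
    field_simp
  obtain ⟨b, hb, h5⟩ := eq_z_mul D hp (mul_mem hhp1 (inv_mem hp1)) hcaeq
  obtain ⟨c, hc, h6⟩ := h3 b
  set x := m * p1 * m⁻¹ with hx
  have hxT := h1 p1 (Or.inl hp1)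
  have h7 : h' * x * h'⁻¹ * x⁻¹ ∈ D.P := by
    rcases LevelOneD.mem_Tt.1 hxT with h8 | h8
    · exact mul_mem (hh'P x h8) (inv_mem h8)
    · have h9 := mul_mem (hh'P _ h8) (inv_mem h8)
      have h10 : h'⁻¹ * D.t = D.t * h'⁻¹ := by
        rw [inv_mul_eq_iff_eq_mul, ← mul_assoc, hh't, mul_inv_cancel_right]
      have e : h' * (x * D.t) * h'⁻¹ * (x * D.t)⁻¹ = h' * x * h'⁻¹ * x⁻¹ := by
        calc h' * (x * D.t) * h'⁻¹ * (x * D.t)⁻¹ = h' * x * (D.t * h'⁻¹) * D.t⁻¹ * x⁻¹ := by group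
          _ = _ := by rw [← h10]; group
      rwa [e] at h9
  have e : m * p * m⁻¹ = D.z c * (h' * x * h'⁻¹ * x⁻¹) := by
    rw [← h6, h5, hh', hx]; group
  rw [e]
  exact mul_mem (D.z_mem c) h7

/-- **Field three, first type.** -/
theorem three {Sig : Subgroup G} (F : LevelOneD.Fl D Sig)
    (ti : ∀ g, g * D.t = D.t * g → ∀ x ∈ D.P, x ≠ 1 → g * x * g⁻¹ ∈ D.P →
      ∀ y ∈ D.P, g * y * g⁻¹ ∈ D.P) (hk : 1 ≤ k) (h0 : ∀ g ∈ L.NH, L.ψ g = 0) {w y : G}
    (hw : w ∈ L.W) (hy : y * D.t * y⁻¹ = w * D.t) : ∃ v ∈ L.W, v * D.t * v⁻¹ = w * D.t := by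
  classical
  have : Fact (Nat.Prime 2) := ⟨Nat.prime_two⟩
  obtain ⟨m, hmd, hmP⟩ := exists_norm_P L F ti hk hw hy
  have hmP' : ∀ x, x ∈ D.P ↔ m * x * m⁻¹ ∈ D.P := by
    intro x
    refine ⟨hmP x, fun hx => ?_⟩
    have hf : Function.Injective (fun x : D.P => (⟨m * x * m⁻¹, hmP x x.2⟩ : D.P)) := by
      intro a b hab
      have := congrArg Subtype.val hab
      simp only [mul_left_inj, mul_right_inj] at this
      exact Subtype.ext this
    obtain ⟨z, hz⟩ := Finite.surjective_of_injective hf ⟨_, hx⟩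
    have h1 := congrArg Subtype.val hz
    simp only [mul_left_inj, mul_right_inj] at h1
    rw [← h1]; exact z.2
  have hmH : ∀ g, g ∈ (hb hO).H → m⁻¹ * g * m ∈ (hb hO).H := by
    intro g hg
    refine mem_H.2 fun x hx => ?_
    have h1 := mem_H.1 hg _ (hmP x hx)
    calc x * (m⁻¹ * g * m) = m⁻¹ * (m * x * m⁻¹ * g) * m := by group
      _ = _ := by rw [h1]; group
  -- Sylow in `H`
  obtain ⟨P, hP⟩ := Count.Y_sylow L hk h0
  let Y1 : Subgroup (hb hO).H := (L.Y.map (MulAut.conj m⁻¹).toMonoidHom).subgroupOf (hb hO).H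
  have hY1 : ∀ y ∈ L.Y, m⁻¹ * y * m ∈ L.Y.map (MulAut.conj m⁻¹).toMonoidHom := fun y hy =>
    ⟨y, hy, by show m⁻¹ * y * m⁻¹⁻¹ = _; rw [inv_inv]⟩
  have hYtwo : IsPGroup 2 L.Y := fun y => ⟨k + 1, Subtype.ext (Next.pow_Y L y.2)⟩
  have hY1two : IsPGroup 2 Y1 := (hYtwo.map _).comap_subtype
  obtain ⟨S2, hS2⟩ := hY1two.exists_le_sylow
  obtain ⟨r, hr⟩ := MulAction.exists_smul_eq (hb hO).H S2 P
  have hrY : ∀ y ∈ L.Y, ((r : G) * m⁻¹) * y * ((r : G) * m⁻¹)⁻¹ ∈ L.Y := by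
    intro y hy
    have h1 : (⟨m⁻¹ * y * m, hmH y (L.Y_le hy)⟩ : (hb hO).H) ∈ (S2 : Subgroup (hb hO).H) :=
      hS2 (Subgroup.mem_subgroupOf.2 (hY1 y hy))
    have h2 : r * ⟨m⁻¹ * y * m, hmH y (L.Y_le hy)⟩ * r⁻¹ ∈ (P : Subgroup (hb hO).H) := by
      rw [← hr, Sylow.coe_subgroup_smul]
      exact Subgroup.smul_mem_pointwise_smul _ (MulAut.conj r) _ h1
    rw [hP, Subgroup.mem_subgroupOf] at h2
    have h3 : ((r : G) * m⁻¹) * y * ((r : G) * m⁻¹)⁻¹ =
      ((r * ⟨m⁻¹ * y * m, hmH y (L.Y_le hy)⟩ * r⁻¹ : (hb hO).H) : G) := by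
      show _ = (r : G) * (m⁻¹ * y * m) * (r : G)⁻¹
      group
    rw [h3]; exact h2
  set ν := (r : G) * m⁻¹ with hν
  have hrH : ∀ x ∈ D.P, x * (r : G) = r * x := mem_H.1 r.2
  have hνN : ν ∈ NP L := by
    refine ⟨fun x => ?_, fun y => ⟨hrY y, fun h => ?_⟩⟩
    · have h1 : ∀ z ∈ D.P, (r : G) * z * (r : G)⁻¹ = z := fun z hz => by
        rw [← hrH z hz, mul_inv_cancel_right]
      have h2 : ∀ z, (r : G) * z * (r : G)⁻¹ ∈ D.P → z ∈ D.P := by
        intro z hz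
        have h3 := hrH _ hz
        have h4 : z = (r : G)⁻¹ * ((r : G) * z * (r : G)⁻¹ * r) := by group
        rw [h4, h3, inv_mul_cancel_left]; exact hz
      have h5 : x ∈ D.P ↔ m⁻¹ * x * m ∈ D.P := by
        rw [hmP' (m⁻¹ * x * m)]
        have : m * (m⁻¹ * x * m) * m⁻¹ = x := by group
        rw [this]
      have e : ν * x * ν⁻¹ = (r : G) * (m⁻¹ * x * m) * (r : G)⁻¹ := by rw [hν]; group
      rw [e, h5]
      exact ⟨fun h => by rw [h1 _ h]; exact h, h2 _⟩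
    · have hf : Function.Injective (fun x : L.Y => (⟨ν * x * ν⁻¹, hrY x x.2⟩ : L.Y)) := by
        intro a b hab
        have := congrArg Subtype.val hab
        simp only [mul_left_inj, mul_right_inj] at this
        exact Subtype.ext this
      obtain ⟨z, hz⟩ := Finite.surjective_of_injective hf ⟨_, h⟩
      have h1 := congrArg Subtype.val hz
      simp only [mul_left_inj, mul_right_inj] at h1
      rw [← h1]; exact z.2
  have hψ := ψ_zero hk h0 hνN
  obtain ⟨v, hv, h1⟩ := L.β_eq_zero (a_mem hk hνN) hψ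
  have h2 : ν * D.t * ν⁻¹ = v * D.t * v⁻¹ := by
    have h3 : ν * D.t * ν⁻¹ = L.a ν * D.t := L.conj_t ν
    have h4 : v * D.t * v⁻¹ = L.a v * D.t := L.conj_t v
    rw [h3, h4, h1, L.a_W hv]
  -- `w t` is conjugate to `t` in `H`
  have hg : (r : G)⁻¹ * v ∈ (hb hO).H :=
    (hb hO).H.mul_mem ((hb hO).H.inv_mem r.2) (L.W_le hv)
  have h3 : ((r : G)⁻¹ * v) * D.t * ((r : G)⁻¹ * v)⁻¹ = w * D.t := by
    calc ((r : G)⁻¹ * v) * D.t * ((r : G)⁻¹ * v)⁻¹ = (r : G)⁻¹ * (v * D.t * v⁻¹) * r := by group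
      _ = m⁻¹ * D.t * m := by rw [← h2, hν]; group
      _ = m⁻¹ * (m * (w * D.t) * m⁻¹) * m := by rw [hmd]
      _ = w * D.t := by group
  have h4 := Count.main L (even_Fq D) hk h0 hg hw h3
  obtain ⟨v', hv', h5⟩ := L.β_eq_zero hw h4
  refine ⟨v', hv', ?_⟩
  have h6 : v' * D.t * v'⁻¹ = L.a v' * D.t := L.conj_t v'
  rw [h6, h5, L.a_W hv']

end Cfsg.Agent.StdU3.Tower.ThreeI
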