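import Cfsg.Agent.StdU3.Tower.ThreeI
import Cfsg.Agent.StdU3.Tower.End

/-!
# Second and third type: the involutions of `U t`
-/

set_option autoImplicit false
set_option linter.unusedSectionVars false

namespace Cfsg.Agent.StdU3.Tower.ThreeII

open Cfsg.Agent.StdU3.Field Cfsg.Agent.StdU3.PreDef Cfsg.Agent.StdU3.LevelOne
open Cfsg.Agent.StdU3.LevelOneW Cfsg.Agent.StdU3.NormQ Cfsg.Agent.StdU3.Kernel
open Cfsg.Agent.StdU3.Next Cfsg.Agent.StdU3.Tower.Base Cfsg.Agent.StdU3.Tower.GBase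
open Cfsg.Agent.StdU3.Tower.Princ Cfsg.Agent.StdU3.Tower.ConjT Cfsg.Agent.StdU3.Tower.End
open Cfsg.Agent.StdU3.Tower.Step Cfsg.Agent.StdU3.Tower.Half

section HB
variable {G : Type*} [Group G] {F : Type*} [Field F] {ι : Type*} [CommGroup ι] [CharP F 2]
variable {B : HB G F ι} {k : ℕ} {L : Lvl B k} {N : Cfsg.Agent.StdU3.Tower.Next.Nxt L}

/-- all elements of `W t` are conjugate to `t` under `V`. -/
theorem exists_rV (V : Hlf N) (hk : 1 ≤ k) {w : G} (hw : w ∈ L.W) : ∃ r ∈ V.V, L.a r = w := by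
  obtain ⟨r, hr, h⟩ := exists_r N hk hw
  rcases V.cov r hr with h1 | h1
  · exact ⟨r, h1, h⟩
  · refine ⟨r * B.t, h1, ?_⟩
    rw [L.a_mul, L.a_t, mul_one, mul_inv_cancel, one_mul, h]

/-- `z b` is a square in `W`. -/
theorem z_sq (hk : 1 ≤ k) (b : F) : ∃ w ∈ L.W, w * w = B.z b := by
  obtain ⟨x, hx, h⟩ := L.pw_surj b
  refine ⟨x ^ 2 ^ (k - 1), L.W.pow_mem hx _, ?_⟩
  rw [← pow_two, ← pow_mul, ← pow_succ]
  have : k - 1 + 1 = k := by omega
  rw [this, h]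

end HB

variable {G : Type*} [Group G] [Finite G] {K : Type*} [Field K] [Fintype K] [CharP K 2] {n : ℕ}
variable {D : Pre G K n} {O : Subgroup G} {hO : Amb D O} {k : ℕ} {L : Lvl (hb hO) k}

/-! ### adjoining `d` -/

/-- the structure of `P` -/
structure TY (D : Pre G K n) (Y0 : Subgroup G) : Prop where
  z_mem : ∀ b, D.z b ∈ Y0
  z_cen : ∀ k ∈ Y0, ∀ b, k * D.z b = D.z b * k
  cmt : ∀ k ∈ Y0, ∀ l ∈ Y0, ∃ b, bar n b = b ∧ k * l * k⁻¹ * l⁻¹ = D.z b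
  sq : ∀ k ∈ Y0, ∃ b, bar n b = b ∧ k * k = D.z b
  z_cmt : ∀ b, bar n b = b → ∃ k ∈ Y0, ∃ l ∈ Y0, D.z b = k * l * k⁻¹ * l⁻¹
  card : (2 ^ n) ^ 3 ≤ Nat.card Y0

/-- `Y0 ⟨d⟩` -/
def Adj (Y0 : Subgroup G) {d : G} (hdP : ∀ x ∈ Y0, x * d = d * x) (hdd : d * d = 1) :
    Subgroup G where
  carrier := {x | x ∈ Y0 ∨ x * d ∈ Y0}
  one_mem' := Or.inl Y0.one_mem
  mul_mem' := by
    rintro x y (hx | hx) (hy | hy)
    · exact Or.inl (mul_mem hx hy)
    · right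
      rw [mul_assoc]; exact mul_mem hx hy
    · right
      have e : x * y * d = (x * d) * y := by rw [mul_assoc, hdP y hy, ← mul_assoc]
      rw [e]; exact mul_mem hx hy
    · left
      have h1 := hdP _ hy
      have e : x * y = (x * d) * (y * d) := by
        calc x * y = x * (y * (d * d)) := by rw [hdd, mul_one]
          _ = x * (y * d * d) := by group
          _ = x * (d * (y * d)) := by rw [h1]
          _ = _ := by group
      rw [e]; exact mul_mem hx hy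
  inv_mem' := by
    rintro x (hx | hx)
    · exact Or.inl (inv_mem hx)
    · right
      have h1 := hdP _ (inv_mem hx)
      have hdi : d⁻¹ = d := inv_eq_of_mul_eq_one_left hdd
      have e : x⁻¹ * d = (x * d)⁻¹ := by
        rw [mul_inv_rev, hdi]
        have h2 : (x * d)⁻¹ * d = d * (x * d)⁻¹ := h1
        rw [mul_inv_rev, hdi] at h2
        have h3 : d * x⁻¹ * d = d * (d * x⁻¹) := h2
        have h4 : d * (x⁻¹ * d) = d * (d * x⁻¹) := by rw [← mul_assoc]; exact h3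
        exact mul_left_cancel h4
      rw [e]; exact inv_mem hx

section Adj
variable {Y0 : Subgroup G} {d : G} (hdP : ∀ x ∈ Y0, x * d = d * x) (hdd : d * d = 1)
  (X : TY D Y0) (hdn : d ∉ Y0)

theorem exists_p {x : G} (hx : x ∈ Adj Y0 hdP hdd) : ∃ p ∈ Y0, (x = p ∨ x = p * d) := by
  rcases hx with h | h
  · exact ⟨x, h, Or.inl rfl⟩
  · exact ⟨x * d, h, Or.inr (by rw [mul_assoc, hdd, mul_one])⟩

theorem cmt_d {p p' x y : G} (hp : p ∈ Y0) (hp' : p' ∈ Y0)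
    (hx : x = p ∨ x = p * d) (hy : y = p' ∨ y = p' * d) (hdP : ∀ x ∈ Y0, x * d = d * x) :
    x * y * x⁻¹ * y⁻¹ = p * p' * p⁻¹ * p'⁻¹ := by
  have h1 := hdP p' hp'
  have h2 := hdP _ (inv_mem hp)
  have h3 := hdP _ (inv_mem hp')
  rcases hx with rfl | rfl <;> rcases hy with rfl | rfl
  · rfl
  · calc x * (p' * d) * x⁻¹ * (p' * d)⁻¹ = x * p' * (d * x⁻¹) * d⁻¹ * p'⁻¹ := by group
      _ = _ := by rw [← h2]; group
  · calc p * d * y * (p * d)⁻¹ * y⁻¹ = p * (d * y) * d⁻¹ * p⁻¹ * y⁻¹ := by group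
      _ = _ := by rw [← h1]; group
  · calc p * d * (p' * d) * (p * d)⁻¹ * (p' * d)⁻¹ = p * (d * p') * p⁻¹ * d⁻¹ * p'⁻¹ := by group
      _ = (p * p') * (d * p⁻¹) * d⁻¹ * p'⁻¹ := by rw [← h1]; group
      _ = _ := by rw [← h2]; group

theorem sq_d {p x : G} (hp : p ∈ Y0) (hx : x = p ∨ x = p * d) (hdP : ∀ x ∈ Y0, x * d = d * x)
    (hdd : d * d = 1) : x * x = p * p := by
  rcases hx with rfl | rfl
  · rfl
  · have h1 := hdP p hp
    calc p * d * (p * d) = p * (d * p) * d := by group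
      _ = p * p * (d * d) := by rw [← h1]; group
      _ = _ := by rw [hdd, mul_one]

include X hdn in
theorem tt_adj : TT D (Adj Y0 hdP hdd) where
  z_mem := fun b => Or.inl (X.z_mem b)
  z_cen := by
    intro x hx b
    obtain ⟨p, hp, h⟩ := exists_p hdP hdd hx
    have h1 := X.z_cen p hp b
    have h2 := hdP _ (X.z_mem b)
    rcases h with rfl | rfl
    · exact h1
    · rw [mul_assoc, ← h2, ← mul_assoc, h1, mul_assoc]
  cmt := by
    intro x hx y hy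
    obtain ⟨p, hp, h⟩ := exists_p hdP hdd hx
    obtain ⟨p', hp', h'⟩ := exists_p hdP hdd hy
    obtain ⟨b, hb, h1⟩ := X.cmt p hp p' hp'
    exact ⟨b, hb, by rw [cmt_d hp hp' h h' hdP, h1]⟩
  sq := by
    intro x hx
    obtain ⟨p, hp, h⟩ := exists_p hdP hdd hx
    obtain ⟨b, hb, h1⟩ := X.sq p hp
    exact ⟨b, hb, by rw [sq_d hp h hdP hdd, h1]⟩
  z_cmt := by
    intro b hb
    obtain ⟨p, hp, l, hl, h⟩ := X.z_cmt b hb
    exact ⟨p, Or.inl hp, l, Or.inl hl, h⟩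
  card := by
    have hf : Function.Injective (fun x : Y0 ⊕ Y0 => (Sum.elim
        (fun p : Y0 => (⟨p, Or.inl p.2⟩ : Adj Y0 hdP hdd))
        (fun p : Y0 => (⟨p * d, Or.inr (by rw [mul_assoc, hdd, mul_one]; exact p.2)⟩ :
          Adj Y0 hdP hdd)) x)) := by
      rintro (p | p) (p' | p') h
      · have := congrArg Subtype.val h
        exact congrArg Sum.inl (Subtype.ext this)
      · exfalso
        have h1 : (p : G) = p' * d := congrArg Subtype.val h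
        apply hdn
        have : d = (p' : G)⁻¹ * p := by rw [h1]; group
        rw [this]; exact mul_mem (inv_mem p'.2) p.2
      · exfalso
        have h1 : (p : G) * d = p' := congrArg Subtype.val h
        apply hdn
        have : d = (p : G)⁻¹ * p' := by rw [← h1]; group
        rw [this]; exact mul_mem (inv_mem p.2) p'.2
      · have h1 : (p : G) * d = p' * d := congrArg Subtype.val h
        exact congrArg Sum.inr (Subtype.ext (mul_right_cancel h1))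
    have h1 := Nat.card_le_card_of_injective _ hf
    rw [Nat.card_sum, ← two_mul] at h1
    exact (Nat.mul_le_mul_left 2 X.card).trans h1

include X in
theorem adj_two : IsPGroup 2 (Adj Y0 hdP hdd) := by
  rintro ⟨x, hx⟩
  obtain ⟨p, hp, h⟩ := exists_p hdP hdd hx
  refine ⟨2, Subtype.ext ?_⟩
  show x ^ 2 ^ 2 = 1
  obtain ⟨b, -, h1⟩ := X.sq p hp
  have : x ^ 2 ^ 2 = (x * x) * (x * x) := by
    rw [show (2 : ℕ) ^ 2 = 2 * 2 from rfl, pow_mul, pow_two, pow_two]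
  rw [this, sq_d hp h hdP hdd, h1, z_self]

theorem adj_comm {x : G} (hx : x ∈ Adj Y0 hdP hdd) : x * d = d * x := by
  obtain ⟨p, hp, h⟩ := exists_p hdP hdd hx
  have h1 := hdP p hp
  rcases h with rfl | rfl
  · exact h1
  · rw [← mul_assoc, h1]

end Adj

/-! ### the group `T'` -/

section Td
variable {d p0 s0 : G} (hp0 : p0 ∈ D.P) (hs0 : s0 ∈ (hb hO).H)
  (hcW : ∀ w ∈ L.W, s0 * w = w * s0) (hd : d = p0 * s0 * D.t)

include hp0 hs0 hcW hd in
/-- `(p w) d (p w)⁻¹`. -/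
theorem conj_d {p w : G} (hp : p ∈ D.P) (hw : w ∈ L.W) :
    (p * w) * d * (p * w)⁻¹ = D.z (Tr n (D.ca p * bar n (D.ca p0))) * (w * w) * d := by
  have h1 := mem_H.1 (L.W_le hw)
  have h2 := mem_H.1 hs0
  have h3 := D.t_P _ (inv_mem hp)
  have h4 := L.inv' (L.W.inv_mem hw)
  rw [inv_inv] at h4
  have h5 : D.t * w⁻¹ * D.t = w := h4
  have h6 : D.t * w⁻¹ = w * D.t := by
    calc D.t * w⁻¹ = D.t * w⁻¹ * (D.t * D.t) := by rw [D.t_sq, mul_one]
      _ = (D.t * w⁻¹ * D.t) * D.t := by group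
      _ = _ := by rw [h5]
  have h7 := hcW w hw
  have h8 := D.P_comm p hp p0 hp0
  have h9 : p * p0 * p⁻¹ = D.z (Tr n (D.ca p * bar n (D.ca p0))) * p0 := by
    rw [h8]; group
  have h10 := h1 p0 hp0
  have h11 := h1 _ (D.z_mem (Tr n (D.ca p * bar n (D.ca p0))))
  rw [hd, mul_inv_rev]
  calc p * w * (p0 * s0 * D.t) * (w⁻¹ * p⁻¹)
      = p * (w * p0) * s0 * (D.t * w⁻¹) * p⁻¹ := by group
    _ = p * p0 * w * (s0 * w) * (D.t * p⁻¹) := by rw [← h10, h6]; group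
    _ = p * p0 * (w * w) * s0 * (p⁻¹ * D.t) := by rw [h7, h3]; group
    _ = p * p0 * (w * w) * (s0 * p⁻¹) * D.t := by group
    _ = p * p0 * ((w * w) * p⁻¹) * s0 * D.t := by rw [← h2 _ (inv_mem hp)]; group
    _ = (p * p0 * p⁻¹) * (w * w) * s0 * D.t := by
        rw [← mem_H.1 (L.W_le (L.W.mul_mem hw hw)) _ (inv_mem hp)]; group
    _ = D.z (Tr n (D.ca p * bar n (D.ca p0))) * (p0 * (w * w)) * s0 * D.t := by rw [h9]; group
    _ = _ := by rw [mem_H.1 (L.W_le (L.W.mul_mem hw hw)) _ hp0]; group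

/-- `C_{PW}(d)` -/
def Yd (L : Lvl (hb hO) k) (d : G) : Subgroup G where
  carrier := {x | (∃ p ∈ D.P, ∃ w ∈ L.W, x = p * w) ∧ x * d = d * x}
  one_mem' := ⟨⟨1, D.P.one_mem, 1, L.W.one_mem, by rw [mul_one]⟩, by rw [one_mul, mul_one]⟩
  mul_mem' := by
    rintro _ _ ⟨⟨p, hp, w, hw, rfl⟩, h1⟩ ⟨⟨p', hp', w', hw', rfl⟩, h2⟩
    refine ⟨⟨p * p', mul_mem hp hp', w * w', L.W.mul_mem hw hw', ?_⟩, ?_⟩
    · have h3 := mem_H.1 (L.W_le hw) p' hp'
      calc p * w * (p' * w') = p * (w * p') * w' := by group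
        _ = _ := by rw [← h3]; group
    · rw [mul_assoc, h2, ← mul_assoc, h1, mul_assoc]
  inv_mem' := by
    rintro _ ⟨⟨p, hp, w, hw, rfl⟩, h1⟩
    refine ⟨⟨p⁻¹, inv_mem hp, w⁻¹, L.W.inv_mem hw, ?_⟩, ?_⟩
    · rw [mul_inv_rev, mem_H.1 (L.W_le (L.W.inv_mem hw)) _ (inv_mem hp)]
    · rw [inv_mul_eq_iff_eq_mul, ← mul_assoc, h1, mul_inv_cancel_right]

include hp0 hs0 hcW hd in
theorem mem_Yd {p w : G} (hp : p ∈ D.P) (hw : w ∈ L.W) :
    p * w ∈ Yd L d ↔ w * w = D.z (Tr n (D.ca p * bar n (D.ca p0))) := by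
  have h1 := conj_d hp0 hs0 hcW hd hp hw
  have h3 := mem_H.1 (L.W_le (L.W.mul_mem hw hw)) _ (D.z_mem (Tr n (D.ca p * bar n (D.ca p0))))
  constructor
  · rintro ⟨-, h2⟩
    rw [h2, mul_inv_cancel_right] at h1
    have h4 : D.z (Tr n (D.ca p * bar n (D.ca p0))) * (w * w) = 1 := right_eq_mul.1 h1
    have h5 := eq_inv_of_mul_eq_one_right h4
    rw [h5, z_inv]
  · intro h2
    refine ⟨⟨p, hp, w, hw, rfl⟩, ?_⟩
    rw [h2, z_self, one_mul] at h1
    exact mul_inv_eq_iff_eq_mul.1 h1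

theorem exists_w (L : Lvl (GBase.hb hO) k) (hk : 1 ≤ k) {b : K} (hb : bar n b = b) :
    ∃ w ∈ L.W, w * w = D.z b := z_sq (L := L) hk ⟨b, hb⟩

theorem cmt_pw {p w p' w' : G} (hp : p ∈ D.P) (hw : w ∈ L.W) (hp' : p' ∈ D.P) (hw' : w' ∈ L.W) :
    (p * w) * (p' * w') * (p * w)⁻¹ * (p' * w')⁻¹ = D.z (Tr n (D.ca p * bar n (D.ca p'))) := by
  have h1 := mem_H.1 (L.W_le hw) p' hp'
  have h2 := L.comm w hw w' hw'
  have h3 := mem_H.1 (L.W_le hw') _ (inv_mem hp)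
  have h5 := mem_H.1 (L.W_le hw') p hp
  rw [mul_inv_rev, mul_inv_rev]
  calc p * w * (p' * w') * (w⁻¹ * p⁻¹) * (w'⁻¹ * p'⁻¹)
      = p * (w * p') * w' * w⁻¹ * p⁻¹ * w'⁻¹ * p'⁻¹ := by group
    _ = p * p' * (w * w') * w⁻¹ * p⁻¹ * w'⁻¹ * p'⁻¹ := by rw [← h1]; group
    _ = p * p' * (w' * p⁻¹) * w'⁻¹ * p'⁻¹ := by rw [h2]; group
    _ = p * p' * p⁻¹ * p'⁻¹ := by rw [← h3]; group
    _ = _ := by rw [D.P_comm p hp p' hp']; group

theorem sq_pw {p w : G} (hp : p ∈ D.P) (hw : w ∈ L.W) : (p * w) * (p * w) = (p * p) * (w * w) := by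
  have h1 := mem_H.1 (L.W_le hw) p hp
  calc p * w * (p * w) = p * (w * p) * w := by group
    _ = _ := by rw [← h1]; group

include hp0 hs0 hcW hd in
theorem ty_Yd (hk : 1 ≤ k) : TY D (Yd L d) where
  z_mem := by
    intro b
    have h1 := (mem_Yd hp0 hs0 hcW hd (D.z_mem b) L.W.one_mem).2 (by
      rw [D.ca_z, zero_mul, Tr_zero, z_zero, mul_one])
    rwa [mul_one] at h1
  z_cen := by
    rintro _ ⟨⟨p, hp, w, hw, rfl⟩, -⟩ b
    rw [mul_assoc, ← mem_H.1 (L.W_le hw) _ (D.z_mem b), ← mul_assoc, D.Q_Z p (D.P_le hp) b,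
      mul_assoc]
  cmt := by
    rintro _ ⟨⟨p, hp, w, hw, rfl⟩, -⟩ _ ⟨⟨p', hp', w', hw', rfl⟩, -⟩
    exact ⟨_, fixed_Tr D.hq _, cmt_pw hp hw hp' hw'⟩
  sq := by
    rintro _ ⟨⟨p, hp, w, hw, rfl⟩, h⟩
    have h1 := (mem_Yd hp0 hs0 hcW hd hp hw).1 ⟨⟨p, hp, w, hw, rfl⟩, h⟩
    exact ⟨_, fixed_add (fixed_N D.hq (D.ca p)) (fixed_Tr D.hq _), by
      rw [sq_pw hp hw, h1, D.P_sq p hp, D.z_add]⟩
  z_cmt := by
    intro b hb
    obtain ⟨y, hy⟩ := exists_Tr_eq D.hq (one_ne_zero : (1 : K) ≠ 0) hb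
    obtain ⟨p, hp, hpa⟩ := D.ca_surj 1
    obtain ⟨p', hp', hpa'⟩ := D.ca_surj y
    obtain ⟨w, hw, h1⟩ := exists_w L hk (fixed_Tr D.hq (D.ca p * bar n (D.ca p0)))
    obtain ⟨w', hw', h2⟩ := exists_w L hk (fixed_Tr D.hq (D.ca p' * bar n (D.ca p0)))
    refine ⟨p * w, (mem_Yd hp0 hs0 hcW hd hp hw).2 h1, p' * w',
      (mem_Yd hp0 hs0 hcW hd hp' hw').2 h2, ?_⟩
    rw [cmt_pw hp hw hp' hw', hpa, hpa', hy]
  card := by
    rw [← Card.card_P D]
    choose sW hsW hsq using fun a : K =>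
      exists_w L hk (fixed_Tr D.hq (a * bar n (D.ca p0)))
    have hf : Function.Injective (fun p : D.P => (⟨p * sW (D.ca p),
        (mem_Yd hp0 hs0 hcW hd p.2 (hsW _)).2 (hsq _)⟩ : Yd L d)) := by
      intro p p' h
      have h1 : (p : G) * sW (D.ca p) = p' * sW (D.ca p') := congrArg Subtype.val h
      have h2 : (p' : G)⁻¹ * p = sW (D.ca p') * (sW (D.ca p))⁻¹ := by
        rw [inv_mul_eq_iff_eq_mul, ← mul_assoc, ← h1, mul_inv_cancel_right]
      have h3 := mul_mem (inv_mem p'.2) p.2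
      obtain ⟨b, hb, h4⟩ := GBase.cent_P h3 (by
        have h5 : (p' : G)⁻¹ * p ∈ L.W := by
          rw [h2]; exact L.W.mul_mem (hsW _) (L.W.inv_mem (hsW _))
        exact mem_H.1 (L.W_le h5))
      have h5 : D.ca p = D.ca p' := by
        have h6 := D.ca_mul _ (inv_mem p'.2) _ p.2
        rw [h4, D.ca_z, ca_inv D p'.2] at h6
        exact (Field.add_eq_zero.1 h6.symm).symm
      rw [h5] at h1
      exact Subtype.ext (mul_right_cancel h1)
    exact Nat.card_le_card_of_injective _ hf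

/-- the elements `p s t`, `p ∉ Z`, are not conjugate to `t`. -/
theorem no_conj {Sig : Subgroup G} (F : LevelOneD.Fl D Sig) (hk : 1 ≤ k) (hp0 : p0 ∈ D.P)
    (hs0 : s0 ∈ (hb hO).H) (hcW : ∀ w ∈ L.W, s0 * w = w * s0) (hd : d = p0 * s0 * D.t)
    (ha : D.ca p0 ≠ 0) (hdd : d * d = 1) (hdn : ∀ p ∈ D.P, ∀ w ∈ L.W, d ≠ p * w) {y : G}
    (hy : y * D.t * y⁻¹ = d) : False := by
  have X := ty_Yd hp0 hs0 hcW hd hk
  have hdY : ∀ x ∈ Yd L d, x * d = d * x := fun x hx => hx.2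
  have hdn' : d ∉ Yd L d := by
    rintro ⟨⟨p, hp, w, hw, h⟩, -⟩
    exact hdn p hp w hw h
  obtain ⟨x, hx0, hx⟩ := exists_N_add_eq D.hq ha
  obtain ⟨p, hp, rfl⟩ := D.ca_surj x
  obtain ⟨w, hw, h1⟩ := exists_w L hk (fixed_Tr D.hq (D.ca p * bar n (D.ca p0)))
  have hv : p * w ∈ Yd L d := (mem_Yd hp0 hs0 hcW hd hp hw).2 h1
  have hvv : (p * w) * (p * w) = 1 := by
    rw [sq_pw hp hw, h1, D.P_sq p hp, ← D.z_add]
    have h2 : N n (D.ca p) + Tr n (D.ca p * bar n (D.ca p0)) = 0 := by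
      rw [N_add' D.hq] at hx
      have h3 : N n (D.ca p) + Tr n (D.ca p * bar n (D.ca p0)) + N n (D.ca p0) =
        N n (D.ca p0) := by linear_combination hx
      exact add_eq_right.1 h3
    rw [h2, z_zero]
  obtain ⟨c, hc⟩ := exists_Tr_eq D.hq hx0 (bar_one n)
  obtain ⟨p', hp', rfl⟩ := D.ca_surj c
  obtain ⟨w', hw', h2⟩ := exists_w L hk (fixed_Tr D.hq (D.ca p' * bar n (D.ca p0)))
  have hv' : p' * w' ∈ Yd L d := (mem_Yd hp0 hs0 hcW hd hp' hw').2 h2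
  have h3 := invol_central (adj_two hdY hdd X) (fun x hx => adj_comm hdY hdd hx) hy F
    (tt_adj hdY hdd X hdn') (Or.inl hv) hvv (p' * w') (Or.inl hv')
  have h4 := cmt_pw hp hw hp' hw'
  rw [h3, hc] at h4
  have h5 : D.z (1 : K) = 1 := by rw [← h4]; group
  exact one_ne_zero (D.z_inj 1 (bar_one n) h5)

end Td

/-! ### the second type -/

section II
variable {R : Subgroup G} (E : TypeII L R)

theorem three_II {Sig : Subgroup G} (F : LevelOneD.Fl D Sig) (hk : 1 ≤ k) {p s : G}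
    (hp : p ∈ D.P) (hs : s ∈ E.V.V) (h : (p * s * D.t) * (p * s * D.t) = 1) :
    (∃ r ∈ E.V.V, r * D.t * r⁻¹ = p * s * D.t) ∨ ∀ y : G, y * D.t * y⁻¹ ≠ p * s * D.t := by
  by_cases ha : D.ca p = 0
  · left
    obtain ⟨b, hb, rfl⟩ := D.exists_z p hp ha
    set s' := D.z b * s with hs'
    have hs'V : s' ∈ E.V.V := E.V.V.mul_mem (E.V.W_le (L.z_mem ⟨b, hb⟩)) hs
    have h1 : D.t * s' * D.t = (L.a s')⁻¹ * s' := ts L s'
    have h2 := E.sq s' hs'V
    have ha := L.a_mem hk (E.N.S_le (E.V.V_le hs'V))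
    have h3 := E.comm s' hs'V _ (E.V.W_le (L.W.inv_mem ha))
    have h4 : (GBase.hb hO).z (E.g * L.ψ s') = 1 := by
      rw [← h]
      calc (GBase.hb hO).z (E.g * L.ψ s') = (L.a s')⁻¹ * (s' * s') := by rw [h2]; group
        _ = (s' * (L.a s')⁻¹) * s' := by rw [h3]; group
        _ = s' * (D.t * s' * D.t) := by rw [h1]; group
        _ = _ := by group
    have h5 : L.ψ s' = 0 := (mul_eq_zero.1 ((GBase.hb hO).z_inj _ h4)).resolve_left E.g_ne
    obtain ⟨r, hr, h6⟩ := exists_rV E.V hk (ψ_ker E.V hs'V h5)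
    refine ⟨r, hr, ?_⟩
    have h7 : r * D.t * r⁻¹ = L.a r * D.t := L.conj_t r
    rw [h7, h6]
  · right
    intro y hy
    refine no_conj (L := L) F hk hp (E.N.S_le (E.V.V_le hs)).1
      (fun w hw => E.comm s hs w (E.V.W_le hw)) rfl ha h ?_ hy
    intro p' hp' w' hw' h1
    -- `t ∈ V`
    have hsP := mem_H.1 (E.N.S_le (E.V.V_le hs)).1
    have h2 : p⁻¹ * p' = s * D.t * w'⁻¹ := by
      calc p⁻¹ * p' = p⁻¹ * (p' * w') * w'⁻¹ := by group
        _ = p⁻¹ * (p * s * D.t) * w'⁻¹ := by rw [h1]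
        _ = _ := by group
    have h3 : p⁻¹ * p' ∈ (GBase.hb hO).H := by
      rw [h2]
      exact (GBase.hb hO).H.mul_mem ((GBase.hb hO).H.mul_mem (E.N.S_le (E.V.V_le hs)).1 (GBase.hb hO).t_mem)
        ((GBase.hb hO).H.inv_mem (L.W_le hw'))
    obtain ⟨b, hb, h4⟩ := GBase.cent_P (mul_mem (inv_mem hp) hp') (mem_H.1 h3)
    apply E.V.t_not
    have h5 : (GBase.hb hO).t = s⁻¹ * D.z b * w' := by
      show D.t = s⁻¹ * D.z b * w'
      rw [← h4, h2]; group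
    rw [h5]
    exact E.V.V.mul_mem (E.V.V.mul_mem (E.V.V.inv_mem hs) (E.V.W_le (L.z_mem ⟨b, hb⟩)))
      (E.V.W_le hw')

end II

/-! ### the third type -/

section III
variable {R : Subgroup G} (E : TypeIII L R)

theorem three_III (hk : 1 ≤ k) {p s : G}
    (hp : p ∈ D.P) (hs : s ∈ E.V.V) (h : (p * s * D.t) * (p * s * D.t) = 1) :
    ∃ r ∈ E.V.V, r * D.t * r⁻¹ = p * s * D.t := by
  have hsH := (E.N.S_le (E.V.V_le hs)).1
  have hsP := mem_H.1 hsH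
  have htP := D.t_P p hp
  have h1 : D.t * s * D.t = (L.a s)⁻¹ * s := ts L s
  have h2 : (p * p) * (s * (L.a s)⁻¹ * s) = 1 := by
    rw [← h]
    calc (p * p) * (s * (L.a s)⁻¹ * s) = p * (p * s) * ((L.a s)⁻¹ * s) := by group
      _ = p * (s * p) * (D.t * s * D.t) := by rw [← h1, hsP p hp]
      _ = p * s * (p * D.t) * s * D.t := by group
      _ = _ := by rw [← htP]; group
  obtain ⟨b, hb⟩ := E.sq s hs
  have h3 : (L.a s)⁻¹ = (GBase.hb hO).z (b + ⟨N n (D.ca p), fixed_N D.hq _⟩) := by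
    have h4 : s * (L.a s)⁻¹ * s⁻¹ = (GBase.hb hO).z (b + ⟨N n (D.ca p), fixed_N D.hq _⟩) := by
      rw [(GBase.hb hO).z_add]
      have h5 : p * p = (GBase.hb hO).z ⟨N n (D.ca p), fixed_N D.hq _⟩ := D.P_sq p hp
      have h6 : s * (L.a s)⁻¹ * s = (p * p)⁻¹ := eq_inv_of_mul_eq_one_right h2
      calc s * (L.a s)⁻¹ * s⁻¹ = (s * (L.a s)⁻¹ * s) * (s * s)⁻¹ := by group
        _ = _ := by rw [h6, hb, h5, (GBase.hb hO).z_inv, (GBase.hb hO).z_inv, ← (GBase.hb hO).z_add,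
          ← (GBase.hb hO).z_add, add_comm]
    have h7 := (GBase.hb hO).z_cen s⁻¹ ((GBase.hb hO).H.inv_mem hsH) (b + ⟨N n (D.ca p), fixed_N D.hq _⟩)
    calc (L.a s)⁻¹ = s⁻¹ * (s * (L.a s)⁻¹ * s⁻¹) * s := by group
      _ = _ := by rw [h4, h7]; group
  have h4 : L.a s = (GBase.hb hO).z (b + ⟨N n (D.ca p), fixed_N D.hq _⟩) := by
    rw [← (GBase.hb hO).z_inv, ← h3, inv_inv]
  have h5 : L.ψ s = 0 := by rw [Lvl.ψ, h4, L.β_z hk]
  have hsW := ψ_ker E.V hs h5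
  have h6 : p * p = 1 := by
    have h7 := L.a_W hsW
    rw [h7] at h2
    have h8 : s * (s * s)⁻¹ * s = 1 := by group
    rw [h8, mul_one] at h2
    exact h2
  rw [D.P_sq p hp] at h6
  have h7 := N_eq_zero (D.z_inj _ (fixed_N D.hq _) h6)
  obtain ⟨c, hc, h8⟩ := D.exists_z p hp h7
  have h9 : p * s ∈ L.W := by
    rw [h8]; exact L.W.mul_mem (L.z_mem ⟨c, hc⟩) hsW
  obtain ⟨r, hr, h10⟩ := exists_rV E.V hk h9
  refine ⟨r, hr, ?_⟩
  have h11 : r * D.t * r⁻¹ = L.a r * D.t := L.conj_t r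
  rw [h11, h10]

end III

end Cfsg.Agent.StdU3.Tower.ThreeII
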