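import Cfsg.Agent.StdU3.Tower.Cen
import Cfsg.Agent.StdU3.TermTwo

/-!
# The terminal group of the tower `U = P M`: coordinates, and the field `two` of `Term`

`al g` = coordinate on `P / Z` of the `P`-part of `g ∈ U`.
-/

set_option autoImplicit false
set_option linter.unusedSectionVars false
set_option linter.dupNamespace false

namespace Cfsg.Agent.StdU3.Tower.Two

open Cfsg.Agent.StdU3.Field Cfsg.Agent.StdU3.PreDef Cfsg.Agent.StdU3.LevelOne
open Cfsg.Agent.StdU3.LevelOneW Cfsg.Agent.StdU3.Next Cfsg.Agent.StdU3.Card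
open Cfsg.Agent.StdU3.TermTwo Cfsg.Agent.StdU3.Tower.Cen

variable {G : Type*} [Group G] {K : Type*} [Field K] [Fintype K] [CharP K 2] {n : ℕ}
variable {D : Pre G K n} {O : Subgroup G} (C : Cen D O)

/-! ### The coordinate `al` -/

open Classical in
/-- the coordinate of the `P`-part. -/
noncomputable def al (g : G) : K :=
  if h : ∃ p ∈ D.P, ∃ m ∈ C.M, g = p * m then D.ca h.choose else 0

theorem al_eq {p m : G} (hp : p ∈ D.P) (hm : m ∈ C.M) : al C (p * m) = D.ca p := by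
  have key : ∀ p0 ∈ D.P, (∃ m' ∈ C.M, p * m = p0 * m') → D.ca p0 = D.ca p := by
    rintro p0 h1 ⟨m', h2, h3⟩
    have h4 : p0⁻¹ * p = m' * m⁻¹ := by
      rw [eq_mul_inv_iff_mul_eq, mul_assoc, h3, ← mul_assoc, inv_mul_cancel, one_mul]
    obtain ⟨b, -, hb⟩ := P_M C (mul_mem (inv_mem h1) hp) (by
      rw [h4]; exact mul_mem h2 (inv_mem hm))
    have h5 := D.ca_mul _ (inv_mem h1) _ hp
    rw [hb, D.ca_z, ca_inv D h1] at h5
    exact Field.add_eq_zero.mp h5.symm
  have h : ∃ p' ∈ D.P, ∃ m' ∈ C.M, p * m = p' * m' := ⟨p, hp, m, hm, rfl⟩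
  unfold al
  rw [dif_pos h]
  exact key _ h.choose_spec.1 h.choose_spec.2

theorem al_P {p : G} (hp : p ∈ D.P) : al C p = D.ca p := by
  have := al_eq C hp C.M.one_mem
  rwa [mul_one] at this

theorem al_M {m : G} (hm : m ∈ C.M) : al C m = 0 := by
  have := al_eq C D.P.one_mem hm
  rwa [one_mul, ca_one] at this

theorem al_z (b : K) : al C (D.z b) = 0 := al_M C (C.z_mem b)

theorem mul_eq {p m p' m' : G} (hm : m ∈ C.M) (hp' : p' ∈ D.P) :
    p * m * (p' * m') = (p * p') * (m * m') := by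
  calc p * m * (p' * m') = p * (m * p') * m' := by group
    _ = _ := by rw [C.M_P m hm p' hp']; group

theorem al_mul {x y : G} (hx : x ∈ U C) (hy : y ∈ U C) : al C (x * y) = al C x + al C y := by
  obtain ⟨p, hp, m, hm, rfl⟩ := hx
  obtain ⟨p', hp', m', hm', rfl⟩ := hy
  rw [mul_eq C hm hp', al_eq C (mul_mem hp hp') (mul_mem hm hm'), al_eq C hp hm,
    al_eq C hp' hm', D.ca_mul p hp p' hp']

theorem al_ker {g : G} (hg : g ∈ U C) (h : al C g = 0) : g ∈ C.M := by
  obtain ⟨p, hp, m, hm, rfl⟩ := hg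
  rw [al_eq C hp hm] at h
  obtain ⟨b, -, rfl⟩ := D.exists_z p hp h
  exact mul_mem (C.z_mem b) hm

theorem card_U : Nat.card (U C) = Nat.card C.M * (2 ^ n) ^ 2 := by
  rw [card_of_hom (U C) C.M (al C) ⊤ (fun x hx y hy => al_mul C hx hy) _
    (fun _ _ => AddSubgroup.mem_top _) _, card_top_K D.hq]
  · intro x
    exact ⟨fun hx => ⟨M_le C hx, al_M C hx⟩, fun hx => al_ker C hx.1 hx.2⟩
  · intro a _
    obtain ⟨p, hp, rfl⟩ := D.ca_surj a
    exact ⟨p, P_le C hp, al_P C hp⟩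

theorem sq_U {p m : G} (hp : p ∈ D.P) (hm : m ∈ C.M) :
    p * m * (p * m) = D.z (N n (D.ca p)) * (m * m) := by
  rw [mul_eq C hm hp, D.P_sq p hp]

/-- centralizers in `U` have index at most `q`. -/
theorem card_cent [Finite G] {v : G} (hv : v ∈ U C) :
    Nat.card (U C) ≤ Nat.card ↥(U C ⊓ Subgroup.centralizer {v}) * 2 ^ n := by
  rw [← card_Z D]
  apply card_le_cent
  intro x hx
  obtain ⟨b, -, h⟩ := cmt_mem C hx hv
  rw [h]
  exact z_mem_Z D b

/-! ### `M` abelian -/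

section ab

variable {C} (A : Ab C)

include A

theorem omega {x : G} (hx : x ∈ C.M) (h : x * x = 1) : ∃ b, bar n b = b ∧ x = D.z b := by
  have key : ∀ j, j ≤ A.k → ∃ y ∈ C.M, x = y ^ 2 ^ j := by
    intro j
    induction j with
    | zero => intro _; exact ⟨x, hx, by rw [pow_zero, pow_one]⟩
    | succ j ih =>
      intro hj
      obtain ⟨y, hy, hxy⟩ := ih (by omega)
      have h1 : y ^ 2 ^ (j + 1) = 1 := by
        rw [pow_succ, pow_mul, ← hxy, pow_two, h]
      have h2 : y ^ 2 ^ A.k = 1 := by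
        obtain ⟨i, hi⟩ := Nat.exists_eq_add_of_le hj
        rw [hi, pow_add, pow_mul, h1, one_pow]
      obtain ⟨y', hy', hyy⟩ := A.pw_ker y hy h2
      exact ⟨y', hy', by rw [hxy, hyy, ← pow_two, ← pow_mul, pow_succ']⟩
  obtain ⟨y, hy, hxy⟩ := key A.k le_rfl
  obtain ⟨b, hb, hbb⟩ := A.pw y hy
  exact ⟨b, hb, by rw [hxy, hbb]⟩

theorem exists_sq {b : K} (hb : bar n b = b) : ∃ x ∈ C.M, x * x = D.z b := by
  obtain ⟨x, hx, h⟩ := A.pw_surj b hb
  obtain ⟨j, hj⟩ : ∃ j, A.k = j + 1 := ⟨A.k - 1, by have := A.hk; omega⟩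
  refine ⟨x ^ 2 ^ j, pow_mem hx _, ?_⟩
  rw [← h, hj, pow_succ, pow_mul, pow_two]

theorem card_M [Finite G] : (2 ^ n) ^ 2 ≤ Nat.card C.M := by
  have hs : ∀ b : Fq K n, ∃ x ∈ C.M, x * x = D.z b.1 := fun b => exists_sq A b.2
  choose s hsM hs using hs
  let f : Fq K n × Fq K n → C.M := fun x =>
    ⟨D.z x.1.1 * s x.2, mul_mem (C.z_mem _) (hsM _)⟩
  have hf : Function.Injective f := by
    rintro ⟨b, c⟩ ⟨b', c'⟩ h
    have h1 : D.z b.1 * s c = D.z b'.1 * s c' := congrArg Subtype.val h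
    have h2 : ∀ (b c : Fq K n), (D.z b.1 * s c) * (D.z b.1 * s c) = D.z c.1 := by
      intro b c
      have : D.z b.1 * s c * (D.z b.1 * s c) = D.z b.1 * (s c * D.z b.1) * s c := by group
      rw [this, z_comm_M C b.1 (hsM c), ← mul_assoc, z_self, one_mul, hs]
    have h3 : D.z c.1 = D.z c'.1 := by rw [← h2 b c, ← h2 b' c', h1]
    have h4 : c = c' := Subtype.ext (z_eq D c.2 c'.2 h3)
    subst h4
    have h5 : b = b' := Subtype.ext (z_eq D b.2 b'.2 (mul_right_cancel h1))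
    rw [h5]
  have h1 := Nat.card_le_card_of_injective f hf
  rwa [Nat.card_prod, card_Fq D.hq, ← sq] at h1

theorem mem_cent_ab {p w p' m' : G} (hp : p ∈ D.P) (hw : w ∈ C.M) (hp' : p' ∈ D.P)
    (hm' : m' ∈ C.M) : (p' * m') * (p * w) = (p * w) * (p' * m') ↔
      Tr n (D.ca p' * bar n (D.ca p)) = 0 := by
  have h1 := cmt_U C hp' hp hm' hw
  rw [cmt_P hp' hp] at h1
  have h2 : m' * w * m'⁻¹ * w⁻¹ = 1 := by
    rw [A.comm m' hm' w hw]; group
  rw [h2, mul_one] at h1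
  constructor
  · intro h
    apply D.z_inj _ (fixed_Tr D.hq _)
    rw [← h1, h]; group
  · intro h
    rw [h, z_zero] at h1
    rw [mul_inv_eq_one, mul_inv_eq_iff_eq_mul] at h1
    exact h1

/-- **the field `two` for `M` abelian.** -/
theorem two_ab [Finite G] {v : G} (hv : v ∈ U C) (h1 : v * v = 1) (hz : ∀ b, v ≠ D.z b) :
    HasTwo (n := n) (U C) v := by
  obtain ⟨p, hp, w, hw, rfl⟩ := hv
  have hvU : p * w ∈ U C := ⟨p, hp, w, hw, rfl⟩
  set a := D.ca p with had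
  have ha : a ≠ 0 := by
    intro h
    obtain ⟨b, hb, rfl⟩ := D.exists_z p hp h
    obtain ⟨b', -, h'⟩ := omega A (mul_mem (C.z_mem b) hw) h1
    exact hz b' h'
  have hCf : ∀ g ∈ U C ⊓ Subgroup.centralizer {p * w}, bar n (al C g / a) = al C g / a := by
    intro g hg
    rw [mem_cent] at hg
    obtain ⟨⟨p', hp', m', hm', rfl⟩, hgc⟩ := hg
    rw [mem_cent_ab A hp hw hp' hm'] at hgc
    rw [al_eq C hp' hm']
    apply fixed_div_of_Tr D.hq _ ha
    rw [Tr_comm D.hq]
    exact hgc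
  have hCf' : ∀ g ∈ U C, bar n (al C g / a) = al C g / a →
      g ∈ U C ⊓ Subgroup.centralizer {p * w} := by
    intro g hg hf
    obtain ⟨p', hp', m', hm', rfl⟩ := hg
    rw [al_eq C hp' hm'] at hf
    rw [mem_cent]
    refine ⟨⟨p', hp', m', hm', rfl⟩, ?_⟩
    rw [mem_cent_ab A hp hw hp' hm']
    have : D.ca p' * bar n a = (D.ca p' / a) * N n a := by
      rw [N_def]; field_simp
    rw [this, Tr_mul_fixed hf, Tr_of_fixed (fixed_N D.hq _), mul_zero]
  have hCc : ∀ g ∈ U C ⊓ Subgroup.centralizer {p * w},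
      ∀ k ∈ U C ⊓ Subgroup.centralizer {p * w}, g * k = k * g := by
    intro g hg k hk
    have hg1 := hCf g hg
    have hk1 := hCf k hk
    obtain ⟨⟨p1, hp1, m1, hm1, rfl⟩, -⟩ := mem_cent.mp hg
    obtain ⟨⟨p2, hp2, m2, hm2, rfl⟩, -⟩ := mem_cent.mp hk
    rw [al_eq C hp1 hm1] at hg1
    rw [al_eq C hp2 hm2] at hk1
    rw [mem_cent_ab A hp2 hm2 hp1 hm1]
    have h2 : D.ca p1 * bar n (D.ca p2) = (D.ca p1 / a * (D.ca p2 / a)) * N n a := by
      have h3 : bar n (D.ca p2) = (D.ca p2 / a) * bar n a := by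
        rw [← hk1, ← bar_mul, div_mul_cancel₀ _ ha]
      rw [h3, N_def]; field_simp
    rw [h2, Tr_mul_fixed (fixed_mul hg1 hk1), Tr_of_fixed (fixed_N D.hq _), mul_zero]
  let B : Subgroup G :=
    { carrier := {g | g ∈ U C ⊓ Subgroup.centralizer {p * w} ∧ g * g = 1}
      one_mem' := ⟨one_mem _, one_mul 1⟩
      mul_mem' := by
        rintro x y ⟨hx, hx1⟩ ⟨hy, hy1⟩
        refine ⟨mul_mem hx hy, ?_⟩
        have : x * y * (x * y) = x * (y * x) * y := by group
        rw [this, ← hCc x hx y hy]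
        have : x * (x * y) * y = (x * x) * (y * y) := by group
        rw [this, hx1, hy1, one_mul]
      inv_mem' := by
        rintro x ⟨hx, hx1⟩
        refine ⟨inv_mem hx, ?_⟩
        rw [← mul_inv_rev, hx1, inv_one] }
  have hB : ∀ g, g ∈ B ↔ g ∈ U C ⊓ Subgroup.centralizer {p * w} ∧ g * g = 1 := fun _ => Iff.rfl
  have hU4 : (2 ^ n) ^ 4 ≤ Nat.card (U C) := by
    rw [card_U C]
    have h2 : (2 ^ n) ^ 4 = (2 ^ n) ^ 2 * (2 ^ n) ^ 2 := by ring
    rw [h2]
    exact Nat.mul_le_mul_right _ (card_M A)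
  refine ⟨U C ⊓ Subgroup.centralizer {p * w}, inf_le_left, fun c hc => (mem_cent.mp hc).2, ?_, B,
    fun g hg => ((hB g).mp hg).1, fun g hg => ((hB g).mp hg).2, ?_, ?_⟩
  · have h3 := hU4.trans (card_cent C hvU)
    have h4 : (2 ^ n) ^ 4 = (2 ^ n) ^ 3 * 2 ^ n := by ring
    rw [h4] at h3
    exact Nat.le_of_mul_le_mul_right h3 (by positivity)
  · intro g hg c hc
    exact hCc g ((hB g).mp hg).1 c hc
  · have h3 := card_of_hom B (Z D) (fun g => al C g / a) (Fq K n) (by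
      intro x hx y hy
      have hx' := (mem_cent.mp ((hB x).mp hx).1).1
      have hy' := (mem_cent.mp ((hB y).mp hy).1).1
      show al C (x * y) / a = al C x / a + al C y / a
      rw [al_mul C hx' hy', add_div]) (by
      intro x
      constructor
      · rintro ⟨b, hb, rfl⟩
        refine ⟨?_, ?_⟩
        · rw [hB]
          refine ⟨hCf' _ (M_le C (C.z_mem b)) ?_, z_self D b⟩
          rw [al_z, zero_div, bar_zero]
        · show al C (D.z b) / a = 0
          rw [al_z, zero_div]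
      · rintro ⟨hx, h5⟩
        rw [hB] at hx
        have hxU := (mem_cent.mp hx.1).1
        have h6 : al C x = 0 := (div_eq_zero_iff.mp h5).resolve_right ha
        exact omega A (al_ker C hxU h6) hx.2) (by
      intro x hx
      exact hCf x ((hB x).mp hx).1) (by
      intro m hm
      obtain ⟨p', hp', hpa⟩ := D.ca_surj (m * a)
      obtain ⟨m', hm', hmm⟩ := exists_sq A (fixed_N D.hq (m * a))
      have h5 : al C (p' * m') / a = m := by
        rw [al_eq C hp' hm', hpa, mul_div_cancel_right₀ _ ha]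
      refine ⟨p' * m', ?_, h5⟩
      rw [hB]
      refine ⟨hCf' _ ⟨p', hp', m', hm', rfl⟩ (by rw [h5]; exact hm), ?_⟩
      rw [sq_U C hp' hm', hmm, hpa, z_self])
    rw [h3, card_Z, card_Fq D.hq, sq]

end ab

end Cfsg.Agent.StdU3.Tower.Two
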